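import Cfsg.Agent.Cores.GlaubermanZStar
import Cfsg.Agent.H38.FourGroup

/-!
Generation of the centraliser of a central involution from centralisers of involutions, by the Z*-theorem.
-/

set_option autoImplicit false

universe u

namespace Cfsg.Agent.H55.OmegaNine

/-- A finite group with commuting involutions acting freely on a subgroup. -/
theorem eq_bot_of_free {G : Type*} [Group G] [Finite G] {K : Subgroup G} {a b : G} (ha : a * a = 1) (hb : b * b = 1)
    (hab : a * b = b * a) (hKa : ∀ x ∈ K, a * x * a ∈ K) (hKb : ∀ x ∈ K, b * x * b ∈ K)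
    (fa : ∀ x ∈ K, a * x * a = x → x = 1) (fb : ∀ x ∈ K, b * x * b = x → x = 1)
    (fab : ∀ x ∈ K, a * b * x * (a * b) = x → x = 1) : K = ⊥ := by
  have key : ∀ c : G, c * c = 1 → (∀ x ∈ K, c * x * c ∈ K) → (∀ x ∈ K, c * x * c = x → x = 1) →
      ∀ x ∈ K, c * x * c = x⁻¹ := by
    intro c hc hK hf x hx
    let f : K → K := fun z => ⟨(z : G)⁻¹ * (c * z * c), K.mul_mem (K.inv_mem z.2) (hK z z.2)⟩
    have hinj : Function.Injective f := by
      intro y z h
      have h' : (y : G)⁻¹ * (c * y * c) = (z : G)⁻¹ * (c * z * c) := congrArg Subtype.val h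
      have hci : c⁻¹ = c := inv_eq_of_mul_eq_one_right hc
      have e1 : c * ((z : G) * (y : G)⁻¹) * c = (z : G) * (y : G)⁻¹ :=
        calc c * ((z : G) * (y : G)⁻¹) * c = c * z * (c * c) * (y : G)⁻¹ * c := by rw [hc]; group
          _ = (c * z * c) * (c * y * c)⁻¹ := by simp only [mul_inv_rev, hci, mul_assoc]
          _ = z * ((z : G)⁻¹ * (c * z * c)) * (((y : G)⁻¹ * (c * y * c))⁻¹) * (y : G)⁻¹ := by group
          _ = _ := by rw [← h']; group
      have := hf _ (K.mul_mem z.2 (K.inv_mem y.2)) e1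
      exact Subtype.ext (mul_inv_eq_one.1 this).symm
    obtain ⟨z, hz⟩ := Finite.injective_iff_surjective.1 hinj ⟨x, hx⟩
    have hz' : (z : G)⁻¹ * (c * z * c) = x := congrArg Subtype.val hz
    rw [← hz']
    calc c * ((z : G)⁻¹ * (c * z * c)) * c = c * (z : G)⁻¹ * c * z * (c * c) := by group
      _ = c * (z : G)⁻¹ * c * z := by rw [hc, mul_one]
      _ = _ := by
        simp only [mul_inv_rev, inv_inv, show c⁻¹ = c from inv_eq_of_mul_eq_one_right hc, mul_assoc]
  refine (Subgroup.eq_bot_iff_forall K).2 fun x hx => fab x hx ?_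
  have e1 := key a ha hKa fa
  have e2 := key b hb hKb fb
  calc a * b * x * (a * b) = a * (b * x * b) * a := by rw [show a * b * x * (a * b) = a * b * x * (b * a) by rw [hab]]; group
    _ = x := by rw [e2 x hx, e1 _ (K.inv_mem hx), inv_inv]

/-- If the conjugates of an involution stay inside `M` modulo a central involution, and so do the centralisers of a
four-group and of the involution, then `M` is everything. -/
theorem eq_top_of_isolated {G : Type u} [Group G] [Finite G] {w : G} (hw : ∀ g : G, w * g = g * w) (hw2 : w * w = 1)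
    (M : Subgroup G) {a b s : G} (ha : a * a = 1) (hb : b * b = 1) (hab : a * b = b * a) (hs : s * s = 1)
    (hs1 : s ≠ 1) (hsw : s ≠ w)
    (hca : ∀ h, (h * a * h⁻¹ = a ∨ h * a * h⁻¹ = a * w) → h ∈ M)
    (hcb : ∀ h, (h * b * h⁻¹ = b ∨ h * b * h⁻¹ = b * w) → h ∈ M)
    (hcab : ∀ h, (h * (a * b) * h⁻¹ = a * b ∨ h * (a * b) * h⁻¹ = a * b * w) → h ∈ M)
    (hcs : ∀ h, (h * s * h⁻¹ = s ∨ h * s * h⁻¹ = s * w) → h ∈ M)
    (hiso : ∀ h, let s' := h * s * h⁻¹; (s * s' = s' * s ∨ s * s' = s' * s * w) → s' = s ∨ s' = s * w) :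
    M = ⊤ := by
  set W := Subgroup.zpowers w
  have hWmem : ∀ x ∈ W, x = 1 ∨ x = w := by
    rintro x ⟨k, rfl⟩
    rcases Int.even_or_odd k with ⟨r, rfl⟩ | ⟨r, rfl⟩
    · left; dsimp only; rw [← two_mul, zpow_mul, zpow_two, hw2, one_zpow]
    · right; dsimp only; rw [zpow_add, zpow_one, zpow_mul, zpow_two, hw2, one_zpow, one_mul]
  have : W.Normal := ⟨fun x hx g => by
    obtain ⟨k, rfl⟩ := hx
    have : Commute g (w ^ k) := Commute.zpow_right (hw g).symm k
    rw [this.eq, mul_inv_cancel_right]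
    exact ⟨k, rfl⟩⟩
  let π := QuotientGroup.mk' W
  have hwinv : w⁻¹ = w := inv_eq_of_mul_eq_one_right hw2
  have hlift : ∀ {x y : G}, π x = π y → x = y ∨ x = y * w := by
    intro x y h
    have h' : y⁻¹ * x ∈ W := QuotientGroup.eq.1 h.symm
    rcases hWmem _ h' with e | e
    · exact Or.inl (by rw [inv_mul_eq_one] at e; exact e.symm)
    · exact Or.inr (by rw [← e, mul_inv_cancel_left])
  have hπw : π w = 1 := (QuotientGroup.eq_one_iff _).2 (Subgroup.mem_zpowers w)
  have hwM : w ∈ M := hcs w (Or.inl (by rw [hw s, mul_inv_cancel_right]))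
  set Mb := M.map π
  have hMb : ∀ g, π g ∈ Mb → g ∈ M := by
    rintro g ⟨m, hm, e⟩
    rcases hlift e with rfl | rfl
    · exact hm
    · exact by simpa [mul_assoc, hw2] using M.mul_mem hm hwM
  have hcent : ∀ t : G, (∀ h, (h * t * h⁻¹ = t ∨ h * t * h⁻¹ = t * w) → h ∈ M) →
      ∀ g : G ⧸ W, Commute g (π t) → g ∈ Mb := by
    intro t ht g hg
    obtain ⟨h, rfl⟩ := QuotientGroup.mk'_surjective W g
    refine ⟨h, ht h (hlift ?_), rfl⟩
    rw [map_mul, map_mul, map_inv]
    exact mul_inv_eq_iff_eq_mul.2 hg.eq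
  have hsb : orderOf (π s) = 2 := orderOf_eq_prime (by rw [pow_two, ← map_mul, hs, map_one]) fun h => by
    rcases hWmem s ((QuotientGroup.eq_one_iff _).1 h) with e | e
    · exact hs1 e
    · exact hsw e
  have hsiso : Cfsg.IsIsolatedInvolution (π s) := by
    refine ⟨hsb, fun g hg => ?_⟩
    obtain ⟨h, rfl⟩ := QuotientGroup.mk'_surjective W g
    rw [← map_inv, ← map_mul, ← map_mul] at hg ⊢
    have hc : π (s * (h * s * h⁻¹)) = π (h * s * h⁻¹ * s) := by rw [map_mul, map_mul π (h * s * h⁻¹)]; exact hg.eq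
    rcases hiso h (hlift hc) with e | e
    · rw [e]
    · rw [e, map_mul, hπw, mul_one]
  have hO := Cfsg.Agent.Cores.zStarProp (Cfsg.Agent.Cores.uniqueInvolutionCase Cfsg.Agent.Cores.quaternionCase)
    (G ⧸ W) (π s) hsiso
  set O := Cfsg.oddCore (G ⧸ W)
  have hOn : O.Normal := inferInstance
  have hOodd : Odd (Nat.card O) := Cfsg.Agent.Cores.odd_card_oddCore
  have hOM : O ≤ Mb := by
    refine H38.le_of_four_group (x := π a) (y := π b) (by rw [← map_mul, ha, map_one]) (by rw [← map_mul, hb, map_one])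
      (by rw [Commute, SemiconjBy, ← map_mul, ← map_mul, hab]) hOodd (fun g hg => hOn.conj_mem g hg _)
      (fun g hg => hOn.conj_mem g hg _) (fun g _ h => hcent a hca g h) (fun g _ h => hcent b hcb g h) fun g _ h => ?_
    rw [← map_mul] at h
    exact hcent _ hcab g h
  refine eq_top_iff.2 fun g _ => hMb g ?_
  have hss : π s * π s = 1 := by rw [← map_mul, hs, map_one]
  have hsinv : (π s)⁻¹ = π s := inv_eq_of_mul_eq_one_right hss
  set o' := π g * π s * (π g)⁻¹ * (π s)⁻¹
  have ho : o' ∈ O := by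
    have e : o' = (π s * π g * (π s)⁻¹ * (π g)⁻¹)⁻¹ := by simp only [o', mul_inv_rev, inv_inv, mul_assoc]
    rw [e]
    exact O.inv_mem (hO _)
  set m := H38.rt O o'
  have hm : m ∈ O := H38.rt_mem ho
  have hinv : π s * m * (π s)⁻¹ = m⁻¹ := by
    rw [H38.conj_rt, ← H38.rt_inv]
    congr 1
    calc π s * o' * (π s)⁻¹ = π s * π g * π s * (π g)⁻¹ * ((π s)⁻¹ * (π s)⁻¹) := by simp only [o', mul_assoc]
      _ = π s * π g * π s * (π g)⁻¹ := by rw [hsinv, hss, mul_one]
      _ = o'⁻¹ := by simp only [o', mul_inv_rev, inv_inv, hsinv, mul_assoc]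
  have hms : π s * m⁻¹ = m * π s := by
    rw [← hinv, ← mul_assoc, ← mul_assoc, hss, one_mul, hsinv]
  have hconj : m * π s * m⁻¹ = π g * π s * (π g)⁻¹ := by
    rw [mul_assoc, hms, ← mul_assoc, H38.rt_mul_self hOodd ho, show o' = π g * π s * (π g)⁻¹ * (π s)⁻¹ from rfl,
      inv_mul_cancel_right]
  have hcg : Commute (m⁻¹ * π g) (π s) := by
    refine mul_inv_eq_iff_eq_mul.1 ?_
    calc m⁻¹ * π g * π s * (m⁻¹ * π g)⁻¹ = m⁻¹ * (π g * π s * (π g)⁻¹) * m := by group
      _ = π s := by rw [← hconj]; group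
  have := Mb.mul_mem (hOM hm) (hcent s hcs _ hcg)
  rwa [mul_inv_cancel_left] at this

/-- Two involutions that are not conjugate centralise a common involution. -/
theorem exists_common_of_not_conj {G : Type*} [Group G] [Finite G] {a b : G} (ha : a * a = 1) (hb : b * b = 1)
    (h : ∀ g : G, g * a * g⁻¹ ≠ b) : ∃ w, w * w = 1 ∧ w ≠ 1 ∧ w * a = a * w ∧ w * b = b * w := by
  set u := a * b
  have hai : a⁻¹ = a := inv_eq_of_mul_eq_one_right ha
  have hbi : b⁻¹ = b := inv_eq_of_mul_eq_one_right hb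
  have hu : ∀ k : ℕ, a * u ^ k * a⁻¹ = (u ^ k)⁻¹ := fun k => by
    rw [← conj_pow, ← inv_pow]
    congr 1
    simp only [u, mul_inv_rev, hai, hbi, ← mul_assoc, ha, one_mul]
  rcases Nat.even_or_odd (orderOf u) with ⟨m, hm⟩ | ⟨m, hm⟩
  · have hpos := orderOf_pos u
    have hw2 : u ^ m * u ^ m = 1 := by rw [← pow_add, ← hm, pow_orderOf_eq_one]
    have hw1 : u ^ m ≠ 1 := fun e => by
      have := orderOf_le_of_pow_eq_one (by omega) e
      omega
    have hwa : a * u ^ m = u ^ m * a := by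
      have := hu m
      rw [inv_eq_of_mul_eq_one_right hw2] at this
      exact mul_inv_eq_iff_eq_mul.1 this
    refine ⟨u ^ m, hw2, hw1, hwa.symm, ?_⟩
    have hcu : Commute (u ^ m) u := (Commute.refl u).pow_left m
    have : b = a * u := by simp only [u, ← mul_assoc, ha, one_mul]
    rw [this]
    exact (Commute.mul_right hwa.symm hcu).eq
  · refine absurd ?_ (h (u ^ m))
    have h1 : a * (u ^ m)⁻¹ = u ^ m * a := by
      rw [← hu m, ← mul_assoc, ← mul_assoc, ha, one_mul, hai]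
    rw [mul_assoc, h1, ← mul_assoc, ← pow_add]
    have h2 : u ^ (m + m) = u⁻¹ := eq_inv_of_mul_eq_one_left (by
      rw [← pow_succ, show m + m + 1 = orderOf u by omega, pow_orderOf_eq_one])
    rw [h2]
    simp only [u, mul_inv_rev, hai, hbi, mul_assoc, ha, mul_one]

end Cfsg.Agent.H55.OmegaNine
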