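import Cfsg.Agent.H55.OmegaNine.Invol
import Cfsg.Agent.H55.OmegaNine.Gen

/-!
The centralisers of all involutions of the stabiliser of the tensor square, and the stabiliser itself.
-/

set_option autoImplicit false

namespace Cfsg.Agent.H55.OmegaNine

open Matrix QuadraticMap Cfsg.Agent.Orthogonal

section Algebra

variable {F : Type*} [Field F]

theorem rn_frame (h2 : (2 : F) ≠ 0) {n m : V3 F} (hn : n ⬝ᵥ n ≠ 0) (hm : m ⬝ᵥ m ≠ 0) (h : n ⬝ᵥ m = 0) :
    rn n * rn m = rn (n ⨯₃ m) ∧ rn n * rn m = rn m * rn n := by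
  obtain ⟨h1, h3, h4⟩ := frame_cross n m h
  have hk : n ⨯₃ m ⬝ᵥ n ⨯₃ m ≠ 0 := by rw [h4]; exact mul_ne_zero hn hm
  have key : ∀ v, (rn n * rn m) *ᵥ v = rn (n ⨯₃ m) *ᵥ v ∧ (rn m * rn n) *ᵥ v = rn (n ⨯₃ m) *ᵥ v := fun v => by
    rw [expand hn hm h v]
    constructor <;>
    simp only [mulVec_add, mulVec_smul, ← mulVec_mulVec, rn_self hn, rn_self hm, rn_perp h, rn_self hk,
      rn_perp (show m ⬝ᵥ n = 0 by rw [dotProduct_comm]; exact h), rn_perp h1, rn_perp h3,
      rn_perp (show n ⨯₃ m ⬝ᵥ n = 0 by rw [dotProduct_comm]; exact h1),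
      rn_perp (show n ⨯₃ m ⬝ᵥ m = 0 by rw [dotProduct_comm]; exact h3), mulVec_neg, neg_neg]
  have e1 : rn n * rn m = rn (n ⨯₃ m) := Matrix.ext_iff_mulVec.2 fun v => (key v).1
  exact ⟨e1, e1.trans (Matrix.ext_iff_mulVec.2 fun v => (key v).2).symm⟩

theorem axis_eq (h2 : (2 : F) ≠ 0) {a b : V3 F} (ha : a ⬝ᵥ a ≠ 0) (hb : b ⬝ᵥ b ≠ 0) (h : rn a = rn b) :
    ∃ c : F, b = c • a := by
  refine ⟨(a ⬝ᵥ b) / (a ⬝ᵥ a), ?_⟩
  have e := rn_self hb
  rw [← h, rn_mulVec, sub_eq_iff_eq_add, ← two_smul F b] at e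
  calc b = (2 : F)⁻¹ • (2 : F) • b := (inv_smul_smul₀ h2 b).symm
    _ = _ := by rw [← e, smul_smul]; congr 1; field_simp

theorem not_isSquare_axis (h2 : (2 : F) ≠ 0) {a b : V3 F} (ha : a ⬝ᵥ a ≠ 0) (hb : b ⬝ᵥ b ≠ 0) (h : rn a = rn b)
    (hs : IsSquare (a ⬝ᵥ a)) : IsSquare (b ⬝ᵥ b) := by
  obtain ⟨c, rfl⟩ := axis_eq h2 ha hb h
  obtain ⟨r, hr⟩ := hs
  exact ⟨c * r, by rw [smul_dotProduct, dotProduct_smul, hr, smul_eq_mul, smul_eq_mul]; ring⟩

theorem sk_pow_three (n : V3 F) : sk n * (sk n * sk n) = (-(n ⬝ᵥ n)) • sk n := by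
  rw [sk_mul_sk, mul_sub, mul_vecMulVec, sk_mulVec, cross_self, zero_vecMulVec, mul_smul_comm, mul_one, zero_sub,
    neg_smul]

theorem sk_pow_odd (n : V3 F) : ∀ i : ℕ, sk n ^ (2 * i + 1) = (-(n ⬝ᵥ n)) ^ i • sk n
  | 0 => by simp
  | i + 1 => by
    rw [show 2 * (i + 1) + 1 = (2 * i + 1) + 2 by ring, pow_add, sk_pow_odd n i, pow_two, smul_mul_assoc, sk_pow_three,
      smul_smul, pow_succ]

theorem exists_rotation [Finite F] (h2 : (2 : F) ≠ 0) (hq : 5 ≤ Nat.card F) {k : V3 F} (hk : k ⬝ᵥ k ≠ 0) :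
    ∃ R : M3 F, IsSO R ∧ R *ᵥ k = k ∧ R * R ≠ 1 := by
  classical
  set K := k ⬝ᵥ k with hK
  obtain ⟨t, ht0, ht⟩ : ∃ t : F, t ≠ 0 ∧ 1 + K * (t * t) ≠ 0 := by
    by_contra hcon
    push Not at hcon
    have := Fintype.ofFinite F
    rw [Nat.card_eq_fintype_card] at hq
    have h1 := hcon 1 one_ne_zero
    have hsub : (Finset.univ : Finset F) ⊆ {0, 1, -1} := fun t _ => by
      simp only [Finset.mem_insert, Finset.mem_singleton]
      rcases eq_or_ne t 0 with h | h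
      · exact Or.inl h
      · refine Or.inr (mul_self_eq_one_iff.1 ?_)
        have := hcon t h
        exact mul_left_cancel₀ hk (show K * (t * t) = K * 1 by linear_combination this - h1)
    have := (Finset.card_le_card hsub).trans Finset.card_le_three
    rw [Finset.card_univ] at this
    omega
  set D := 1 + K * (t * t) with hD
  set x := 2 * t / D
  set y := 2 * (t * t) / D
  have hxy : 2 * y - x * x - K * (y * y) = 0 := by
    simp only [x, y]
    field_simp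
    rw [hD]
    ring
  set S := sk k
  have hS3 : S * (S * S) = (-K) • S := sk_pow_three k
  have hST : Sᵀ = -S := sk_transpose k
  refine ⟨1 + x • S + y • (S * S), ⟨?_, ?_⟩, ?_, fun h => ?_⟩
  · rw [IsOrth, transpose_add, transpose_add, transpose_smul, transpose_smul, transpose_mul, transpose_one, hST,
      neg_mul_neg]
    simp only [add_mul, mul_add, one_mul, mul_one, smul_mul_assoc, mul_smul_comm, mul_neg, mul_assoc, hS3, smul_smul]
    linear_combination (norm := (match_scalars <;> ring)) hxy • (1 : M3 F) - hxy • (1 : M3 F) + hxy • (S * S)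
  · have : (1 + x • S + y • (S * S)).det = 1 - K * (2 * y - x * x - K * (y * y)) := by
      simp [S, K, det_fin_three, sk, Matrix.mul_apply, Fin.sum_univ_three, dotProduct, Matrix.one_apply]
      ring
    rw [this, hxy, mul_zero, sub_zero]
  · simp [add_mulVec, smul_mulVec, ← mulVec_mulVec, S, sk_mulVec]
  · have hT : (1 + x • S + y • (S * S))ᵀ = 1 + x • S + y • (S * S) := by
      calc (1 + x • S + y • (S * S))ᵀ = (1 + x • S + y • (S * S))ᵀ *
            ((1 + x • S + y • (S * S)) * (1 + x • S + y • (S * S))) := by rw [h, mul_one]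
        _ = _ := by
          rw [← mul_assoc]
          have ho : (1 + x • S + y • (S * S))ᵀ * (1 + x • S + y • (S * S)) = 1 := by
            rw [transpose_add, transpose_add, transpose_smul, transpose_smul, transpose_mul, transpose_one, hST,
              neg_mul_neg]
            simp only [add_mul, mul_add, one_mul, mul_one, smul_mul_assoc, mul_smul_comm, mul_neg, neg_mul, mul_assoc,
              hS3, smul_smul]
            linear_combination (norm := (match_scalars <;> ring)) hxy • (S * S)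
          rw [ho, one_mul]
    rw [transpose_add, transpose_add, transpose_smul, transpose_smul, transpose_mul, transpose_one, hST,
      neg_mul_neg] at hT
    have : (2 * x) • S = 0 := by linear_combination (norm := module) -hT
    rcases smul_eq_zero.1 this with e | e
    · exact mul_ne_zero h2 (div_ne_zero (mul_ne_zero h2 ht0) ht) e
    · exact hk (by rw [hK, sk_eq_zero e, dotProduct_zero])

theorem IsSO.pow {A : M3 F} (hA : IsSO A) : ∀ k : ℕ, IsSO (A ^ k)
  | 0 => by simpa using isSO_one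
  | k + 1 => by rw [pow_succ]; exact (IsSO.pow hA k).mul hA

/-- The order of a rotation. -/
theorem rotation_pow [Finite F] (h2 : (2 : F) ≠ 0) {A : M3 F} (hA : IsSO A) {n : V3 F} (hn : n ⬝ᵥ n ≠ 0)
    (hfix : A *ᵥ n = n) :
    (IsSquare (-(n ⬝ᵥ n)) → A ^ (Nat.card F - 1) = 1) ∧ (¬ IsSquare (-(n ⬝ᵥ n)) → A ^ (Nat.card F + 1) = 1) := by
  classical
  have := Fintype.ofFinite F
  obtain ⟨p, hp⟩ := CharP.exists F
  have := Fact.mk (CharP.char_is_prime F p)
  obtain ⟨m, -, hcard⟩ := FiniteField.card F p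
  obtain ⟨x, y, hxy⟩ := hA.exists_rot h2 hn hfix
  rw [Nat.card_eq_fintype_card]
  set q := Fintype.card F
  have hq2 : q % 2 = 1 := by
    rcases Nat.mod_two_eq_zero_or_one q with e | e
    · have hc := FiniteField.even_card_iff_char_two.2 e
      have h0 := ringChar.Nat.cast_ringChar (R := F)
      rw [hc] at h0
      exact absurd (by exact_mod_cast h0) h2
    · exact e
  have hK : -(n ⬝ᵥ n) ≠ 0 := neg_ne_zero.2 hn
  set S := sk n
  have hS1 : S ^ q = (-(n ⬝ᵥ n)) ^ (q / 2) • S := by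
    conv_lhs => rw [show q = 2 * (q / 2) + 1 by omega]
    exact sk_pow_odd n _
  have hAq : A ^ q = 1 + (x * (-(n ⬝ᵥ n)) ^ (q / 2)) • S +
      (y * ((-(n ⬝ᵥ n)) ^ (q / 2) * (-(n ⬝ᵥ n)) ^ (q / 2))) • (S * S) := by
    have hc : Commute (x • S) (y • (S * S)) :=
      (((Commute.refl S).mul_right (Commute.refl S)).smul_left x).smul_right y
    have key : ∀ a b : M3 F, Commute a b → (a + b) ^ q = a ^ q + b ^ q := fun a b hab => by
      rw [hcard]; exact add_pow_char_pow_of_commute _ _ hab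
    rw [hxy, add_assoc, key _ _ (Commute.one_left _), one_pow, key _ _ hc, smul_pow, smul_pow,
      FiniteField.pow_card, FiniteField.pow_card, (Commute.refl S).mul_pow, hS1, smul_smul, smul_mul_smul_comm,
      smul_smul, add_assoc]
  constructor
  · intro hsq
    have hAA : A ^ q = A := by
      rw [hAq, (FiniteField.isSquare_iff (by intro hc; have := ringChar.Nat.cast_ringChar (R := F); rw [hc] at this; exact h2 (by exact_mod_cast this)) hK).1 hsq,
        mul_one, mul_one, mul_one, ← hxy]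
    calc A ^ (q - 1) = A ^ (q - 1) * (A * Aᵀ) := by rw [show A * Aᵀ = 1 from hA.orth, mul_one]
      _ = A ^ q * Aᵀ := by rw [← mul_assoc, ← pow_succ, show q - 1 + 1 = q by omega]
      _ = 1 := by rw [hAA]; exact hA.orth
  · intro hns
    have hc2 : ringChar F ≠ 2 := by
      intro hc; have := ringChar.Nat.cast_ringChar (R := F); rw [hc] at this; exact h2 (by exact_mod_cast this)
    have hm1 : (-(n ⬝ᵥ n)) ^ (q / 2) = -1 := (FiniteField.pow_dichotomy hc2 hK).resolve_left fun e =>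
      hns ((FiniteField.isSquare_iff hc2 hK).2 e)
    have hAA : A ^ q = Aᵀ := by
      rw [hAq, hm1, hxy, transpose_add, transpose_add, transpose_smul, transpose_smul, transpose_mul, transpose_one,
        show Sᵀ = -S from sk_transpose n, neg_mul_neg]
      simp
    rw [pow_succ, hAA]
    exact hA.orth.tmul

/-- The exponent of the stabiliser of a unit axis. -/
theorem axis_pow [Finite F] (h2 : (2 : F) ≠ 0) {A : M3 F} (hA : IsSO A) {n : V3 F} (hn : n ⬝ᵥ n = 1)
    (hc : A * rn n = rn n * A) {E : ℕ} (hE : Even E)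
    (hE' : (IsSquare (-1 : F) → E = Nat.card F - 1) ∧ (¬ IsSquare (-1 : F) → E = Nat.card F + 1)) : A ^ E = 1 := by
  have hn0 : n ⬝ᵥ n ≠ 0 := by rw [hn]; exact one_ne_zero
  have hrot : ∀ B : M3 F, IsSO B → B *ᵥ n = n → B ^ E = 1 := fun B hB hBn => by
    obtain ⟨h1, h1'⟩ := rotation_pow h2 hB hn0 hBn
    rw [hn] at h1 h1'
    rcases em (IsSquare (-1 : F)) with hs | hs
    · rw [hE'.1 hs]; exact h1 hs
    · rw [hE'.2 hs]; exact h1' hs
  have e : rn (A *ᵥ n) = rn n := by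
    rw [← hA.orth.rn_conj, hc, mul_assoc, show A * Aᵀ = 1 from hA.orth, mul_one]
  obtain ⟨c, hAn⟩ := axis_eq h2 hn0 (by rw [hA.orth.dot]; exact hn0) e.symm
  have hc2 : c * c = 1 := by
    have := hA.orth.dot n n
    rwa [hAn, smul_dotProduct, dotProduct_smul, hn, smul_eq_mul, smul_eq_mul, mul_one] at this
  rcases mul_self_eq_one_iff.1 hc2 with rfl | rfl
  · exact hrot A hA (by rw [hAn, one_smul])
  obtain ⟨m, hnm, hm⟩ := exists_value_perp h2 hn0 1
  have hm0 : m ⬝ᵥ m ≠ 0 := by rw [hm]; exact one_ne_zero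
  set R := rn m
  have hRn : R *ᵥ n = -n := rn_perp (by rw [dotProduct_comm]; exact hnm)
  have hB : IsSO (A * R) := hA.mul (isSO_rn hm0)
  have hBn : (A * R) *ᵥ n = n := by rw [← mulVec_mulVec, hRn, mulVec_neg, hAn, neg_one_smul, neg_neg]
  obtain ⟨x, y, hxy⟩ := hB.exists_rot h2 hn0 hBn
  have hRS : R * sk n * R = -sk n := by
    have := (isSO_rn hm0).orth.sk_conj n
    rw [rn_transpose, (isSO_rn hm0).det, one_smul, hRn, sk_neg] at this
    exact this
  have hR2 : R * R = 1 := rn_mul_self m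
  have hflip : R * (A * R) * R = (A * R)ᵀ := by
    rw [hxy, transpose_add, transpose_add, transpose_smul, transpose_smul, transpose_mul, transpose_one, sk_transpose,
      neg_mul_neg, mul_add, mul_add, add_mul, add_mul, mul_one, hR2, mul_smul_comm, smul_mul_assoc, hRS, mul_smul_comm,
      smul_mul_assoc, show R * (sk n * sk n) * R = R * sk n * R * (R * sk n * R) by
        rw [show R * sk n * R * (R * sk n * R) = R * sk n * (R * R) * sk n * R by simp only [mul_assoc], hR2]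
        simp only [mul_one, mul_assoc], hRS, neg_mul_neg]
  have hA2 : A * A = 1 := by
    have : A * A = A * R * (R * (A * R) * R) := by
      rw [show A * R * (R * (A * R) * R) = A * (R * R) * A * (R * R) by simp only [mul_assoc], hR2, mul_one, mul_one]
    rw [this, hflip]
    exact hB.orth
  obtain ⟨r, rfl⟩ := hE
  rw [← two_mul, pow_mul, pow_two, hA2, one_pow]

end Algebra

namespace Coord

variable {F : Type*} [Field F] {ι : Type} [Fintype ι] [DecidableEq ι]
  {Q : QuadraticForm F (ι → F)} {N : Subgroup (GL ι F)} {C : Coord Q N} {H : Subgroup (O Q)}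

theorem Sw.trc_invol {g : O Q} {A : M3 F} (h : C.Sw g A Aᵀ) (hA : IsSO A) : C.trc g = -3 := by
  rw [h.trc, show A * Aᵀ = 1 from hA.orth, trace_one, Fintype.card_fin]
  norm_num

theorem one_ne_neg_three (C : Coord Q N) : (1 : F) ≠ -3 := fun e => mul_ne_zero C.h2 C.h2 (by linear_combination e)

theorem trc_left {g : O Q} {n : V3 F} (hn : n ⬝ᵥ n ≠ 0) (h : C.Tn g (rn n) 1) : C.trc g = -3 := by
  rw [h.trc, trace_rn hn, trace_one, Fintype.card_fin]; norm_num

theorem trc_right {g : O Q} {n : V3 F} (hn : n ⬝ᵥ n ≠ 0) (h : C.Tn g 1 (rn n)) : C.trc g = -3 := by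
  rw [h.trc, trace_rn hn, trace_one, Fintype.card_fin]; norm_num

theorem trc_both {g : O Q} {n m : V3 F} (hn : n ⬝ᵥ n ≠ 0) (hm : m ⬝ᵥ m ≠ 0) (h : C.Tn g (rn n) (rn m)) :
    C.trc g = 1 := by
  rw [h.trc, trace_rn hn, trace_rn hm]; norm_num

theorem sq_eq_one_of_conj {g h : O Q} (hg : g * g = 1) : h * g * h⁻¹ * (h * g * h⁻¹) = 1 := by
  rw [show h * g * h⁻¹ * (h * g * h⁻¹) = h * (g * g) * h⁻¹ by group, hg, mul_one, mul_inv_cancel]

theorem Tn.sq_one {g : O Q} {A B : M3 F} (h : C.Tn g A B) (hA : A * A = 1) (hB : B * B = 1) : g * g = 1 := by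
  have := h.mul h
  rw [hA, hB] at this
  exact this.ext tn_one

variable [Finite F]

/-- The generation step inside a centraliser. -/
theorem inN_of_isolated {w : O Q} (hwH : w ∈ H) (hw2 : w * w = 1) {a b s : O Q} (haH : a ∈ H) (hbH : b ∈ H)
    (hsH : s ∈ H) (haw : a * w = w * a) (hbw : b * w = w * b) (hsw' : s * w = w * s) (ha : a * a = 1)
    (hb : b * b = 1) (hab : a * b = b * a) (hs : s * s = 1) (hs1 : s ≠ 1) (hsw : s ≠ w)
    (hca : ∀ h ∈ H, h * w = w * h → (h * a * h⁻¹ = a ∨ h * a * h⁻¹ = a * w) → InN (N := N) h)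
    (hcb : ∀ h ∈ H, h * w = w * h → (h * b * h⁻¹ = b ∨ h * b * h⁻¹ = b * w) → InN (N := N) h)
    (hcab : ∀ h ∈ H, h * w = w * h → (h * (a * b) * h⁻¹ = a * b ∨ h * (a * b) * h⁻¹ = a * b * w) → InN (N := N) h)
    (hcs : ∀ h ∈ H, h * w = w * h → (h * s * h⁻¹ = s ∨ h * s * h⁻¹ = s * w) → InN (N := N) h)
    (hiso : ∀ h ∈ H, h * w = w * h → (s * (h * s * h⁻¹) = h * s * h⁻¹ * s ∨ s * (h * s * h⁻¹) = h * s * h⁻¹ * s * w) →
      h * s * h⁻¹ = s ∨ h * s * h⁻¹ = s * w)
    {x : O Q} (hx : x ∈ H) (hxw : x * w = w * x) : InN (N := N) x := by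
  have := finite_GO (Q := Q)
  set G : Subgroup (O Q) := H ⊓ Subgroup.centralizer {w}
  have mem : ∀ {g : O Q}, g ∈ H → g * w = w * g → g ∈ G := fun h1 h2 =>
    ⟨h1, Subgroup.mem_centralizer_singleton_iff.2 h2⟩
  have comm : ∀ g : G, (g : O Q) * w = w * g := fun g => Subgroup.mem_centralizer_singleton_iff.1 g.2.2
  have key := eq_top_of_isolated (G := G) (w := ⟨w, mem hwH rfl⟩) (fun g => Subtype.ext (comm g).symm) (Subtype.ext hw2)
    ((N.comap (H96.om Q)).subgroupOf G) (a := ⟨a, mem haH haw⟩) (b := ⟨b, mem hbH hbw⟩) (s := ⟨s, mem hsH hsw'⟩)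
    (Subtype.ext ha) (Subtype.ext hb) (Subtype.ext hab) (Subtype.ext hs) (fun e => hs1 (congrArg Subtype.val e))
    (fun e => hsw (congrArg Subtype.val e))
    (fun h e => hca h h.2.1 (comm h) (e.imp (congrArg Subtype.val) (congrArg Subtype.val)))
    (fun h e => hcb h h.2.1 (comm h) (e.imp (congrArg Subtype.val) (congrArg Subtype.val)))
    (fun h e => hcab h h.2.1 (comm h) (e.imp (congrArg Subtype.val) (congrArg Subtype.val)))
    (fun h e => hcs h h.2.1 (comm h) (e.imp (congrArg Subtype.val) (congrArg Subtype.val)))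
    (fun h => fun e => (hiso h h.2.1 (comm h) (e.imp (congrArg Subtype.val) (congrArg Subtype.val))).imp
      (fun e' => Subtype.ext e') (fun e' => Subtype.ext e'))
  exact (key ▸ Subgroup.mem_top (⟨x, mem hx hxw⟩ : G) : (⟨x, mem hx hxw⟩ : G) ∈ (N.comap (H96.om Q)).subgroupOf G)

/-- The centraliser of a product of two half-turns with square axes. -/
theorem inN_of_comm_ys (hH : Above (N := N) H) (hS : ¬ sieGroup Q ≤ H) {n m : V3 F} (hn : n ⬝ᵥ n = 1)
    (hm : m ⬝ᵥ m = 1) {w : O Q} (hwH : w ∈ H) (hw : C.Tn w (rn n) (rn m)) {x : O Q} (hx : x ∈ H)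
    (hxw : x * w = w * x) : InN (N := N) x := by
  have h2 := C.h2
  have hnf := C.noEl_of_not_le hH hS
  have hnf' := C.flip.noEl_of_not_le hH hS
  have hn0 : n ⬝ᵥ n ≠ 0 := by rw [hn]; exact one_ne_zero
  have hm0 : m ⬝ᵥ m ≠ 0 := by rw [hm]; exact one_ne_zero
  obtain ⟨n2, hnn2, hn2⟩ := exists_value_perp h2 hn0 1
  have hn20 : n2 ⬝ᵥ n2 ≠ 0 := by rw [hn2]; exact one_ne_zero
  obtain ⟨hp, hpc⟩ := rn_frame h2 hn0 hn20 hnn2
  set n3 := n ⨯₃ n2
  have hn30 : n3 ⬝ᵥ n3 ≠ 0 := by rw [(frame_cross n n2 hnn2).2.2]; exact mul_ne_zero hn0 hn20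
  obtain ⟨z, hzH, hz⟩ := C.exists_left_unit hH hn
  obtain ⟨b, hbH, hb⟩ := C.exists_left_unit hH hn2
  have hzw : C.Tn (z * w) 1 (rn m) := by
    have := hz.mul hw
    rwa [rn_mul_self, one_mul] at this
  have hbw : C.Tn (b * w) (rn n3) (rn m) := by
    have := hb.mul hw
    rwa [← hpc, hp, one_mul] at this
  have hzb : C.Tn (z * b) (rn n3) 1 := by
    have := hz.mul hb
    rwa [hp, one_mul] at this
  have hzbw : C.Tn (z * b * w) (rn n2) (rn m) := by
    have := hzb.mul hw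
    rwa [← hp, hpc, mul_assoc (rn n2), rn_mul_self, mul_one, one_mul] at this
  have hz2 : z * z = 1 := hz.sq_one (rn_mul_self n) (one_mul 1)
  refine inN_of_isolated hwH (hw.sq_one (rn_mul_self n) (rn_mul_self m)) hzH hbH hzH
    (hz.comm hw rfl (by rw [one_mul, mul_one])) (hb.comm hw hpc.symm (by rw [one_mul, mul_one]))
    (hz.comm hw rfl (by rw [one_mul, mul_one])) hz2 (hb.sq_one (rn_mul_self n2) (one_mul 1)) (hz.comm hb hpc rfl) hz2
    (fun e => rn_ne_one h2 hn0 ((hz.one_iff (isSO_rn hn0) isSO_one).1 e).1)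
    (fun e => rn_ne_one h2 hm0 (hw.inj (e ▸ hz) (isSO_rn hn0) (isSO_rn hm0) (isSO_rn hn0) isSO_one).2)
    ?_ ?_ ?_ ?_ ?_ hx hxw
  · rintro h hh - (e | e)
    · exact inN_of_comm_left hH hnf hn0 hz hh (mul_inv_eq_iff_eq_mul.1 e)
    · exact inN_of_swap hH hnf hn hm hz hh (e ▸ hzw)
  · rintro h hh - (e | e)
    · exact inN_of_comm_left hH hnf hn20 hb hh (mul_inv_eq_iff_eq_mul.1 e)
    · have := congrArg C.trc e
      rw [C.trc_conj, trc_left hn20 hb, trc_both hn30 hm0 hbw] at this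
      exact absurd this.symm C.one_ne_neg_three
  · rintro h hh - (e | e)
    · exact inN_of_comm_left hH hnf hn30 hzb hh (mul_inv_eq_iff_eq_mul.1 e)
    · have := congrArg C.trc e
      rw [C.trc_conj, trc_left hn30 hzb, trc_both hn20 hm0 hzbw] at this
      exact absurd this.symm C.one_ne_neg_three
  · rintro h hh - (e | e)
    · exact inN_of_comm_left hH hnf hn0 hz hh (mul_inv_eq_iff_eq_mul.1 e)
    · exact inN_of_swap hH hnf hn hm hz hh (e ▸ hzw)
  intro h hh hhw hc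
  set s' := h * z * h⁻¹ with hs'
  have hs'H : s' ∈ H := H.mul_mem (H.mul_mem hh hzH) (H.inv_mem hh)
  have hs'2 : s' * s' = 1 := sq_eq_one_of_conj hz2
  have hs'N : InN (N := N) s' := by
    rcases hc with hc | hc
    · exact inN_of_comm_left hH hnf hn0 hz hs'H hc.symm
    · have e : s'⁻¹ * z * (s'⁻¹)⁻¹ = z * w := by rw [inv_inv, mul_assoc, hc]; group
      have := InN.inv (inN_of_swap hH hnf hn hm hz (H.inv_mem hs'H) (e ▸ hzw))
      rwa [inv_inv] at this
  have hzwc : z * w = w * z := hz.comm hw rfl (by rw [one_mul, mul_one])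
  have hs'w : s' * w = w * s' := by
    rw [hs', show h * z * h⁻¹ * w = h * z * (h⁻¹ * w * h) * h⁻¹ by group,
      show h⁻¹ * w * h = w by rw [mul_assoc, ← hhw, inv_mul_cancel_left], mul_assoc h z w, hzwc, ← mul_assoc h w z, hhw]
    group
  have ht' : C.trc s' = -3 := by rw [hs', C.trc_conj, trc_left hn0 hz]
  have htw : C.trc (s' * w) = -3 := by
    have e : s' * w = h * (z * w) * h⁻¹ := by
      rw [hs', show h * (z * w) * h⁻¹ = h * z * h⁻¹ * (h * w * h⁻¹) by group, hhw, mul_inv_cancel_right]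
    rw [e, C.trc_conj, trc_right hm0 hzw]
  have hs'1 : s' ≠ 1 := fun e => rn_ne_one h2 hn0 ((hz.one_iff (isSO_rn hn0) isSO_one).1 (conj_eq_one_iff.1 e)).1
  rcases invol_cases (C := C) hH hs'H hs'N hs'2 hs'1 with ⟨k, hk, hT⟩ | ⟨k, hk, hT⟩ | ⟨k, l, hk, hl, -, hT⟩ |
    ⟨A, hA, hT⟩
  · have hk0 : k ⬝ᵥ k ≠ 0 := by rw [hk]; exact one_ne_zero
    have hcomm := (hT.comm_eq hw (isSO_rn hk0) isSO_one (isSO_rn hn0) (isSO_rn hm0) hs'w).1
    rw [(hT.mul hw).trc, one_mul, trace_rn hm0, mul_neg_one, neg_inj] at htw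
    rw [trace_rn_mul h2 hk0 hn0 hcomm htw] at hT
    exact Or.inl (hT.ext hz)
  · have hk0 : k ⬝ᵥ k ≠ 0 := by rw [hk]; exact one_ne_zero
    have hcomm := (hT.comm_eq hw isSO_one (isSO_rn hk0) (isSO_rn hn0) (isSO_rn hm0) hs'w).2
    rw [(hT.mul hw).trc, one_mul, trace_rn hn0, neg_one_mul, neg_inj] at htw
    rw [trace_rn_mul h2 hk0 hm0 hcomm htw] at hT
    exact Or.inr (hT.ext hzw)
  · exact absurd ((trc_both hk hl hT).symm.trans ht') C.one_ne_neg_three
  · refine absurd ?_ (sw_not_conj hH hS hA hT hs'H hn0 hz (x := h⁻¹) (H.inv_mem hh))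
    rw [hs']; group

/-- Products of half-turns with square axes are not conjugate to those with non-square axes. -/
theorem ys_not_ns (hH : Above (N := N) H) (hS : ¬ sieGroup Q ≤ H) {n m : V3 F} (hn : n ⬝ᵥ n = 1) (hm : m ⬝ᵥ m = 1)
    {s : O Q} (hsH : s ∈ H) (hs : C.Tn s (rn n) (rn m)) {k l : V3 F} (hk : k ⬝ᵥ k ≠ 0) (hks : ¬ IsSquare (k ⬝ᵥ k))
    {h : O Q} (hh : h ∈ H) (hu : C.Tn (h * s * h⁻¹) (rn k) (rn l)) : False := by
  have h2 := C.h2
  have hn0 : n ⬝ᵥ n ≠ 0 := by rw [hn]; exact one_ne_zero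
  have hm0 : m ⬝ᵥ m ≠ 0 := by rw [hm]; exact one_ne_zero
  obtain ⟨R, hR, hRk, hR2⟩ := exists_rotation h2 C.hq hk
  obtain ⟨g0, hg0⟩ := C.exists_tn hR.orth (isOrth_one (F := F))
  have hg := hg0.mul hg0
  rw [one_mul] at hg
  set g := g0 * g0
  have hgH : g ∈ H := hH.2 _ (C.sq_mem_Om g0) hg.inN
  have hRc : R * rn k = rn k * R := by
    calc R * rn k = R * rn k * (Rᵀ * R) := by rw [hR.orth.tmul, mul_one]
      _ = rn k * R := by rw [← mul_assoc, hR.orth.rn_conj, hRk]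
  have hgu : g * (h * s * h⁻¹) = h * s * h⁻¹ * g :=
    hg.comm hu (by rw [mul_assoc, hRc, ← mul_assoc, hRc, mul_assoc]) (by rw [one_mul, mul_one])
  set g' := h⁻¹ * g * h
  have hg'H : g' ∈ H := H.mul_mem (H.mul_mem (H.inv_mem hh) hgH) hh
  have hg's : g' * s = s * g' := by
    calc h⁻¹ * g * h * s = h⁻¹ * (g * (h * s * h⁻¹)) * h := by group
      _ = h⁻¹ * (h * s * h⁻¹ * g) * h := by rw [hgu]
      _ = s * (h⁻¹ * g * h) := by group
  have hg'N := inN_of_comm_ys hH hS hn hm hsH hs hg'H hg's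
  have hq := C.hq
  have hc2 : ringChar F ≠ 2 := by
    intro hc; have := ringChar.Nat.cast_ringChar (R := F); rw [hc] at this; exact h2 (by exact_mod_cast this)
  have := Fintype.ofFinite F
  rw [Nat.card_eq_fintype_card] at hq
  have hodd : Fintype.card F % 2 = 1 := FiniteField.odd_card_of_char_ne_two hc2
  have hneg : IsSquare (-(k ⬝ᵥ k)) ↔ ¬ IsSquare (-1 : F) := by
    have e : sqSign (-(k ⬝ᵥ k)) = sqSign (-1 : F) * sqSign (k ⬝ᵥ k) := by
      rw [← sqSign_mul h2 (neg_ne_zero.2 one_ne_zero) hk, neg_one_mul]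
    rw [sqSign_of_not_isSquare hks] at e
    rw [← sqSign_eq_one_iff, ← sqSign_eq_one_iff, e]
    rcases Int.units_eq_one_or (sqSign (-1 : F)) with h' | h' <;> rw [h'] <;> decide
  have fin : ∀ E E' : ℕ, Even E → ((IsSquare (-1 : F) → E = Nat.card F - 1) ∧
      (¬ IsSquare (-1 : F) → E = Nat.card F + 1)) → R ^ E' = 1 → (E' = E + 2 ∨ E = E' + 2) → E' % 4 = 2 → False := by
    intro E E' hE hEs hRE' hd h4
    have hgE : g' ^ (2 * E) = 1 := by
      obtain ⟨A, B, hA, hB, hT | hT⟩ := InN.normal_form (C := C) hg'N (hH.1 hg'H)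
      · have hc := hT.comm_eq hs hA hB (isSO_rn hn0) (isSO_rn hm0) hg's
        have e := tn_pow hT (2 * E)
        have eA : A ^ (2 * E) = 1 := by rw [mul_comm, pow_mul, axis_pow h2 hA hn hc.1 hE hEs, one_pow]
        have eB : B ^ (2 * E) = 1 := by rw [mul_comm, pow_mul, axis_pow h2 hB hm hc.2 hE hEs, one_pow]
        rw [eA, eB] at e
        exact e.ext tn_one
      · have hT2 := hT.mul hT
        have hcs : g' * g' * s = s * (g' * g') := by rw [mul_assoc, hg's, ← mul_assoc, hg's, mul_assoc]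
        have hc := hT2.comm_eq hs (hA.mul hB) (hB.mul hA) (isSO_rn hn0) (isSO_rn hm0) hcs
        have e := tn_pow hT2 E
        rw [axis_pow h2 (hA.mul hB) hn hc.1 hE hEs, axis_pow h2 (hB.mul hA) hm hc.2 hE hEs, ← pow_two, ← pow_mul] at e
        exact e.ext tn_one
    have hgE' : g ^ (2 * E) = 1 := by
      have : g = h * g' * h⁻¹ := by simp only [g']; group
      rw [this, conj_pow, hgE, mul_one, mul_inv_cancel]
    have hR4 : R ^ (4 * E) = 1 := by
      have e := tn_pow hg (2 * E)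
      rw [hgE', one_pow, ← pow_two, ← pow_mul, ← mul_assoc] at e
      exact (tn_one.inj e isSO_one isSO_one (hR.pow _) isSO_one).1.symm
    have d1 : orderOf R ∣ 4 * E := orderOf_dvd_of_pow_eq_one hR4
    have d2 : orderOf R ∣ E' := orderOf_dvd_of_pow_eq_one hRE'
    have d3 : orderOf R ∣ 8 := by
      rcases hd with e | e
      · have := Nat.dvd_sub (d2.mul_left 4) d1
        rwa [show 4 * E' - 4 * E = 8 by omega] at this
      · have := Nat.dvd_sub d1 (d2.mul_left 4)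
        rwa [show 4 * E - 4 * E' = 8 by omega] at this
    have d4 : orderOf R ∣ 2 := by
      have hle := Nat.le_of_dvd (by norm_num) d3
      obtain ⟨c, hc⟩ := d2
      generalize orderOf R = o at *
      interval_cases o <;> first | omega | norm_num at d3 ⊢
    refine hR2 ?_
    rw [← pow_two]
    exact orderOf_dvd_iff_pow_eq_one.1 d4
  obtain ⟨h1, h1'⟩ := rotation_pow h2 hR hk hRk
  rw [Nat.card_eq_fintype_card] at h1 h1'
  rcases em (IsSquare (-1 : F)) with hs1 | hs1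
  · have h14 : Fintype.card F % 4 ≠ 3 := FiniteField.isSquare_neg_one_iff.1 hs1
    refine fin (Fintype.card F - 1) (Fintype.card F + 1) (Nat.even_iff.2 (by omega))
      ⟨fun _ => by rw [Nat.card_eq_fintype_card], fun e => absurd hs1 e⟩ (h1' fun e => hneg.1 e hs1) (Or.inl (by omega))
      (by omega)
  · have h34 : Fintype.card F % 4 = 3 := by
      by_contra e
      exact hs1 (FiniteField.isSquare_neg_one_iff.2 e)
    refine fin (Fintype.card F + 1) (Fintype.card F - 1) (Nat.even_iff.2 (by omega))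
      ⟨fun e => absurd e hs1, fun _ => by rw [Nat.card_eq_fintype_card]⟩ (h1 (hneg.2 hs1)) (Or.inr (by omega))
      (by omega)

/-- The centraliser of a product of two half-turns with non-square axes. -/
theorem inN_of_comm_ns (hH : Above (N := N) H) (hS : ¬ sieGroup Q ≤ H) {n m : V3 F} (hn : n ⬝ᵥ n ≠ 0)
    (hm : m ⬝ᵥ m ≠ 0) (hns : ¬ IsSquare (n ⬝ᵥ n)) (hms : ¬ IsSquare (m ⬝ᵥ m)) {w : O Q} (hwH : w ∈ H)
    (hw : C.Tn w (rn n) (rn m)) {x : O Q} (hx : x ∈ H) (hxw : x * w = w * x) : InN (N := N) x := by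
  have h2 := C.h2
  have hnf := C.noEl_of_not_le hH hS
  have hnf' := C.flip.noEl_of_not_le hH hS
  obtain ⟨n2, hnn2, hn2⟩ := exists_value_perp h2 hn 1
  obtain ⟨m2, hmm2, hm2⟩ := exists_value_perp h2 hm 1
  have hn20 : n2 ⬝ᵥ n2 ≠ 0 := by rw [hn2]; exact one_ne_zero
  have hm20 : m2 ⬝ᵥ m2 ≠ 0 := by rw [hm2]; exact one_ne_zero
  obtain ⟨hp, hpc⟩ := rn_frame h2 hn hn20 hnn2
  obtain ⟨hq, hqc⟩ := rn_frame h2 hm hm20 hmm2
  set n3 := n ⨯₃ n2
  set m3 := m ⨯₃ m2
  have hn3 : n3 ⬝ᵥ n3 = n ⬝ᵥ n := by rw [(frame_cross n n2 hnn2).2.2, hn2, mul_one]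
  have hm3 : m3 ⬝ᵥ m3 = m ⬝ᵥ m := by rw [(frame_cross m m2 hmm2).2.2, hm2, mul_one]
  have hn30 : n3 ⬝ᵥ n3 ≠ 0 := by rw [hn3]; exact hn
  have hm30 : m3 ⬝ᵥ m3 ≠ 0 := by rw [hm3]; exact hm
  obtain ⟨a, haH, ha⟩ := C.exists_left_unit hH hn2
  obtain ⟨b, hbH, hb⟩ := C.exists_right_unit hH hm2
  have hab : C.Tn (a * b) (rn n2) (rn m2) := by
    have := ha.mul hb
    rwa [one_mul, mul_one] at this
  have haw : C.Tn (a * w) (rn n3) (rn m) := by
    have := ha.mul hw
    rwa [← hpc, hp, one_mul] at this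
  have hbw : C.Tn (b * w) (rn n) (rn m3) := by
    have := hb.mul hw
    rwa [← hqc, hq, one_mul] at this
  have habw : C.Tn (a * b * w) (rn n3) (rn m3) := by
    have := hab.mul hw
    rwa [← hpc, hp, ← hqc, hq] at this
  have habH : a * b ∈ H := H.mul_mem haH hbH
  have habwc : a * b * w = w * (a * b) := hab.comm hw hpc.symm hqc.symm
  have hab2 : a * b * (a * b) = 1 := hab.sq_one (rn_mul_self n2) (rn_mul_self m2)
  have hbad : ∀ {h : O Q}, h ∈ H → h * (a * b) * h⁻¹ = a * b * w → False := fun hh e =>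
    ys_not_ns hH hS hn2 hm2 habH hab hn30 (by rw [hn3]; exact hns) hh (e ▸ habw)
  have hs : ∀ h ∈ H, h * w = w * h → (h * (a * b) * h⁻¹ = a * b ∨ h * (a * b) * h⁻¹ = a * b * w) →
      InN (N := N) h := by
    rintro h hh - (e | e)
    · exact inN_of_comm_ys hH hS hn2 hm2 habH hab hh (mul_inv_eq_iff_eq_mul.1 e)
    · exact (hbad hh e).elim
  refine inN_of_isolated hwH (hw.sq_one (rn_mul_self n) (rn_mul_self m)) haH hbH habH
    (ha.comm hw hpc.symm (by rw [one_mul, mul_one])) (hb.comm hw (by rw [one_mul, mul_one]) hqc.symm) habwc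
    (ha.sq_one (rn_mul_self n2) (one_mul 1)) (hb.sq_one (one_mul 1) (rn_mul_self m2))
    (ha.comm hb (by rw [one_mul, mul_one]) (by rw [one_mul, mul_one])) hab2
    (fun e => rn_ne_one h2 hn20 ((hab.one_iff (isSO_rn hn20) (isSO_rn hm20)).1 e).1)
    (fun e => hns ?_) ?_ ?_ hs hs ?_ hx hxw
  · exact not_isSquare_axis h2 hn20 hn (hab.inj (e ▸ hw) (isSO_rn hn20) (isSO_rn hm20) (isSO_rn hn) (isSO_rn hm)).1
      (by rw [hn2]; exact IsSquare.one)
  · rintro h hh - (e | e)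
    · exact inN_of_comm_left hH hnf hn20 ha hh (mul_inv_eq_iff_eq_mul.1 e)
    · have := congrArg C.trc e
      rw [C.trc_conj, trc_left hn20 ha, trc_both hn30 hm haw] at this
      exact absurd this.symm C.one_ne_neg_three
  · rintro h hh - (e | e)
    · exact inN_of_comm_right hH hnf' hm20 hb hh (mul_inv_eq_iff_eq_mul.1 e)
    · have := congrArg C.trc e
      rw [C.trc_conj, trc_right hm20 hb, trc_both hn hm30 hbw] at this
      exact absurd this.symm C.one_ne_neg_three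
  intro h hh hhw hc
  set s := a * b
  set s' := h * s * h⁻¹ with hs'
  have hs'H : s' ∈ H := H.mul_mem (H.mul_mem hh habH) (H.inv_mem hh)
  have hcomm : s * s' = s' * s := by
    refine hc.resolve_right fun e => hbad (H.inv_mem hs'H) ?_
    rw [inv_inv, mul_assoc, e]; group
  have hs'N := inN_of_comm_ys hH hS hn2 hm2 habH hab hs'H hcomm.symm
  have hs'w : s' * w = w * s' := by
    rw [hs', show h * s * h⁻¹ * w = h * s * (h⁻¹ * w * h) * h⁻¹ by group,
      show h⁻¹ * w * h = w by rw [mul_assoc, ← hhw, inv_mul_cancel_left], mul_assoc h s w, habwc, ← mul_assoc h w s,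
      hhw]
    group
  have ht' : C.trc s' = 1 := by rw [hs', C.trc_conj, trc_both hn20 hm20 hab]
  have hs'1 : s' ≠ 1 := fun e =>
    rn_ne_one h2 hn20 ((hab.one_iff (isSO_rn hn20) (isSO_rn hm20)).1 (conj_eq_one_iff.1 e)).1
  rcases invol_cases (C := C) hH hs'H hs'N (sq_eq_one_of_conj hab2) hs'1 with ⟨k, hk, hT⟩ | ⟨k, hk, hT⟩ |
    ⟨k, l, hk, hl, hkl, hT⟩ | ⟨A, hA, hT⟩
  · exact absurd (ht'.symm.trans (trc_left (by rw [hk]; exact one_ne_zero) hT)) C.one_ne_neg_three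
  · exact absurd (ht'.symm.trans (trc_right (by rw [hk]; exact one_ne_zero) hT)) C.one_ne_neg_three
  swap
  · exact absurd (ht'.symm.trans (hT.trc_invol hA)) C.one_ne_neg_three
  have hksq : IsSquare (k ⬝ᵥ k) := by_contra fun e => ys_not_ns hH hS hn2 hm2 habH hab hk e hh hT
  have hlsq : IsSquare (l ⬝ᵥ l) := sqSign_eq_one_iff.1 (hkl ▸ sqSign_eq_one_iff.2 hksq)
  obtain ⟨cn, cm⟩ := hT.comm_eq hw (isSO_rn hk) (isSO_rn hl) (isSO_rn hn) (isSO_rn hm) hs'w
  obtain ⟨cn2, cm2⟩ := hT.comm_eq hab (isSO_rn hk) (isSO_rn hl) (isSO_rn hn20) (isSO_rn hm20) hcomm.symm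
  have key : ∀ {n n2 k : V3 F}, n ⬝ᵥ n ≠ 0 → n2 ⬝ᵥ n2 = 1 → n ⬝ᵥ n2 = 0 → ¬ IsSquare (n ⬝ᵥ n) → k ⬝ᵥ k ≠ 0 →
      IsSquare (k ⬝ᵥ k) → rn k * rn n = rn n * rn k → rn k * rn n2 = rn n2 * rn k → rn k = rn n2 := by
    intro n n2 k hn hn2 hnn2 hns hk hksq c1 c2
    have hn20 : n2 ⬝ᵥ n2 ≠ 0 := by rw [hn2]; exact one_ne_zero
    refine (axes_of_commute h2 hk hn20 c2).resolve_left fun e2 => ?_
    have e1 := (axes_of_commute h2 hk hn c1).resolve_right fun e => hns (not_isSquare_axis h2 hk hn e hksq)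
    have e := expand hn hn20 hnn2 k
    rw [dotProduct_comm n k, dotProduct_comm n2 k, e1, e2, zero_div, zero_div, zero_smul, zero_smul, zero_add,
      zero_add] at e
    set c := (n ⨯₃ n2 ⬝ᵥ k) / ((n ⬝ᵥ n) * (n2 ⬝ᵥ n2))
    have hc0 : c ≠ 0 := fun h0 => hk (by rw [e, h0, zero_smul, dotProduct_zero])
    have h3 : n ⨯₃ n2 ⬝ᵥ n ⨯₃ n2 = n ⬝ᵥ n := by rw [(frame_cross n n2 hnn2).2.2, hn2, mul_one]
    refine hns (h3 ▸ not_isSquare_axis h2 hk (by rw [h3]; exact hn) ?_ hksq)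
    rw [e, rn_smul hc0]
  rw [key hn hn2 hnn2 hns hk hksq cn cn2, key hm hm2 hmm2 hms hl hlsq cm cm2] at hT
  exact Or.inl (hT.ext hab)

end Coord

end Cfsg.Agent.H55.OmegaNine
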