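import Cfsg.Agent.H55.OmegaNine.Mat
import Cfsg.Agent.Orthogonal.Spinor
import Cfsg.Agent.Orthogonal.Witt
import Cfsg.Agent.H96.OmegaBridge

/-!
Coordinates for the tensor square of a three-dimensional symmetric form inside a nine-dimensional orthogonal space,
with the determinant and spinor characters of the product elements.
-/

set_option autoImplicit false

namespace Cfsg.Agent.H55.OmegaNine

open Matrix QuadraticMap Cfsg.Agent.Orthogonal

variable {F : Type*} [Field F] {ι : Type} [Fintype ι] [DecidableEq ι]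

/-- Coordinates `M3 F ≅ F ^ ι` carrying the trace form to `Q`, with `N` the stabiliser of the tensor square. -/
structure Coord (Q : QuadraticForm F (ι → F)) (N : Subgroup (GL ι F)) where
  nQ : Nondeg Q
  h2 : (2 : F) ≠ 0
  hq : 5 ≤ Nat.card F
  κ : F
  hκ : κ ≠ 0
  φ : M3 F ≃ₗ[F] (ι → F)
  form : ∀ X, Q (φ X) = κ * (X * Xᵀ).trace
  mem_T : ∀ (g : O Q) (A B : M3 F),
    (∀ X, (g : (ι → F) ≃ₗ[F] (ι → F)) (φ X) = φ (A * X * Bᵀ)) → H96.om Q g ∈ N
  mem_S : ∀ (g : O Q) (A B : M3 F),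
    (∀ X, (g : (ι → F) ≃ₗ[F] (ι → F)) (φ X) = φ (A * Xᵀ * Bᵀ)) → H96.om Q g ∈ N
  of_N : ∀ g : O Q, H96.om Q g ∈ N → ∃ A B : M3 F,
    (∀ X, (g : (ι → F) ≃ₗ[F] (ι → F)) (φ X) = φ (A * X * Bᵀ)) ∨
      ∀ X, (g : (ι → F) ≃ₗ[F] (ι → F)) (φ X) = φ (A * Xᵀ * Bᵀ)

namespace Coord

variable {Q : QuadraticForm F (ι → F)} {N : Subgroup (GL ι F)} (C : Coord Q N)

/-- The action on matrices. -/
noncomputable def act (g : O Q) : M3 F ≃ₗ[F] M3 F :=
  C.φ ≪≫ₗ (g : (ι → F) ≃ₗ[F] (ι → F)) ≪≫ₗ C.φ.symm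

theorem phi_act (g : O Q) (X : M3 F) : C.φ (C.act g X) = (g : (ι → F) ≃ₗ[F] (ι → F)) (C.φ X) :=
  C.φ.apply_symm_apply _

theorem act_mul (g h : O Q) (X : M3 F) : C.act (g * h) X = C.act g (C.act h X) :=
  C.φ.injective (by simp only [C.phi_act]; rfl)

theorem act_one (X : M3 F) : C.act 1 X = X := C.φ.injective (by simp only [C.phi_act]; rfl)

theorem act_inv (g : O Q) (X : M3 F) : C.act g⁻¹ (C.act g X) = X := by
  rw [← C.act_mul, inv_mul_cancel, C.act_one]

theorem act_inv' (g : O Q) (X : M3 F) : C.act g (C.act g⁻¹ X) = X := by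
  rw [← C.act_mul, mul_inv_cancel, C.act_one]

theorem ext_act {g h : O Q} (e : ∀ X, C.act g X = C.act h X) : g = h :=
  O.ext_app fun x => by
    obtain ⟨X, rfl⟩ := C.φ.surjective x
    rw [← C.phi_act, ← C.phi_act, e]

theorem act_form (g : O Q) (X : M3 F) :
    (C.act g X * (C.act g X)ᵀ).trace = (X * Xᵀ).trace :=
  mul_left_cancel₀ C.hκ (by rw [← C.form, ← C.form, C.phi_act, O.map_app])

theorem polar_phi (X Y : M3 F) : polar Q (C.φ X) (C.φ Y) = 2 * C.κ * (X * Yᵀ).trace := by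
  rw [polar, ← map_add, C.form, C.form, C.form, transpose_add, add_mul, mul_add, mul_add, trace_add, trace_add,
    trace_add, show (Y * Xᵀ).trace = (X * Yᵀ).trace by rw [← trace_transpose, transpose_mul, transpose_transpose]]
  ring

theorem act_ip (g : O Q) (X Y : M3 F) : (C.act g X * (C.act g Y)ᵀ).trace = (X * Yᵀ).trace :=
  mul_left_cancel₀ (mul_ne_zero C.h2 C.hκ) (by rw [← C.polar_phi, ← C.polar_phi, C.phi_act, C.phi_act, O.polar_app])

/-- Linear isometries in coordinates come from the group. -/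
theorem exists_lift (h : M3 F →ₗ[F] M3 F) (hh : ∀ X, (h X * (h X)ᵀ).trace = (X * Xᵀ).trace) :
    ∃ g : O Q, ∀ X, C.act g X = h X := by
  refine ⟨C.nQ.ofLinear (C.φ.toLinearMap ∘ₗ h ∘ₗ C.φ.symm.toLinearMap) fun x => ?_, fun X => C.φ.injective ?_⟩
  · obtain ⟨X, rfl⟩ := C.φ.surjective x
    simp [C.form, hh]
  · rw [C.phi_act, Nondeg.ofLinear_app]
    simp

/-- `g` is `X ↦ A X Bᵀ`. -/
def Tn (g : O Q) (A B : M3 F) : Prop := ∀ X, C.act g X = A * X * Bᵀ

/-- `g` is `X ↦ -(A Xᵀ Bᵀ)`. -/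
def Sw (g : O Q) (A B : M3 F) : Prop := ∀ X, C.act g X = -(A * Xᵀ * Bᵀ)

/-- Membership in the stabiliser. -/
def InN (g : O Q) : Prop := H96.om Q g ∈ N

variable {C}

theorem InN.mul {g h : O Q} (hg : InN (N := N) g) (hh : InN (N := N) h) : InN (N := N) (g * h) := by
  rw [InN, map_mul]; exact N.mul_mem hg hh

theorem InN.inv {g : O Q} (hg : InN (N := N) g) : InN (N := N) g⁻¹ := by
  rw [InN, map_inv]; exact N.inv_mem hg

theorem Tn.inN {g : O Q} {A B : M3 F} (h : C.Tn g A B) : InN (N := N) g :=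
  C.mem_T g A B fun X => by rw [← C.phi_act, h]

theorem Sw.inN {g : O Q} {A B : M3 F} (h : C.Sw g A B) : InN (N := N) g :=
  C.mem_S g (-A) B fun X => by rw [← C.phi_act, h, neg_mul, neg_mul]

theorem Tn.ext {g g' : O Q} {A B : M3 F} (h : C.Tn g A B) (h' : C.Tn g' A B) : g = g' :=
  C.ext_act fun X => by rw [h, h']

theorem Tn.mul {g g' : O Q} {A B A' B' : M3 F} (h : C.Tn g A B) (h' : C.Tn g' A' B') :
    C.Tn (g * g') (A * A') (B * B') := fun X => by
  rw [C.act_mul, h', h, transpose_mul]; simp only [mul_assoc]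

theorem Tn.mul_sw {g g' : O Q} {A B A' B' : M3 F} (h : C.Tn g A B) (h' : C.Sw g' A' B') :
    C.Sw (g * g') (A * A') (B * B') := fun X => by
  rw [C.act_mul, h', h, transpose_mul, mul_neg, neg_mul]; simp only [mul_assoc]

theorem Sw.mul_tn {g g' : O Q} {A B A' B' : M3 F} (h : C.Sw g A B) (h' : C.Tn g' A' B') :
    C.Sw (g * g') (A * B') (B * A') := fun X => by
  rw [C.act_mul, h', h]; simp only [transpose_mul, transpose_transpose, mul_assoc]

theorem Sw.mul {g g' : O Q} {A B A' B' : M3 F} (h : C.Sw g A B) (h' : C.Sw g' A' B') :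
    C.Tn (g * g') (A * B') (B * A') := fun X => by
  rw [C.act_mul, h', h]
  simp only [transpose_neg, transpose_mul, transpose_transpose, mul_neg, neg_mul, neg_neg, mul_assoc]

theorem tn_one : C.Tn 1 1 1 := fun X => by rw [C.act_one, transpose_one, one_mul, mul_one]

theorem Tn.inv {g : O Q} {A B : M3 F} (h : C.Tn g A B) (hA : IsOrth A) (hB : IsOrth B) :
    C.Tn g⁻¹ Aᵀ Bᵀ := fun X => by
  apply (C.act g).injective
  rw [C.act_inv', h, transpose_transpose,
    show A * (Aᵀ * X * B) * Bᵀ = A * Aᵀ * X * (B * Bᵀ) by simp only [mul_assoc],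
    show A * Aᵀ = 1 from hA, show B * Bᵀ = 1 from hB, one_mul, mul_one]

theorem Sw.inv {g : O Q} {A B : M3 F} (h : C.Sw g A B) (hA : IsOrth A) (hB : IsOrth B) :
    C.Sw g⁻¹ Bᵀ Aᵀ := fun X => by
  apply (C.act g).injective
  rw [C.act_inv', h]
  simp only [transpose_neg, transpose_mul, transpose_transpose, mul_neg, neg_mul, neg_neg]
  rw [show A * (Aᵀ * (X * B)) * Bᵀ = A * Aᵀ * X * (B * Bᵀ) by simp only [mul_assoc],
    show A * Aᵀ = 1 from hA, show B * Bᵀ = 1 from hB, one_mul, mul_one]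

variable (C)

theorem exists_tn {A B : M3 F} (hA : IsOrth A) (hB : IsOrth B) : ∃ g : O Q, C.Tn g A B := by
  obtain ⟨g, hg⟩ := C.exists_lift
    { toFun := fun X => A * X * Bᵀ
      map_add' := fun X Y => by rw [mul_add, add_mul]
      map_smul' := fun c X => by rw [mul_smul_comm, smul_mul_assoc, RingHom.id_apply] } fun X => by
    simp only [LinearMap.coe_mk, AddHom.coe_mk, transpose_mul, transpose_transpose]
    rw [show A * X * Bᵀ * (B * (Xᵀ * Aᵀ)) = A * (X * (Bᵀ * B) * Xᵀ * Aᵀ) by simp only [mul_assoc],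
      trace_mul_comm, hB.tmul, mul_one,
      show X * Xᵀ * Aᵀ * A = X * Xᵀ * (Aᵀ * A) by simp only [mul_assoc], hA.tmul, mul_one]
  exact ⟨g, hg⟩

theorem exists_sw {A B : M3 F} (hA : IsOrth A) (hB : IsOrth B) : ∃ g : O Q, C.Sw g A B := by
  obtain ⟨g, hg⟩ := C.exists_lift
    { toFun := fun X => -(A * Xᵀ * Bᵀ)
      map_add' := fun X Y => by rw [transpose_add, mul_add, add_mul, neg_add]
      map_smul' := fun c X => by rw [transpose_smul, mul_smul_comm, smul_mul_assoc, RingHom.id_apply, smul_neg] }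
    fun X => by
    simp only [LinearMap.coe_mk, AddHom.coe_mk, transpose_neg, transpose_mul, transpose_transpose, neg_mul_neg]
    rw [show A * Xᵀ * Bᵀ * (B * (X * Aᵀ)) = A * (Xᵀ * (Bᵀ * B) * X * Aᵀ) by simp only [mul_assoc],
      trace_mul_comm, hB.tmul, mul_one,
      show Xᵀ * X * Aᵀ * A = Xᵀ * X * (Aᵀ * A) by simp only [mul_assoc], hA.tmul, mul_one, trace_mul_comm]
  exact ⟨g, hg⟩

/-! ### Traces -/

/-- The trace of an element. -/
noncomputable def trc (g : O Q) : F := LinearMap.trace F (M3 F) (C.act g : M3 F →ₗ[F] M3 F)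

theorem trc_conj (g h : O Q) : C.trc (h * g * h⁻¹) = C.trc g := by
  rw [trc, trc, ← LinearMap.trace_conj' (C.act g : M3 F →ₗ[F] M3 F) (C.act h)]
  congr 1
  refine LinearMap.ext fun X => ?_
  have e : (C.act h).symm X = C.act h⁻¹ X := by
    apply (C.act h).injective
    rw [LinearEquiv.apply_symm_apply, C.act_inv']
  rw [LinearEquiv.conj_apply]
  simp [C.act_mul, e]

theorem trace_endo (f : M3 F →ₗ[F] M3 F) :
    LinearMap.trace F (M3 F) f = ∑ i, ∑ j, f (Matrix.single i j 1) i j := by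
  rw [LinearMap.trace_eq_matrix_trace F (Matrix.stdBasis F (Fin 3) (Fin 3)), Matrix.trace, Fintype.sum_prod_type]
  refine Finset.sum_congr rfl fun i _ => Finset.sum_congr rfl fun j _ => ?_
  rw [Matrix.diag_apply, LinearMap.toMatrix_apply, Matrix.stdBasis_eq_single]
  rfl

variable {C}

theorem Tn.trc {g : O Q} {A B : M3 F} (h : C.Tn g A B) : C.trc g = A.trace * B.trace := by
  rw [Coord.trc, trace_endo]
  simp only [LinearEquiv.coe_coe, h _]
  simp [Matrix.mul_apply, Matrix.single_apply, Matrix.trace, Fin.sum_univ_three]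
  ring

theorem Sw.trc {g : O Q} {A B : M3 F} (h : C.Sw g A B) : C.trc g = -(A * B).trace := by
  rw [Coord.trc, trace_endo]
  simp only [LinearEquiv.coe_coe, h _]
  simp [Matrix.mul_apply, Matrix.single_apply, Matrix.trace, Fin.sum_univ_three]
  ring

/-! ### Characters -/

variable [Finite F] (C)

/-- Determinant and spinor norm together. -/
noncomputable def xi : O Q →* ℤˣ × ℤˣ := (detSign Q C.nQ C.h2).prod (spinor Q C.nQ C.h2)

theorem mem_Om (g : O Q) : g ∈ commutator (O Q) ↔ C.xi g = 1 := by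
  rw [mem_commutator_iff C.nQ C.h2, xi, MonoidHom.prod_apply, Prod.mk_eq_one]

theorem sign_mul_self (u : ℤˣ × ℤˣ) : u * u = 1 :=
  Prod.ext (Int.units_mul_self u.1) (Int.units_mul_self u.2)

include C in
theorem sq_mem_Om (g : O Q) : g * g ∈ commutator (O Q) := by rw [C.mem_Om, map_mul, sign_mul_self]

theorem xi_conj (g h : O Q) : C.xi (h * g * h⁻¹) = C.xi g := by
  rw [map_mul, map_mul, map_inv, mul_comm (C.xi h), mul_inv_cancel_right]

variable {C}

/-- Left and right factors have the same characters. -/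
theorem xi_symm {A : M3 F} {g g' : O Q} (hg : C.Tn g A 1) (hg' : C.Tn g' 1 A) : C.xi g' = C.xi g := by
  obtain ⟨t, ht⟩ := C.exists_sw (isOrth_one (F := F)) isOrth_one
  have h := (ht.mul_tn hg).mul (ht.inv isOrth_one isOrth_one)
  simp only [one_mul, mul_one, transpose_one] at h
  rw [← C.xi_conj g t, h.ext hg']

theorem Tn.xi_eq {A B : M3 F} {g a b : O Q} (hg : C.Tn g A B) (ha : C.Tn a A 1) (hb : C.Tn b B 1)
    (hA : IsOrth A) (hB : IsOrth B) : C.xi g = C.xi a * C.xi b := by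
  obtain ⟨b', hb'⟩ := C.exists_tn (isOrth_one (F := F)) hB
  rw [← xi_symm hb hb', ← map_mul]
  have h := ha.mul hb'
  rw [mul_one, one_mul] at h
  rw [hg.ext h]

/-- The diagonal elements lie in the commutator subgroup. -/
theorem Tn.diag_mem {A : M3 F} {g : O Q} (hg : C.Tn g A A) (hA : IsOrth A) : g ∈ commutator (O Q) := by
  obtain ⟨a, ha⟩ := C.exists_tn hA (isOrth_one (F := F))
  rw [C.mem_Om, hg.xi_eq ha ha hA hA, sign_mul_self]

/-- A reflection on one side. -/
theorem xi_rfl3 {u : V3 F} (hu : u ⬝ᵥ u ≠ 0) {g : O Q} (hg : C.Tn g (rfl3 u) 1) :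
    C.xi g = (-1, sqSign (C.κ * (u ⬝ᵥ u))) := by
  set v : Fin 3 → ι → F := fun k => C.φ (vecMulVec u (Pi.single k 1)) with hv
  have hip : ∀ (k : Fin 3) (X : M3 F),
      (vecMulVec u (Pi.single k 1) * Xᵀ).trace = ∑ i, u i * X i k := fun k X => by
    rw [vecMulVec_mul, trace_vecMulVec, single_one_vecMul]
    rfl
  have hQ : ∀ k, Q (v k) = C.κ * (u ⬝ᵥ u) := fun k => by
    rw [hv, C.form, hip]
    congr 1
    refine Finset.sum_congr rfl fun i _ => ?_
    simp [vecMulVec_apply]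
  have hne : ∀ k, Q (v k) ≠ 0 := fun k => by rw [hQ]; exact mul_ne_zero C.hκ hu
  have e : g = rO Q (v 0) * rO Q (v 1) * rO Q (v 2) := by
    refine O.ext_app fun x => ?_
    obtain ⟨X, rfl⟩ := C.φ.surjective x
    have hrO : ∀ k Y, (rO Q (v k) : (ι → F) ≃ₗ[F] (ι → F)) (C.φ Y) =
        C.φ (Y - (2 / (u ⬝ᵥ u) * ∑ i, u i * Y i k) • vecMulVec u (Pi.single k 1)) := fun k Y => by
      rw [rO_app, hQ, hv, C.polar_phi, hip, map_sub, map_smul]
      congr 2
      have := C.hκ
      field_simp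
    rw [← C.phi_act, hg, transpose_one, mul_one, Subgroup.coe_mul, Subgroup.coe_mul, mul_app, mul_app, hrO, hrO, hrO]
    congr 1
    ext i j
    fin_cases j <;>
      simp [rfl3, Matrix.mul_apply, Matrix.one_apply, Matrix.sub_apply, vecMulVec_apply, Fin.sum_univ_three,
        sub_mul, mul_sub, Finset.sum_sub_distrib] <;>
      fin_cases i <;> simp <;> ring
  rw [e, map_mul, map_mul, xi]
  simp only [MonoidHom.prod_apply, detSign_rO C.nQ C.h2 (hne _), spinor_rO C.nQ C.h2 (hne _), hQ,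
    Prod.mk_mul_mk]
  rcases Int.units_eq_one_or (sqSign (C.κ * (u ⬝ᵥ u))) with h | h <;> rw [h] <;> decide

/-- A product of two reflections on one side. -/
theorem xi_rfl3_mul {u w : V3 F} (hu : u ⬝ᵥ u ≠ 0) (hw : w ⬝ᵥ w ≠ 0) {g : O Q}
    (hg : C.Tn g (rfl3 u * rfl3 w) 1) : C.xi g = (1, sqSign ((u ⬝ᵥ u) * (w ⬝ᵥ w))) := by
  obtain ⟨a, ha⟩ := C.exists_tn (isOrth_rfl3 u) (isOrth_one (F := F))
  obtain ⟨b, hb⟩ := C.exists_tn (isOrth_rfl3 w) (isOrth_one (F := F))
  have h := ha.mul hb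
  rw [one_mul] at h
  rw [hg.ext h, map_mul, xi_rfl3 hu ha, xi_rfl3 hw hb, Prod.mk_mul_mk,
    ← sqSign_mul C.h2 (mul_ne_zero C.hκ hu) (mul_ne_zero C.hκ hw)]
  refine Prod.ext (by simp) ?_
  rw [show C.κ * (u ⬝ᵥ u) * (C.κ * (w ⬝ᵥ w)) = C.κ * C.κ * ((u ⬝ᵥ u) * (w ⬝ᵥ w)) by ring,
    sqSign_mul C.h2 (mul_ne_zero C.hκ C.hκ) (mul_ne_zero hu hw), sqSign_of_isSquare ⟨C.κ, rfl⟩, one_mul]

/-- The determinant character on one side. -/
theorem xi_fst {A : M3 F} {a : O Q} (ha : C.Tn a A 1) : (C.xi a).1 = 1 ↔ A.det ^ 3 = 1 := by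
  rw [xi, MonoidHom.prod_apply, detSign_eq_one_iff C.nQ C.h2]
  let T : (Fin 3 → Fin 3 → F) ≃ₗ[F] M3 F :=
    { toFun := fun w => Matrix.of fun i j => w j i
      invFun := fun X j i => X i j
      map_add' := fun _ _ => rfl
      map_smul' := fun _ _ => rfl
      left_inv := fun _ => rfl
      right_inv := fun _ => rfl }
  have e : ((a : (ι → F) ≃ₗ[F] (ι → F)) : (ι → F) →ₗ[F] (ι → F)) =
      (T ≪≫ₗ C.φ).conj (LinearMap.pi fun k => (Matrix.toLin' A).comp (LinearMap.proj k)) := by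
    refine LinearMap.ext fun x => ?_
    obtain ⟨w, rfl⟩ := (T ≪≫ₗ C.φ).surjective x
    rw [LinearEquiv.conj_apply]
    simp only [LinearMap.comp_apply, LinearEquiv.coe_coe, LinearEquiv.symm_apply_apply]
    rw [LinearEquiv.trans_apply, LinearEquiv.trans_apply, ← C.phi_act, ha, transpose_one, mul_one]
    congr 1
  rw [e, LinearEquiv.conj_apply, LinearMap.comp_assoc, LinearMap.det_conj, LinearMap.det_pi, Finset.prod_const, Finset.card_univ, Fintype.card_fin,
    LinearMap.det_toLin']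

theorem xi_fst_of_det {A : M3 F} (hA : IsOrth A) {a : O Q} (ha : C.Tn a A 1) :
    (A.det = 1 ∧ (C.xi a).1 = 1) ∨ (A.det = -1 ∧ (C.xi a).1 = -1) := by
  rcases mul_self_eq_one_iff.1 hA.det_sq with h | h
  · exact Or.inl ⟨h, (xi_fst ha).2 (by rw [h, one_pow])⟩
  · refine Or.inr ⟨h, (Int.units_eq_one_or _).resolve_left fun e => C.h2 ?_⟩
    have := (xi_fst ha).1 e
    rw [h] at this
    linear_combination -this

variable (C)

/-- The swap has determinant one. -/
theorem xi_fst_sw_one {t : O Q} (ht : C.Sw t 1 1) : (C.xi t).1 = 1 := by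
  let s : Fin 3 → Fin 3 → M3 F := fun i j => Matrix.single i j 1 + Matrix.single j i 1
  let vs : List (ι → F) := [C.φ (s 0 0), C.φ (s 1 1), C.φ (s 2 2), C.φ (s 0 1), C.φ (s 0 2), C.φ (s 1 2)]
  have hQ : ∀ i j, Q (C.φ (s i j)) = C.κ * (if i = j then 4 else 2) := fun i j => by
    rw [C.form]
    fin_cases i <;> fin_cases j <;>
      simp [s, Matrix.trace, Matrix.mul_apply, Matrix.single_apply, Fin.sum_univ_three] <;> norm_num
  have h4 : (4 : F) ≠ 0 := fun e => mul_ne_zero C.h2 C.h2 (by linear_combination e)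
  have hne : ∀ v ∈ vs, Q v ≠ 0 := fun v hv => by
    simp only [vs, List.mem_cons, List.not_mem_nil, or_false] at hv
    rcases hv with rfl | rfl | rfl | rfl | rfl | rfl <;> rw [hQ] <;>
      simp [C.hκ, C.h2, h4]
  have e : (vs.map (rO Q)).prod = t := by
    refine O.ext_app fun x => ?_
    obtain ⟨X, rfl⟩ := C.φ.surjective x
    have hr : ∀ i j Y, (rO Q (C.φ (s i j)) : (ι → F) ≃ₗ[F] (ι → F)) (C.φ Y) =
        C.φ (Y - ((Y i j + Y j i) * (if i = j then (2 : F)⁻¹ else 1)) • s i j) := fun i j Y => by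
      rw [rO_app, hQ, C.polar_phi, map_sub, map_smul]
      congr 2
      have e2 : (s i j * Yᵀ).trace = Y i j + Y j i := by
        fin_cases i <;> fin_cases j <;>
          simp [s, Matrix.trace, Matrix.mul_apply, Matrix.single_apply, Fin.sum_univ_three] <;> ring
      rw [e2]
      have := C.hκ
      have := C.h2
      split_ifs <;> field_simp <;> ring
    simp only [vs, List.map_cons, List.map_nil, List.prod_cons, List.prod_nil, mul_one, Subgroup.coe_mul, mul_app, hr]
    rw [← C.phi_act, ht]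
    congr 1
    have := C.h2
    ext i j
    fin_cases i <;> fin_cases j <;> simp [s, Matrix.single_apply] <;> field_simp <;> ring
  rw [← e, xi, MonoidHom.prod_apply, detSign_list C.nQ C.h2 hne]
  simp [vs]
  decide

variable {C}

/-- An element of the stabiliser inside the commutator subgroup is built from special orthogonal matrices. -/
theorem InN.normal_form {g : O Q} (hg : InN (N := N) g) (hΩ : g ∈ commutator (O Q)) :
    ∃ A B, IsSO A ∧ IsSO B ∧ (C.Tn g A B ∨ C.Sw g A B) := by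
  obtain ⟨A₀, B₀, h⟩ := C.of_N g hg
  obtain ⟨σ, hσ, h⟩ : ∃ σ : M3 F → M3 F, (σ = id ∨ σ = fun X => Xᵀ) ∧ ∀ X, C.act g X = A₀ * σ X * B₀ᵀ := by
    rcases h with h | h
    · exact ⟨id, Or.inl rfl, fun X => C.φ.injective (by rw [C.phi_act, h]; rfl)⟩
    · exact ⟨_, Or.inr rfl, fun X => C.φ.injective (by rw [C.phi_act, h])⟩
  have key : ∀ i j k l : Fin 3,
      (A₀ᵀ * A₀) k i * (B₀ᵀ * B₀) j l = if i = k ∧ j = l then 1 else 0 := fun i j k l => by
    have hsurj : ∀ i j : Fin 3, ∃ X, σ X = Matrix.single i j (1 : F) ∧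
        ∀ Y, (X * Yᵀ).trace = (σ X * (σ Y)ᵀ).trace := fun i j => by
      rcases hσ with rfl | rfl
      · exact ⟨_, rfl, fun _ => rfl⟩
      · exact ⟨Matrix.single j i 1, by simp, fun Y => by
          rw [transpose_transpose, trace_mul_comm, ← trace_transpose, transpose_mul, transpose_transpose]⟩
    obtain ⟨X, hX, hXY⟩ := hsurj i j
    obtain ⟨Y, hY, -⟩ := hsurj k l
    have e := C.act_ip g X Y
    rw [h, h, hXY, hX, hY, transpose_mul, transpose_mul, transpose_transpose] at e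
    rw [show A₀ * Matrix.single i j 1 * B₀ᵀ * (B₀ * ((Matrix.single k l (1 : F))ᵀ * A₀ᵀ)) =
      A₀ * (Matrix.single i j 1 * (B₀ᵀ * B₀) * (Matrix.single k l 1)ᵀ * A₀ᵀ) by simp only [mul_assoc],
      trace_mul_comm, Matrix.mul_assoc _ A₀ᵀ A₀] at e
    convert e using 1
    · fin_cases i <;> fin_cases j <;> fin_cases k <;> fin_cases l <;>
        simp [Matrix.trace, Matrix.mul_apply, Matrix.single_apply, Fin.sum_univ_three] <;> ring
    · fin_cases i <;> fin_cases j <;> fin_cases k <;> fin_cases l <;>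
        simp [Matrix.trace, Matrix.mul_apply, Matrix.single_apply, Fin.sum_univ_three]
  set a := (A₀ᵀ * A₀) 0 0 with ha
  have ha0 : a ≠ 0 := fun e => by
    have := key 0 0 0 0
    rw [← ha, e, zero_mul] at this
    simp at this
  have hB : B₀ᵀ * B₀ = a⁻¹ • 1 := by
    ext j l
    have := key 0 j 0 l
    rw [← ha] at this
    rw [Matrix.smul_apply, Matrix.one_apply, smul_eq_mul]
    simp only [true_and] at this
    rw [← this, inv_mul_cancel_left₀ ha0]
  have hA : A₀ᵀ * A₀ = a • 1 := by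
    ext k i
    have := key i 0 k 0
    rw [hB, Matrix.smul_apply, Matrix.one_apply_eq, smul_eq_mul, mul_one] at this
    rw [Matrix.smul_apply, Matrix.one_apply, smul_eq_mul]
    simp only [and_true] at this
    have := congrArg (· * a) this
    simp only [mul_assoc, inv_mul_cancel₀ ha0, mul_one] at this
    rw [this]
    rcases eq_or_ne k i with rfl | h
    · simp
    · simp [h, h.symm]
  set s := A₀.det / a
  have hs : s * s = a := by
    have e := congrArg Matrix.det hA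
    rw [det_mul, det_transpose, det_smul, det_one, mul_one, Fintype.card_fin] at e
    simp only [s]
    field_simp
    linear_combination e
  have hs0 : s ≠ 0 := fun e => ha0 (by rw [← hs, e, zero_mul])
  have hAo : IsOrth (s⁻¹ • A₀) := mul_eq_one_comm.1 (by
    rw [transpose_smul, smul_mul_smul_comm, hA, smul_smul, ← hs]
    field_simp
    simp)
  have hBo : IsOrth (s • B₀) := mul_eq_one_comm.1 (by
    rw [transpose_smul, smul_mul_smul_comm, hB, smul_smul, ← hs]
    field_simp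
    simp)
  obtain ⟨A, B, hA1, hB1, hAd, h'⟩ : ∃ A B, IsOrth A ∧ IsOrth B ∧ A.det = 1 ∧
      (C.Tn g A B ∨ C.Sw g A B) := by
    have e : ∀ X, A₀ * X * B₀ᵀ = (s⁻¹ • A₀) * X * (s • B₀)ᵀ := fun X => by
      rw [transpose_smul, smul_mul_assoc, smul_mul_assoc, mul_smul_comm, smul_smul, inv_mul_cancel₀ hs0, one_smul]
    rcases hσ with rfl | rfl
    · rcases mul_self_eq_one_iff.1 hAo.det_sq with hd | hd
      · exact ⟨_, _, hAo, hBo, hd, Or.inl fun X => by rw [h, id, e]⟩
      · exact ⟨_, _, hAo.neg, hBo.neg, by rw [det_neg, hd]; norm_num,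
          Or.inl fun X => by rw [h, id, e, transpose_neg, neg_mul, neg_mul_neg]⟩
    · rcases mul_self_eq_one_iff.1 hAo.det_sq with hd | hd
      · exact ⟨_, _, hAo, hBo.neg, hd, Or.inr fun X => by rw [h, e, transpose_neg, mul_neg, neg_neg]⟩
      · exact ⟨_, _, hAo.neg, hBo, by rw [det_neg, hd]; norm_num,
          Or.inr fun X => by rw [h, e, neg_mul, neg_mul, neg_neg]⟩
  obtain ⟨a', ha'⟩ := C.exists_tn hA1 (isOrth_one (F := F))
  obtain ⟨b', hb'⟩ := C.exists_tn hB1 (isOrth_one (F := F))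
  have hx : C.xi g = 1 := (C.mem_Om g).1 hΩ
  have hBd : (C.xi b').1 = 1 := by
    have h1 : (C.xi a').1 = 1 := ((xi_fst_of_det hA1 ha').resolve_right fun e => C.h2 (by
      linear_combination hAd.symm.trans e.1)).2
    rcases h' with h' | h'
    · have := congrArg Prod.fst ((h'.xi_eq ha' hb' hA1 hB1).symm.trans hx)
      simpa [h1] using this
    · obtain ⟨t, ht⟩ := C.exists_sw (isOrth_one (F := F)) isOrth_one
      have h'' := h'.mul ht
      simp only [mul_one] at h''
      have := congrArg Prod.fst (h''.xi_eq ha' hb' hA1 hB1)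
      rw [map_mul, hx, one_mul, Prod.fst_mul, h1, one_mul, C.xi_fst_sw_one ht] at this
      exact this.symm
  refine ⟨A, B, ⟨hA1, hAd⟩, ⟨hB1, ?_⟩, h'⟩
  rcases xi_fst_of_det hB1 hb' with e | e
  · exact e.1
  · rw [hBd] at e; exact absurd e.2 (by decide)

end Coord

end Cfsg.Agent.H55.OmegaNine
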