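import Cfsg.Agent.H97.OmegaEight.Nondeg
import Cfsg.Agent.H97.OmegaEight.Eight

/-!
Stabilisers in Ω of nondegenerate four-spaces are maximal when the orthogonal has dimension five, also when the
four-space has plus type.
-/

set_option autoImplicit false

namespace Cfsg.Agent.H55.OmegaNine

open QuadraticMap Module Cfsg.Agent.Orthogonal Cfsg.Agent.H98.OrthMax Cfsg.Agent.H97.OmegaEight

section Abstract

variable {F V : Type*} [Field F] [Fintype F] [AddCommGroup V] [Module F V] [FiniteDimensional F V]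
  {Q : QuadraticForm F V} {X : Subgroup (O Q)} {W : Submodule F V}

theorem sieGroup_le_of_rootOut (hQ : Nondeg Q) (hn : 5 ≤ finrank F V) (hW : Nondeg (restr Q W))
    (hd : 4 ≤ finrank F (perp Q W))
    (hex : finrank F W = 2 → (∃ x ∈ W, x ≠ 0 ∧ Q x = 0) → 4 ≤ Fintype.card F)
    (hX : ∀ x ∈ commutator (O Q), (∀ v ∈ W, (x : V ≃ₗ[F] V) v ∈ W) → x ∈ X)
    (hout : HasRootOut Q W X) : sieGroup Q ≤ X := by
  set U := perp Q W with hUdef
  have hU : Nondeg (restr Q U) := hQ.nondeg_perp hW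
  have hperpU : perp Q U = W := hQ.perp_perp W
  have hdec : ∀ z : V, ∃ p ∈ U, ∃ q ∈ W, z = p + q := fun z => by
    obtain ⟨q, hq, p, hp, hqp⟩ := Submodule.mem_sup.1
      ((hQ.isCompl_perp hW).sup_eq_top ▸ Submodule.mem_top : z ∈ W ⊔ perp Q W)
    exact ⟨p, hp, q, hq, by rw [← hqp, add_comm]⟩
  have hcomm : ∀ u w (hu : Q u = 0) (hw : polar Q u w = 0), sie u w hu hw ∈ commutator (O Q) :=
    fun u w hu hw => by rw [← sieGroup_eq_commutator hQ hn]; exact sie_mem hu hw
  have hfixX : ∀ x ∈ commutator (O Q), (∀ v ∈ W, (x : V ≃ₗ[F] V) v = v) → x ∈ X := fun x hx h =>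
    hX x hx fun v hv => by rw [h v hv]; exact hv
  have hWU : ∀ {z v : V}, z ∈ U → v ∈ W → polar Q z v = 0 := fun hz hv => by
    rw [polar_comm]; exact hz _ hv
  have hUroot : ∀ u w (hu : Q u = 0) (hw : polar Q u w = 0), u ∈ U → w ∈ U → sie u w hu hw ∈ X :=
    fun u w hu hw huU hwU => hfixX _ (hcomm u w hu hw) fun v hv =>
      sie_fix' hu hw (hWU huU hv) (hWU hwU hv)
  obtain ⟨u, b₀, hu, hub₀, huU, hu0, hb₀, hb₀0, hroot⟩ := hout
  obtain ⟨f', hf', huf'⟩ := hU.exists_partner (u := ⟨u, huU⟩) (fun h => hu0 (congrArg Subtype.val h)) hu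
  rw [polar_restr] at huf'
  rw [restr_apply] at hf'
  obtain ⟨f, hfU, hf, huf⟩ : ∃ f ∈ U, Q f = 0 ∧ polar Q u f = 1 := ⟨f', f'.2, hf', huf'⟩
  have hub : ∀ {y : V}, y ∈ W → polar Q u y = 0 := fun hy => hWU huU hy
  -- all of `W` is admissible
  let T : Submodule F W :=
    { carrier := {y | ∀ (c : F) (hw : polar Q u (c • (y : V)) = 0), sie u (c • (y : V)) hu hw ∈ X}
      zero_mem' := fun c hw => by
        convert X.one_mem
        exact O.ext_app fun x => by rw [sie_app]; simp
      add_mem' := fun {y y'} hy hy' c hw => by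
        have := X.mul_mem (hy c (hub (W.smul_mem c y.2))) (hy' c (hub (W.smul_mem c y'.2)))
        rw [sie_mul] at this
        convert this using 1
        exact sie_congr _ _ _ _ rfl (by rw [Submodule.coe_add, smul_add])
      smul_mem' := fun s y hy c hw => by
        convert hy (c * s) (hub (W.smul_mem _ y.2)) using 1
        exact sie_congr _ _ _ _ rfl (by rw [Submodule.coe_smul, smul_smul]) }
  have hT0 : (⟨b₀, hb₀⟩ : W) ∈ T := by
    intro c hw
    rcases eq_or_ne c 0 with rfl | hc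
    · convert X.one_mem
      exact O.ext_app fun x => by rw [sie_app]; simp
    obtain ⟨t, ht, htu, htW⟩ := exists_torus hQ hU (by omega) huU hfU hu hf huf hc
    rw [hperpU] at htW
    have h := X.mul_mem (X.mul_mem (hfixX t ht htW) hroot) (X.inv_mem (hfixX t ht htW))
    rw [sie_conj, sie_congr _ _ (by rw [qmap_smul, hu, mul_zero]) (by rw [polar_smul_left', hub hb₀, mul_zero])
      htu (htW b₀ hb₀), sie_smul hu (hub hb₀)] at h
    exact h
  have hinv : ∀ h ∈ commutator (O Q), (h : V ≃ₗ[F] V) u = u → ∀ hh : ∀ v ∈ W, (h : V ≃ₗ[F] V) v ∈ W,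
      ∀ y ∈ T, (⟨(h : V ≃ₗ[F] V) (y : W), hh _ (y : W).2⟩ : W) ∈ T := by
    intro h hhc hhu hh y hy c hw
    have hX' := hX h hhc hh
    have := X.mul_mem (X.mul_mem hX' (hy c (hub (W.smul_mem c y.2)))) (X.inv_mem hX')
    rw [sie_conj] at this
    convert this using 1
    exact sie_congr _ _ _ _ hhu.symm (map_smul _ _ _).symm
  have hTtop : T = ⊤ := by
    refine eq_top_of_invariant hW T (fun h => hb₀0 ?_) (fun h2 hx => ?_) ?_ ?_
    · exact congrArg Subtype.val ((Submodule.mem_bot F).1 (h ▸ hT0) : (⟨b₀, hb₀⟩ : W) = 0)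
    · obtain ⟨x, hx0, hx⟩ := hx
      exact hex h2 ⟨x, x.2, fun h => hx0 (Subtype.ext h), hx⟩
    · intro a' y ha' hy
      rw [restr_apply] at ha'
      obtain ⟨c, hcU, hcu, -, hc⟩ := exists_mid hU (by omega) huU hfU hu hf huf (Q (a' : V))
      have hc1 : ∀ v ∈ W, (rO Q (a' : V) * rO Q c : O Q).1 v =
          v - ((Q (a' : V))⁻¹ * polar Q (a' : V) v) • (a' : V) := fun v hv => by
        rw [Subgroup.coe_mul, mul_app, rO_fix (v := c) (x := v) (hWU hcU hv), rO_app]
      have := hinv _ (rO_mul_mem hQ ha' hc) (by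
        rw [Subgroup.coe_mul, mul_app, rO_fix (v := c) (by rw [polar_comm]; exact hcu),
          rO_fix (v := (a' : V)) (by rw [polar_comm]; exact hub a'.2)])
        (fun v hv => by rw [hc1 v hv]; exact W.sub_mem hv (W.smul_mem _ a'.2)) y hy
      convert this using 1
      refine Subtype.ext ?_
      rw [Submodule.coe_sub, Submodule.coe_smul, polar_restr, restr_apply]
      exact (hc1 _ y.2).symm
    · intro x y' y hx hxy hy
      rw [restr_apply] at hx
      rw [polar_restr] at hxy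
      have := hinv (sie (x : V) (y' : V) hx hxy) (hcomm _ _ hx hxy)
        (sie_fix' hx hxy (by rw [polar_comm]; exact hub x.2) (by rw [polar_comm]; exact hub y'.2))
        (fun v hv => by rw [sie_app]; exact W.sub_mem (W.add_mem hv (W.smul_mem _ x.2)) (W.smul_mem _ y'.2)) y hy
      convert this using 1
      refine Subtype.ext ?_
      simp only [sie_app, Submodule.coe_sub, Submodule.coe_add, Submodule.coe_smul, polar_restr, restr_apply]
  have hfull : Full X u := fun w _ hw => by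
    obtain ⟨p', hp', q', hq', hpq⟩ := hdec w
    have hup' : polar Q u p' = 0 := by
      rw [hpq, polar_add_right, hub hq', add_zero] at hw
      exact hw
    have h1 : sie u q' hu (hub hq') ∈ X := by
      have := (hTtop ▸ Submodule.mem_top : (⟨q', hq'⟩ : W) ∈ T) 1 (by rw [one_smul]; exact hub hq')
      convert this using 1
      exact sie_congr _ _ _ _ rfl (one_smul F q').symm
    have := X.mul_mem (hUroot u p' hu hup' huU hp') h1
    rw [sie_mul] at this
    convert this using 1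
    exact sie_congr _ _ _ _ rfl hpq
  -- a second centre
  obtain ⟨w₂, hw₂U, hw₂u, hw₂f, hw₂⟩ := exists_mid hU (by omega) huU hfU hu hf huf 1
  have hmem₂ := hUroot f w₂ hf hw₂f hfU hw₂U
  refine sieGroup_le_of_pair hQ (by omega) hfull (hfull.map hmem₂) hu (by rw [O.map_app]; exact hu) ?_
  rw [sie_app, hw₂, polar_comm (⇑Q) f u, huf, polar_comm (⇑Q) w₂ u, hw₂u, polar_sub_right, polar_add_right,
    polar_smul_right', polar_smul_right', polar_self', hu, huf, hw₂u]
  norm_num

omit [Fintype F] in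
/-- An element of `X` sending a totally singular plane of the orthogonal into `W` gives a root element with
centre in `W`. -/
theorem hasRootOut_of_plane (hQ : Nondeg Q) (hW : Nondeg (restr Q W)) (hd : 5 ≤ finrank F (perp Q W))
    (hd4 : finrank F W = 4)
    (hroot : ∀ u w (hu : Q u = 0) (hw : polar Q u w = 0),
      (u ∈ perp Q W ∧ w ∈ perp Q W) ∨ (u ∈ W ∧ w ∈ W) → sie u w hu hw ∈ X)
    {g : O Q} (hgX : g ∈ X) {u w : V} (hu : u ∈ perp Q W) (hw : w ∈ perp Q W) (hu0 : u ≠ 0) (hw0 : w ≠ 0)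
    (hQu : Q u = 0) (hQw : Q w = 0) (huw : polar Q u w = 0) (huwsp : u ∉ Submodule.span F {w})
    (hgu : (g : V ≃ₗ[F] V) u ∈ W) (hgw : (g : V ≃ₗ[F] V) w ∈ W) : HasRootOut Q (perp Q W) X := by
  set L := Submodule.span F ({u, w} : Set V) with hL
  have hLd : finrank F L = 2 := by
    have h1 := Submodule.finrank_sup_add_finrank_inf_eq (Submodule.span F {u}) (Submodule.span F {w})
    rw [show Submodule.span F {u} ⊓ Submodule.span F {w} = ⊥ from (Submodule.eq_bot_iff _).2 fun x hx => by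
      obtain ⟨c, rfl⟩ := Submodule.mem_span_singleton.1 hx.1
      by_contra hne
      exact huwsp ((Submodule.smul_mem_iff _ (fun h => hne (by rw [h, zero_smul]))).1 hx.2),
      finrank_bot, finrank_span_singleton hu0, finrank_span_singleton hw0, ← Submodule.span_union,
      Set.singleton_union, ← hL] at h1
    omega
  obtain ⟨z, ⟨hz, hzL⟩, hzn⟩ : ∃ z ∈ perp Q W ⊓ perp Q L, z ∉ L := by
    refine SetLike.not_le_iff_exists.1 fun hle => ?_
    have h1 := Submodule.finrank_mono hle
    have h2 := Submodule.finrank_sup_add_finrank_inf_eq (perp Q W) (perp Q L)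
    have h3 := Submodule.finrank_le (perp Q W ⊔ perp Q L)
    have h4 := hQ.finrank_add_perp L
    omega
  set L' := L.map ((g : V ≃ₗ[F] V) : V →ₗ[F] V) with hL'
  have hL'W : L' ≤ W := by
    rintro _ ⟨x, hx, rfl⟩
    obtain ⟨a, b, rfl⟩ := Submodule.mem_span_pair.1 hx
    rw [LinearEquiv.coe_coe, map_add, map_smul, map_smul]
    exact W.add_mem (W.smul_mem _ hgu) (W.smul_mem _ hgw)
  have hL's : ∀ x ∈ L', x ∈ perp Q L' := by
    rintro _ ⟨x, hx, rfl⟩ _ ⟨y, hy, rfl⟩
    rw [LinearEquiv.coe_coe, O.polar_app]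
    obtain ⟨a, b, rfl⟩ := Submodule.mem_span_pair.1 hx
    obtain ⟨c, d, rfl⟩ := Submodule.mem_span_pair.1 hy
    simp only [polar_add_left, polar_add_right, polar_smul_left', polar_smul_right', polar_self', hQu, hQw, huw,
      polar_comm (⇑Q) w u]
    ring
  have heq : L' = W ⊓ perp Q L' := by
    refine Submodule.eq_of_le_of_finrank_le (le_inf hL'W hL's) ?_
    have h2 := Submodule.finrank_sup_add_finrank_inf_eq W (perp Q L')
    have h3 : perp Q (W ⊔ perp Q L') = ⊥ := by
      rw [perp_sup, hQ.perp_perp, eq_bot_iff, ← (nondeg_restr_iff W).1 hW]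
      exact fun x hx => ⟨hL'W hx.2, hx.1⟩
    have h5 := hQ.finrank_add_perp (W ⊔ perp Q L')
    rw [h3, finrank_bot, add_zero] at h5
    have h4 := hQ.finrank_add_perp L'
    have h6 : finrank F L' = finrank F L := LinearEquiv.finrank_map_eq _ _
    omega
  obtain ⟨q, hq, p, hp, hqp⟩ := Submodule.mem_sup.1
    ((hQ.isCompl_perp hW).sup_eq_top ▸ Submodule.mem_top : (g : V ≃ₗ[F] V) z ∈ W ⊔ perp Q W)
  have hqL : q ∈ L' := by
    rw [heq]
    refine ⟨hq, fun y hy => ?_⟩
    have h1 : polar Q y ((g : V ≃ₗ[F] V) z) = 0 := by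
      obtain ⟨x, hx, rfl⟩ := hy
      rw [LinearEquiv.coe_coe, O.polar_app]; exact hzL x hx
    rw [← hqp, polar_add_right, hp y (hL'W hy), add_zero] at h1
    exact h1
  obtain ⟨x, hx, hxq⟩ := hqL
  rw [LinearEquiv.coe_coe] at hxq
  have hgz : (g : V ≃ₗ[F] V) (z - x) = p := by rw [map_sub, hxq, ← hqp, add_sub_cancel_left]
  have hxU : x ∈ perp Q W := by
    obtain ⟨a, b, rfl⟩ := Submodule.mem_span_pair.1 hx
    exact add_mem ((perp Q W).smul_mem _ hu) ((perp Q W).smul_mem _ hw)
  have huz : polar Q u (z - x) = 0 := by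
    obtain ⟨a, b, rfl⟩ := Submodule.mem_span_pair.1 hx
    rw [polar_sub_right, hzL u (Submodule.subset_span (Set.mem_insert _ _)), polar_add_right, polar_smul_right',
      polar_smul_right', polar_self', hQu, huw]
    ring
  refine ⟨(g : V ≃ₗ[F] V) u, p, by rw [O.map_app]; exact hQu, by rw [← hgz, O.polar_app]; exact huz,
    by rw [hQ.perp_perp]; exact hgu, fun h => hu0 ((g : V ≃ₗ[F] V).map_eq_zero_iff.1 h), hp,
    fun h => hzn ?_, ?_⟩
  · rw [h, LinearEquiv.map_eq_zero_iff, sub_eq_zero] at hgz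
    exact hgz ▸ hx
  · have := X.mul_mem (X.mul_mem hgX (hroot u (z - x) hQu huz (Or.inl ⟨hu, (perp Q W).sub_mem hz hxU⟩)))
      (X.inv_mem hgX)
    rw [sie_conj] at this
    convert this using 1
    exact sie_congr _ _ _ _ rfl hgz.symm

/-- A subgroup containing the stabiliser of a four-space and moving it has a root element leading out of one of
the two parts. -/
theorem exists_root_out_or (hQ : Nondeg Q) (hW : Nondeg (restr Q W)) (hd : 5 ≤ finrank F (perp Q W))
    (hd4 : finrank F W = 4) (hL : HasSingularPlane Q (perp Q W))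
    (hroot : ∀ u w (hu : Q u = 0) (hw : polar Q u w = 0),
      (u ∈ perp Q W ∧ w ∈ perp Q W) ∨ (u ∈ W ∧ w ∈ W) → sie u w hu hw ∈ X)
    {g : O Q} (hgX : g ∈ X) (hgW : ∃ v ∈ W, (g : V ≃ₗ[F] V) v ∉ W) : HasRootOut Q W X ∨ HasRootOut Q (perp Q W) X := by
  by_contra hout
  set U := perp Q W with hUdef
  have hU : Nondeg (restr Q U) := hQ.nondeg_perp hW
  have hdisj : U ⊓ W = ⊥ := by rw [inf_comm]; exact (nondeg_restr_iff W).1 hW
  have hdec : ∀ z : V, ∃ p ∈ U, ∃ q ∈ W, z = p + q := fun z => by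
    obtain ⟨q, hq, p, hp, hqp⟩ := Submodule.mem_sup.1
      ((hQ.isCompl_perp hW).sup_eq_top ▸ Submodule.mem_top : z ∈ W ⊔ perp Q W)
    exact ⟨p, hp, q, hq, by rw [← hqp, add_comm]⟩
  have hUW : ∀ {p q : V}, p ∈ U → q ∈ W → polar Q p q = 0 := fun hp hq => by rw [polar_comm]; exact hp _ hq
  have hmove : ∀ {h : O Q}, h ∈ X → ∀ {s x : V}, s ∈ U → s ≠ 0 → Q s = 0 → (h : V ≃ₗ[F] V) s ∈ U → x ∈ U →
      polar Q s x = 0 → (h : V ≃ₗ[F] V) x ∈ U := by
    intro h hh s x hs hs0 hQs hhs hx hsx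
    by_contra hhx
    exact hout <| Or.inl (hasRootOut_of_move hdec (fun u w hu hw a b => hroot u w hu hw (Or.inl ⟨a, b⟩)) hh hs hs0 hQs hhs
      hx hsx hhx)
  have hconj : ∀ {u w : V}, (u ∈ U ∧ w ∈ U) ∨ (u ∈ W ∧ w ∈ W) → Q u = 0 → polar Q u w = 0 →
      ∀ (hu : Q ((g : V ≃ₗ[F] V) u) = 0) (hw : polar Q ((g : V ≃ₗ[F] V) u) ((g : V ≃ₗ[F] V) w) = 0),
      sie ((g : V ≃ₗ[F] V) u) ((g : V ≃ₗ[F] V) w) hu hw ∈ X := by
    intro u w hm hu hw _ _
    have := X.mul_mem (X.mul_mem hgX (hroot u w hu hw hm)) (X.inv_mem hgX)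
    rw [sie_conj] at this
    exact this
  -- no singular vector of `U` stays in `U`
  have hA : ∀ u ∈ U, u ≠ 0 → Q u = 0 → (g : V ≃ₗ[F] V) u ∉ U := by
    intro u hu hu0 hQu hgu
    obtain ⟨w, hw, hw0, hQw, huw, huwsp⟩ := hL.exists_perp u hu0
    have hall : ∀ v : U, Q (v : V) = 0 → (g : V ≃ₗ[F] V) v ∈ U := by
      intro v hQv
      obtain ⟨c, hc, hc0, hQc, huc, hvc⟩ :
          ∃ c ∈ U, c ≠ 0 ∧ Q c = 0 ∧ polar Q u c = 0 ∧ polar Q (v : V) c = 0 := by
        by_cases h0 : polar Q (v : V) u = 0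
        · exact ⟨u, hu, hu0, hQu, by rw [polar_self', hQu, mul_zero], h0⟩
        refine ⟨polar Q (v : V) w • u - polar Q (v : V) u • w, U.sub_mem (U.smul_mem _ hu) (U.smul_mem _ hw),
          fun h => huwsp ?_, ?_, ?_, ?_⟩
        · rw [sub_eq_zero] at h
          have hv1 : polar Q (v : V) w ≠ 0 := fun h1 => by
            rw [h1, zero_smul] at h
            exact hw0 ((smul_eq_zero.1 h.symm).resolve_left h0)
          exact Submodule.mem_span_singleton.2 ⟨_, by rw [← inv_smul_smul₀ hv1 u, h, smul_smul]⟩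
        · simp only [qmap_sub, qmap_smul, polar_smul_left', polar_smul_right', hQu, hQw, huw]; ring
        · simp only [polar_sub_right, polar_smul_right', polar_self', hQu, huw]; ring
        · simp only [polar_sub_right, polar_smul_right']; ring
      exact hmove hgX hc hc0 hQc (hmove hgX hu hu0 hQu hgu hc huc) v.2 (by rw [polar_comm]; exact hvc)
    have hgU : ∀ v ∈ U, (g : V ≃ₗ[F] V) v ∈ U := by
      intro v hv
      have := span_singular hU (by omega) ((U.comap ((g : V ≃ₗ[F] V) : V →ₗ[F] V)).comap U.subtype)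
        (fun u hu => hall u (by rwa [restr_apply] at hu))
      exact (this.symm ▸ Submodule.mem_top : (⟨v, hv⟩ : U) ∈ _)
    obtain ⟨v₀, hv₀, hv₀'⟩ := hgW
    have := perp_invariant g hgU
    rw [hUdef, hQ.perp_perp] at this
    exact hv₀' (this v₀ hv₀)
  -- nor does one move into `W`
  have hB : ∀ u ∈ U, u ≠ 0 → Q u = 0 → (g : V ≃ₗ[F] V) u ∉ W := by
    intro u hu hu0 hQu hgu
    obtain ⟨w, hw, hw0, hQw, huw, huwsp⟩ := hL.exists_perp u hu0
    have ha : Q ((g : V ≃ₗ[F] V) u) = 0 := by rw [O.map_app]; exact hQu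
    have hb : Q ((g : V ≃ₗ[F] V) w) = 0 := by rw [O.map_app]; exact hQw
    have hab : polar Q ((g : V ≃ₗ[F] V) u) ((g : V ≃ₗ[F] V) w) = 0 := by rw [O.polar_app]; exact huw
    have ha0 : (g : V ≃ₗ[F] V) u ≠ 0 := fun h => hu0 ((g : V ≃ₗ[F] V).map_eq_zero_iff.1 h)
    obtain ⟨p, hp, q, hq, hpq⟩ := hdec ((g : V ≃ₗ[F] V) w)
    have hp0 : p ≠ 0 := fun h => huwsp <| by
      have hgw : (g : V ≃ₗ[F] V) w ∈ W := by rw [hpq, h, zero_add]; exact hq
      exact (hout (Or.inr (hasRootOut_of_plane hQ hW hd hd4 hroot hgX hu hw hu0 hw0 hQu hQw huw huwsp hgu hgw))).elim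
    obtain ⟨s, hs, hs0, hQs, hps, hpsp⟩ := hL.exists_perp p hp0
    obtain ⟨x, hx, hxl, hpx⟩ := exists_sep hQ hW (L := Submodule.span F {s}) (by simpa using hs) hp hpsp
    have happ : ∀ {y : V}, y ∈ U → (sie _ _ ha hab : V ≃ₗ[F] V) y = y + polar Q p y • (g : V ≃ₗ[F] V) u := by
      intro y hy
      have h1 : polar Q ((g : V ≃ₗ[F] V) u) y = 0 := by rw [polar_comm]; exact hUW hy hgu
      have h2 : polar Q ((g : V ≃ₗ[F] V) w) y = polar Q p y := by
        rw [hpq, polar_add_left, polar_comm (⇑Q) q y, hUW hy hq, add_zero]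
      rw [sie_app, h1, h2, hb, zero_mul, sub_zero, zero_smul, sub_zero]
    have := hmove (hconj (Or.inl ⟨hu, hw⟩) hQu huw ha hab) hs hs0 hQs
      (by rw [happ hs, hps, zero_smul, add_zero]; exact hs) hx (hxl s (Submodule.mem_span_singleton_self s))
    rw [happ hx, U.add_mem_iff_right hx, Submodule.smul_mem_iff _ hpx] at this
    exact ha0 ((Submodule.mem_bot F).1 (hdisj ▸ (⟨this, hgu⟩ : (g : V ≃ₗ[F] V) u ∈ U ⊓ W)))
  -- the parts of `U` sent into `W` and into `U` fill it
  set N := U ⊓ W.comap ((g : V ≃ₗ[F] V) : V →ₗ[F] V) with hN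
  set M := U ⊓ U.comap ((g : V ≃ₗ[F] V) : V →ₗ[F] V) with hM
  have hfill : ∀ u ∈ U, Q u = 0 → u ∈ N ⊔ M := by
    intro u hu hQu
    rcases eq_or_ne u 0 with rfl | hu0
    · exact Submodule.zero_mem _
    obtain ⟨w, hw, hw0, hQw, huw, huwsp⟩ := hL.exists_perp u hu0
    obtain ⟨pa, hpa, qa, hqa, hae⟩ := hdec ((g : V ≃ₗ[F] V) u)
    obtain ⟨pb, hpb, qb, hqb, hbe⟩ := hdec ((g : V ≃ₗ[F] V) w)
    have ha : Q ((g : V ≃ₗ[F] V) u) = 0 := by rw [O.map_app]; exact hQu
    have hb : Q ((g : V ≃ₗ[F] V) w) = 0 := by rw [O.map_app]; exact hQw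
    have hab : polar Q ((g : V ≃ₗ[F] V) u) ((g : V ≃ₗ[F] V) w) = 0 := by rw [O.polar_app]; exact huw
    have hind : ∀ α β : F, α • qa + β • qb = 0 ∨ α • pa + β • pb = 0 → α = 0 ∧ β = 0 := by
      intro α β h
      have hsum : α • u + β • w = 0 := by
        by_contra hne
        have hQv : Q (α • u + β • w) = 0 := by
          rw [map_add_polar, qmap_smul, qmap_smul, polar_smul_left', polar_smul_right', hQu, hQw, huw]; ring
        have hgv : (g : V ≃ₗ[F] V) (α • u + β • w) = (α • pa + β • pb) + (α • qa + β • qb) := by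
          rw [map_add, map_smul, map_smul, hae, hbe]; module
        have hv := U.add_mem (U.smul_mem α hu) (U.smul_mem β hw)
        rcases h with h | h
        · exact hA _ hv hne hQv (by rw [hgv, h, add_zero]; exact U.add_mem (U.smul_mem _ hpa) (U.smul_mem _ hpb))
        · exact hB _ hv hne hQv (by rw [hgv, h, zero_add]; exact W.add_mem (W.smul_mem _ hqa) (W.smul_mem _ hqb))
      have hα : α = 0 := by
        by_contra hα
        refine huwsp (Submodule.mem_span_singleton.2 ⟨-(α⁻¹ * β), ?_⟩)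
        rw [← inv_smul_smul₀ hα u, eq_neg_of_add_eq_zero_left hsum]; module
      rw [hα, zero_smul, zero_add, smul_eq_zero] at hsum
      exact ⟨hα, hsum.resolve_right hw0⟩
    have hqa0 : qa ≠ 0 := fun h => one_ne_zero (hind 1 0 (Or.inl (by rw [h]; simp))).1
    have hpa0 : pa ≠ 0 := fun h => one_ne_zero (hind 1 0 (Or.inr (by rw [h]; simp))).1
    have hpU : ∀ {y p q z : V}, y ∈ U → q ∈ W → z = p + q → polar Q z y = polar Q p y := by
      rintro y p q z hy hq rfl
      rw [polar_add_left, polar_comm (⇑Q) q y, hUW hy hq, add_zero]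
    -- no singular vector of `U` is orthogonal to both projections
    have hnone : ∀ s ∈ U, s ≠ 0 → Q s = 0 → polar Q pa s = 0 → polar Q pb s = 0 → False := by
      intro s hs hs0 hQs h1 h2
      have happ : ∀ {y : V}, y ∈ U → (sie _ _ ha hab : V ≃ₗ[F] V) y =
          y + polar Q pb y • (g : V ≃ₗ[F] V) u - polar Q pa y • (g : V ≃ₗ[F] V) w := by
        intro y hy
        rw [sie_app, hb, hpU hy hqb hbe, hpU hy hqa hae, zero_mul, sub_zero]
      obtain ⟨z, hz, hzs⟩ : ∃ z, (z = pa ∨ z = pb) ∧ z ∉ Submodule.span F {s} := by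
        by_contra hc
        push Not at hc
        obtain ⟨a₁, h₁⟩ := Submodule.mem_span_singleton.1 (hc pa (Or.inl rfl))
        obtain ⟨b₁, h₂⟩ := Submodule.mem_span_singleton.1 (hc pb (Or.inr rfl))
        have := (hind b₁ (-a₁) (Or.inr (by rw [← h₁, ← h₂]; module))).2
        exact hpa0 (by rw [← h₁, neg_eq_zero.1 this, zero_smul])
      obtain ⟨x, hx, hxl, hzx⟩ := exists_sep hQ hW (L := Submodule.span F {s}) (by simpa using hs)
        (by rcases hz with rfl | rfl <;> assumption) hzs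
      have := hmove (hconj (Or.inl ⟨hu, hw⟩) hQu huw ha hab) hs hs0 hQs
        (by rw [happ hs, h1, h2]; simpa using hs) hx (hxl s (Submodule.mem_span_singleton_self s))
      rw [happ hx, hae, hbe, add_sub_assoc, U.add_mem_iff_right hx] at this
      have hq0 : polar Q pb x • qa + (-polar Q pa x) • qb = 0 := by
        refine (Submodule.mem_bot F).1 (hdisj ▸ (Submodule.mem_inf.2 ⟨?_, W.add_mem (W.smul_mem _ hqa) (W.smul_mem _ hqb)⟩ :
          polar Q pb x • qa + (-polar Q pa x) • qb ∈ U ⊓ W))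
        have h3 := U.sub_mem this (U.sub_mem (U.smul_mem (polar Q pb x) hpa) (U.smul_mem (polar Q pa x) hpb))
        convert h3 using 1
        module
      obtain ⟨e1, e2⟩ := hind _ _ (Or.inl hq0)
      rcases hz with rfl | rfl
      · exact hzx (neg_eq_zero.1 e2)
      · exact hzx e1
    -- so their span is anisotropic
    have haniso : ∀ α β : F, Q (α • pa + β • pb) = 0 → α = 0 ∧ β = 0 := by
      intro α β hy
      by_contra hne
      have hyU : α • pa + β • pb ∈ U := U.add_mem (U.smul_mem α hpa) (U.smul_mem β hpb)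
      have hy0 : α • pa + β • pb ≠ 0 := fun h => hne (hind α β (Or.inr h))
      set y := α • pa + β • pb with hy'
      obtain ⟨w', hw', hw'0, hQw', hyw', hysp⟩ := hL.exists_perp y hy0
      classical
      set z := if β = 0 then pb else pa with hz
      obtain ⟨s, hs, hs0, hQs, hys, hzs⟩ : ∃ s ∈ U, s ≠ 0 ∧ Q s = 0 ∧ polar Q y s = 0 ∧ polar Q z s = 0 := by
        by_cases h0 : polar Q z y = 0
        · exact ⟨y, hyU, hy0, hy, by rw [polar_self', hy, mul_zero], h0⟩
        refine ⟨polar Q z w' • y - polar Q z y • w', U.sub_mem (U.smul_mem _ hyU) (U.smul_mem _ hw'), ?_, ?_, ?_, ?_⟩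
        · intro h
          rw [sub_eq_zero] at h
          refine hysp ?_
          have h1 : polar Q z w' ≠ 0 := fun h1 => by
            rw [h1, zero_smul] at h
            exact hw'0 ((smul_eq_zero.1 h.symm).resolve_left h0)
          exact Submodule.mem_span_singleton.2 ⟨_, by rw [← inv_smul_smul₀ h1 y, h, smul_smul]⟩
        · simp only [qmap_sub, qmap_smul, polar_smul_left', polar_smul_right', hy, hQw', hyw']; ring
        · simp only [polar_sub_right, polar_smul_right', polar_self', hy, hyw']; ring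
        · simp only [polar_sub_right, polar_smul_right']; ring
      rw [hy', polar_add_left, polar_smul_left', polar_smul_left'] at hys
      rcases eq_or_ne β 0 with hβ | hβ
      · rw [hz, if_pos hβ] at hzs
        rw [hzs, mul_zero, add_zero] at hys
        have hα : α ≠ 0 := fun hα => hne ⟨hα, hβ⟩
        exact hnone s hs hs0 hQs ((mul_eq_zero.1 hys).resolve_left hα) hzs
      · rw [hz, if_neg hβ] at hzs
        rw [hzs, mul_zero, zero_add] at hys
        exact hnone s hs hs0 hQs hzs ((mul_eq_zero.1 hys).resolve_left hβ)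
    have hQpa : Q pa ≠ 0 := fun h => one_ne_zero (haniso 1 0 (by simpa using h)).1
    by_cases hker : ∃ w₀ ∈ U, w₀ ≠ 0 ∧ polar Q u w₀ = 0 ∧ (g : V ≃ₗ[F] V) w₀ ∈ W
    · -- a vector sent into `W`
      obtain ⟨w₀, hw₀, hw₀0, huw₀, hgw₀⟩ := hker
      have he : Q w₀ ≠ 0 := fun h => hB w₀ hw₀ hw₀0 h hgw₀
      have hab₀ : polar Q ((g : V ≃ₗ[F] V) u) ((g : V ≃ₗ[F] V) w₀) = 0 := by rw [O.polar_app]; exact huw₀
      have happ : ∀ {y : V}, y ∈ U → (sie _ _ ha hab₀ : V ≃ₗ[F] V) y =
          y + (-(Q w₀ * polar Q pa y)) • (g : V ≃ₗ[F] V) u - polar Q pa y • (g : V ≃ₗ[F] V) w₀ := by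
        intro y hy
        rw [sie_app, O.map_app, hpU hy hqa hae, polar_comm (⇑Q) _ y, hUW hy hgw₀, zero_sub]
      obtain ⟨s, hs, hs0, hQs, hps, hpsp⟩ := hL.exists_perp pa hpa0
      obtain ⟨x, hx, hxl, hpx⟩ := exists_sep hQ hW (L := Submodule.span F {s}) (by simpa using hs) hpa hpsp
      have := hmove (hconj (Or.inl ⟨hu, hw₀⟩) hQu huw₀ ha hab₀) hs hs0 hQs
        (by rw [happ hs, hps]; simpa using hs) hx (hxl s (Submodule.mem_span_singleton_self s))
      rw [happ hx, add_sub_assoc, U.add_mem_iff_right hx] at this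
      have hq0 : Q w₀ • qa + (g : V ≃ₗ[F] V) w₀ = 0 := by
        refine (Submodule.mem_bot F).1 (hdisj ▸ (Submodule.mem_inf.2 ⟨?_, W.add_mem (W.smul_mem _ hqa) hgw₀⟩ :
          Q w₀ • qa + (g : V ≃ₗ[F] V) w₀ ∈ U ⊓ W))
        rw [← Submodule.smul_mem_iff _ (neg_ne_zero.2 hpx)]
        have h3 := U.sub_mem this (U.smul_mem (-(Q w₀ * polar Q pa x)) hpa)
        convert h3 using 1
        rw [hae]; module
      have h1 : Q w₀ • u + w₀ ∈ M := by
        refine ⟨U.add_mem (U.smul_mem _ hu) hw₀, ?_⟩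
        rw [SetLike.mem_coe, Submodule.mem_comap, LinearEquiv.coe_coe, map_add, map_smul, hae, smul_add, add_assoc, hq0, add_zero]
        exact U.smul_mem _ hpa
      rw [← Submodule.smul_mem_iff _ he, show Q w₀ • u = -w₀ + (Q w₀ • u + w₀) by abel]
      exact Submodule.add_mem _ (Submodule.mem_sup_left ⟨U.neg_mem hw₀,
        by rw [SetLike.mem_coe, Submodule.mem_comap, map_neg]; exact W.neg_mem hgw₀⟩) (Submodule.mem_sup_right h1)
    · -- the projection is injective on the orthogonal of `u`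
      exfalso
      push Not at hker
      set K := U ⊓ perp Q (Submodule.span F {u}) with hK
      have huK : u ∈ K := ⟨hu, (mem_perp_span_singleton Q).2 (by rw [polar_self', hQu, mul_zero])⟩
      have hwK : w ∈ K := ⟨hw, (mem_perp_span_singleton Q).2 huw⟩
      set T := (K.map ((g : V ≃ₗ[F] V) : V →ₗ[F] V) ⊔ W) ⊓ U with hT
      have hKT : ∀ {v p q : V}, v ∈ K → p ∈ U → q ∈ W → (g : V ≃ₗ[F] V) v = p + q → p ∈ T := by
        intro v p q hv hp hq h
        exact ⟨Submodule.mem_sup.2 ⟨_, ⟨v, hv, rfl⟩, -q, W.neg_mem hq,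
          by rw [LinearEquiv.coe_coe, h, add_neg_cancel_right]⟩, hp⟩
      -- some vector orthogonal to `pa` is outside `T`
      obtain ⟨r, hr, hpr, hrT⟩ : ∃ r ∈ U, polar Q pa r = 0 ∧ r ∉ T := by
        by_contra hc
        push Not at hc
        obtain ⟨z, hz, hzT⟩ : ∃ z, z ∈ U ∧ z ∉ T := by
          by_contra hc2
          push Not at hc2
          have h1 := Submodule.finrank_mono (show U ⊔ W ≤ K.map ((g : V ≃ₗ[F] V) : V →ₗ[F] V) ⊔ W from
            sup_le (fun z hz => (hc2 z hz).1) le_sup_right)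
          have h2 := Submodule.finrank_sup_add_finrank_inf_eq U W
          rw [hdisj, finrank_bot] at h2
          have h3 := Submodule.finrank_add_le_finrank_add_finrank (K.map ((g : V ≃ₗ[F] V) : V →ₗ[F] V)) W
          rw [LinearEquiv.finrank_map_eq] at h3
          have h5 : K < U := lt_of_le_of_ne inf_le_left fun h => by
            have hz : (⟨u, hu⟩ : U) = 0 := hU ⟨u, hu⟩ fun y => by
              rw [polar_restr]
              exact (mem_perp_span_singleton Q).1 ((show (y : V) ∈ K from h.symm ▸ y.2).2)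
            exact hu0 (congrArg Subtype.val hz)
          have := Submodule.finrank_lt_finrank_of_lt h5
          omega
        -- one of the two projections is not orthogonal to `pa`
        obtain ⟨y, hyT, hy⟩ : ∃ y ∈ T, polar Q pa y ≠ 0 := by
          by_contra hc3
          push Not at hc3
          have e1 := hc3 pa (hKT huK hpa hqa hae)
          have e2 := hc3 pb (hKT hwK hpb hqb hbe)
          rw [polar_self'] at e1
          have h2 := (mul_eq_zero.1 e1).resolve_right hQpa
          obtain ⟨t, ht⟩ := isSquare_of_two_eq_zero h2 (-(Q pb) / Q pa)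
          refine one_ne_zero (haniso t 1 ?_).2
          rw [map_add_polar, qmap_smul, qmap_smul, polar_smul_left', polar_smul_right', e2, pow_two t, ← ht]
          field_simp; ring
        refine hzT ?_
        have := T.add_mem (hc (z - (polar Q pa z / polar Q pa y) • y) (U.sub_mem hz (U.smul_mem _ hyT.2))
          (by rw [polar_sub_right, polar_smul_right', div_mul_cancel₀ _ hy, sub_self]))
          (T.smul_mem (polar Q pa z / polar Q pa y) hyT)
        simpa using this
      obtain ⟨s, hs, hQs, hps, hsT⟩ := exists_singular_not_mem hQ hW hL hpa hQpa T hr hpr hrT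
      have hs0 : s ≠ 0 := fun h => hsT (h ▸ Submodule.zero_mem _)
      obtain ⟨w₁, hw₁, hw₁s, hw₁u⟩ : ∃ w₁ ∈ K, polar Q ((g : V ≃ₗ[F] V) w₁) s = 0 ∧
          w₁ ∉ Submodule.span F {u} := by
        by_contra hc
        push Not at hc
        have huw' : w ∉ Submodule.span F {u} := fun h => huwsp <| by
          obtain ⟨c, hc⟩ := Submodule.mem_span_singleton.1 h
          have hc0 : c ≠ 0 := fun h => hw0 (by rw [← hc, h, zero_smul])
          exact Submodule.mem_span_singleton.2 ⟨c⁻¹, by rw [← hc, inv_smul_smul₀ hc0]⟩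
        have hwS : polar Q ((g : V ≃ₗ[F] V) w) s ≠ 0 := fun h => huw' (hc w hwK h)
        have hKle : K ≤ Submodule.span F {u} ⊔ Submodule.span F {w} := fun y hy => by
          have := hc (y - (polar Q ((g : V ≃ₗ[F] V) y) s / polar Q ((g : V ≃ₗ[F] V) w) s) • w)
            (K.sub_mem hy (K.smul_mem _ hwK))
            (by rw [map_sub, map_smul, polar_sub_left, polar_smul_left', div_mul_cancel₀ _ hwS, sub_self])
          exact Submodule.mem_sup.2 ⟨_, this, _, Submodule.smul_mem _ _ (Submodule.mem_span_singleton_self w),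
            sub_add_cancel y _⟩
        have h1 := (Submodule.finrank_mono hKle).trans (Submodule.finrank_add_le_finrank_add_finrank _ _)
        rw [finrank_span_singleton hu0, finrank_span_singleton hw0] at h1
        have h2 := Submodule.finrank_sup_add_finrank_inf_eq U (perp Q (Submodule.span F {u}))
        have h3 := hQ.finrank_perp_singleton hu0
        have h4 := Submodule.finrank_le (U ⊔ perp Q (Submodule.span F {u}))
        rw [← hK] at h2
        omega
      obtain ⟨p₁, hp₁, q₁, hq₁, hbe₁⟩ := hdec ((g : V ≃ₗ[F] V) w₁)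
      have hp₁s : polar Q p₁ s = 0 := by rw [← hpU hs hq₁ hbe₁]; exact hw₁s
      have hp₁n : p₁ ∉ Submodule.span F {pa} ⊔ Submodule.span F {s} := by
        intro h
        obtain ⟨a', ha', s', hs', hsum⟩ := Submodule.mem_sup.1 h
        obtain ⟨γ, rfl⟩ := Submodule.mem_span_singleton.1 ha'
        obtain ⟨δ, rfl⟩ := Submodule.mem_span_singleton.1 hs'
        have hδ : δ = 0 := by
          by_contra hδ
          refine hsT ((Submodule.smul_mem_iff _ hδ).1 ?_)
          rw [show δ • s = p₁ - γ • pa from eq_sub_of_add_eq' hsum]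
          exact T.sub_mem (hKT hw₁ hp₁ hq₁ hbe₁) (T.smul_mem _ (hKT huK hpa hqa hae))
        rw [hδ, zero_smul, add_zero] at hsum
        refine hw₁u (Submodule.mem_span_singleton.2 ⟨γ, ?_⟩)
        by_contra hne
        refine hker (w₁ - γ • u) (U.sub_mem hw₁.1 (U.smul_mem _ hu)) (sub_ne_zero.2 (Ne.symm hne)) ?_ ?_
        · rw [polar_sub_right, polar_smul_right', (mem_perp_span_singleton Q).1 hw₁.2, polar_self', hQu]; ring
        · rw [map_sub, map_smul, hbe₁, hae, ← hsum, show γ • pa + q₁ - γ • (pa + qa) = q₁ - γ • qa by module]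
          exact W.sub_mem hq₁ (W.smul_mem _ hqa)
      obtain ⟨x, hx, hxl, hpx⟩ := exists_sep hQ hW (L := Submodule.span F {pa} ⊔ Submodule.span F {s})
        (sup_le (by simpa using hpa) (by simpa using hs)) hp₁ hp₁n
      have hpax := hxl pa (Submodule.mem_sup_left (Submodule.mem_span_singleton_self pa))
      have hsx := hxl s (Submodule.mem_sup_right (Submodule.mem_span_singleton_self s))
      have hab₁ : polar Q ((g : V ≃ₗ[F] V) u) ((g : V ≃ₗ[F] V) w₁) = 0 := by
        rw [O.polar_app]; exact (mem_perp_span_singleton Q).1 hw₁.2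
      have happ : ∀ {y : V}, y ∈ U → polar Q pa y = 0 → (sie _ _ ha hab₁ : V ≃ₗ[F] V) y =
          y + polar Q p₁ y • (g : V ≃ₗ[F] V) u := by
        intro y hy h0
        rw [sie_app, hpU hy hq₁ hbe₁, hpU hy hqa hae, h0, mul_zero, sub_zero, zero_smul, sub_zero]
      have := hmove (hconj (Or.inl ⟨hu, hw₁.1⟩) hQu ((mem_perp_span_singleton Q).1 hw₁.2) ha hab₁) hs hs0 hQs
        (by rw [happ hs hps, hp₁s]; simpa using hs) hx hsx
      rw [happ hx hpax, U.add_mem_iff_right hx, Submodule.smul_mem_iff _ hpx] at this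
      exact hA u hu hu0 hQu this
  -- `U` is the sum of two anisotropic planes
  have hUle : U ≤ N ⊔ M := fun v hv => by
    have := span_singular hU (by omega) ((N ⊔ M).comap U.subtype)
      (fun u hu => hfill u u.2 (by rwa [restr_apply] at hu))
    exact (this.symm ▸ Submodule.mem_top : (⟨v, hv⟩ : U) ∈ _)
  have hNM : H96.EvenMax.Orth Q N M := fun n hn m hm => by
    rw [← O.polar_app g, polar_comm]
    exact hUW hm.2 hn.2
  have hNa : Aniso Q N := fun n hn hQn => by_contra fun h0 => hB n hn.1 h0 hQn hn.2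
  have hMa : Aniso Q M := fun m hm hQm => by_contra fun h0 => hA m hm.1 h0 hQm hm.2
  have hnd : ∀ {A B : Submodule F V}, A ≤ U → H96.EvenMax.Orth Q A B → U ≤ A ⊔ B → Nondeg (restr Q A) := by
    intro A B hAU hAB hle x hx
    have hz : (⟨(x : V), hAU x.2⟩ : U) = 0 := hU ⟨x, hAU x.2⟩ fun y => by
      obtain ⟨a, ha, b, hb, hab⟩ := Submodule.mem_sup.1 (hle y.2)
      have h1 := hx ⟨a, ha⟩
      rw [polar_restr] at h1
      rw [polar_restr]
      change polar Q (x : V) (y : V) = 0
      rw [← hab, polar_add_right, h1, hAB _ x.2 _ hb, add_zero]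
    have h := congrArg Subtype.val hz
    exact Subtype.ext h
  have hNn : Nondeg (restr Q N) := hnd (A := N) inf_le_left hNM hUle
  have hMn : Nondeg (restr Q M) := hnd (A := M) inf_le_left hNM.symm (hUle.trans_eq (sup_comm N M))
  have hN2 := finrank_le_two_of_aniso hNn hNa
  have hM2 := finrank_le_two_of_aniso hMn hMa
  have hdNM := (Submodule.finrank_mono hUle).trans (Submodule.finrank_add_le_finrank_add_finrank N M)
  omega

end Abstract

variable {F : Type*} [Field F] [Fintype F] {ι : Type} [Fintype ι] [DecidableEq ι] {Q : QuadraticForm F (ι → F)}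

/-- Four-spaces of a nine-space. -/
theorem isMaximalIn_four (hQ : Nondeg Q) {W : Submodule F (ι → F)} (hW : Nondeg (restr Q W))
    (hd : 5 ≤ finrank F (perp Q W)) (hd4 : finrank F W = 4) :
    Cfsg.Geo.IsMaximalIn (Cfsg.Geo.omegaGL ⇑Q) (Cfsg.Geo.subspaceStabilizer W ⊓ Cfsg.Geo.omegaGL ⇑Q) := by
  have hr := hQ.finrank_add_perp W
  have hn : 5 ≤ finrank F (ι → F) := by omega
  have hW0 : W ≠ ⊥ := fun h => by rw [h, finrank_bot] at hd4; omega
  refine isMaximalIn_omega hQ hn _ ?_ fun X hX hg => ?_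
  · obtain ⟨u, hu0, hu⟩ := (hQ.nondeg_perp hW).exists_singular (by omega)
    rw [restr_apply] at hu
    obtain ⟨b, hb, hb0⟩ := (Submodule.ne_bot_iff W).1 hW0
    obtain ⟨x, hx⟩ := hW.exists_polar_eq (x := ⟨b, hb⟩) (fun h => hb0 (congrArg Subtype.val h)) 1
    rw [polar_restr] at hx
    have hub : polar Q (u : ι → F) b = 0 := (polar_comm (⇑Q) (u : ι → F) b).trans (u.2 b hb)
    have hux : polar Q (u : ι → F) x = 0 := (polar_comm (⇑Q) (u : ι → F) x).trans (u.2 x x.2)
    refine ⟨sie (u : ι → F) b hu hub, sie_mem_commutator hQ hn hu hub, fun hmem => ?_⟩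
    have h1 := ((H96.mem_subspaceStabilizer_om Q W _).1 hmem x).1 x.2
    rw [sie_app, hx, hux, mul_zero, sub_zero, one_smul, zero_smul, sub_zero, W.add_mem_iff_right x.2] at h1
    have : (u : ι → F) ∈ W ⊓ perp Q W := ⟨h1, u.2⟩
    rw [(nondeg_restr_iff W).1 hW, Submodule.mem_bot] at this
    exact hu0 (Subtype.ext this)
  obtain ⟨g, hg, hgS⟩ := hg
  have hgW : ∃ v ∈ W, (g : (ι → F) ≃ₗ[F] (ι → F)) v ∉ W := by
    by_contra hc
    push Not at hc
    exact hgS ((H96.mem_subspaceStabilizer_om Q W g).2 fun v => stab_iff_of_le g hc v)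
  have hX' : ∀ x ∈ commutator (O Q), (∀ v ∈ W, (x : (ι → F) ≃ₗ[F] (ι → F)) v ∈ W) → x ∈ X := fun x hx h =>
    hX x hx ((H96.mem_subspaceStabilizer_om Q W x).2 fun v => stab_iff_of_le x h v)
  have hroots : ∀ u w (hu : Q u = 0) (hw : polar Q u w = 0),
      (u ∈ perp Q W ∧ w ∈ perp Q W) ∨ (u ∈ W ∧ w ∈ W) → sie u w hu hw ∈ X := by
    rintro u w hu hw (⟨h1, h2⟩ | ⟨h1, h2⟩)
    · exact hX' _ (sie_mem_commutator hQ hn hu hw) fun v hv => by
        rw [sie_fix' hu hw (by rw [polar_comm]; exact h1 v hv) (by rw [polar_comm]; exact h2 v hv)]; exact hv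
    · exact hX' _ (sie_mem_commutator hQ hn hu hw) fun v hv => by
        rw [sie_app]; exact W.sub_mem (W.add_mem hv (W.smul_mem _ h1)) (W.smul_mem _ h2)
  rcases exists_root_out_or hQ hW hd hd4 (hasSingularPlane_of_five (hQ.nondeg_perp hW) hd) hroots hg hgW with h | h
  · exact sieGroup_le_of_rootOut hQ hn hW (by omega) (fun e => by omega) hX' h
  · refine sieGroup_le_of_rootOut hQ hn (hQ.nondeg_perp hW) (by rw [hQ.perp_perp]; omega) (fun e => by omega)
      (fun x hx h => hX' x hx ?_) h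
    have := perp_invariant x h
    rwa [hQ.perp_perp] at this

end Cfsg.Agent.H55.OmegaNine
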