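import Cfsg.Agent.H55.OmegaNine.Kernel

/-!
Involutions of the stabiliser of the tensor square.
-/

set_option autoImplicit false

namespace Cfsg.Agent.H55.OmegaNine

open Matrix QuadraticMap Cfsg.Agent.Orthogonal

section Algebra

variable {F : Type*} [Field F]

theorem scalar_of_commute_all {P : M3 F} (h : ∀ X : M3 F, P * X = X * P) : P = P 0 0 • 1 := by
  have e : ∀ i j k l, (P * Matrix.single i j 1 : M3 F) k l = (Matrix.single i j 1 * P : M3 F) k l := fun i j k l => by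
    rw [h]
  have a1 := e 1 0 1 0
  have a2 := e 2 0 2 0
  have b1 := e 0 0 1 0
  have b2 := e 0 0 2 0
  have b3 := e 1 1 0 1
  have b4 := e 1 1 2 1
  have b5 := e 2 2 0 2
  have b6 := e 2 2 1 2
  simp [Matrix.mul_apply, Matrix.single_apply, Fin.sum_univ_three] at a1 a2 b1 b2 b3 b4 b5 b6
  ext i j
  fin_cases i <;> fin_cases j <;> simp [a1, a2, b1, b2, b3, b4, b5, b6]

theorem IsSO.smul_eq {A A' : M3 F} (hA : IsSO A) (hA' : IsSO A') {c : F} (h : A = c • A') : c = 1 := by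
  have e1 : c * c = 1 := by
    have := hA.orth
    rw [IsOrth, h, transpose_smul, smul_mul_smul_comm, show A' * A'ᵀ = 1 from hA'.orth] at this
    simpa [Matrix.smul_apply] using congrFun (congrFun this 0) 0
  have e2 := congrArg Matrix.det h
  rw [det_smul, hA.det, hA'.det, Fintype.card_fin, pow_succ, pow_two, e1, one_mul, mul_one] at e2
  exact e2.symm

theorem sq_cases (h2 : (2 : F) ≠ 0) {A : M3 F} (hA : IsSO A) (h : A * A = 1) :
    A = 1 ∨ ∃ n, n ⬝ᵥ n ≠ 0 ∧ A = rn n := by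
  by_cases h1 : A = 1
  · exact Or.inl h1
  · exact Or.inr (exists_rn h2 hA h h1)

/-- The product of two commuting half-turns has trace three only for equal half-turns. -/
theorem trace_rn_mul (h2 : (2 : F) ≠ 0) {n k : V3 F} (hn : n ⬝ᵥ n ≠ 0) (hk : k ⬝ᵥ k ≠ 0)
    (hc : rn n * rn k = rn k * rn n) (ht : (rn n * rn k).trace = 3) : rn n = rn k := by
  rcases axes_of_commute h2 hn hk hc with h | h
  · exfalso
    rw [rn, rn, sub_mul, mul_sub, mul_sub, one_mul, mul_one, one_mul, smul_mul_smul_comm, vv_mul, h, zero_smul,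
      smul_zero, trace_sub, trace_sub, trace_sub, trace_zero, trace_smul, trace_smul, trace_vecMulVec,
      trace_vecMulVec, trace_one, Fintype.card_fin, smul_eq_mul, smul_eq_mul, div_mul_cancel₀ _ hn,
      div_mul_cancel₀ _ hk] at ht
    exact mul_ne_zero h2 h2 (by push_cast at ht; linear_combination -ht)
  · exact h

/-- Rescaling a square axis to a unit one. -/
theorem exists_unit_axis {n : V3 F} (hn : n ⬝ᵥ n ≠ 0) (h : IsSquare (n ⬝ᵥ n)) :
    ∃ n', n' ⬝ᵥ n' = 1 ∧ rn n' = rn n := by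
  obtain ⟨r, hr⟩ := h
  have hr0 : r ≠ 0 := fun e => hn (by rw [hr, e, zero_mul])
  refine ⟨r⁻¹ • n, ?_, rn_smul (inv_ne_zero hr0) n⟩
  rw [smul_dotProduct, dotProduct_smul, hr, smul_eq_mul, smul_eq_mul]
  field_simp

/-- A frame through a unit vector. -/
theorem exists_frame_unit [Finite F] (h2 : (2 : F) ≠ 0) {n : V3 F} (hn : n ⬝ᵥ n = 1) :
    ∃ m k : V3 F, m ⬝ᵥ m = 1 ∧ k ⬝ᵥ k = 1 ∧ n ⬝ᵥ m = 0 ∧ rn n * rn m = rn k ∧ rn n * rn m = rn m * rn n := by
  obtain ⟨m, hnm, hm⟩ := exists_value_perp h2 (n := n) (by rw [hn]; exact one_ne_zero) 1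
  obtain ⟨h1, h3, h4⟩ := frame_cross n m hnm
  have hn0 : n ⬝ᵥ n ≠ 0 := by rw [hn]; exact one_ne_zero
  have hm0 : m ⬝ᵥ m ≠ 0 := by rw [hm]; exact one_ne_zero
  have hk : n ⨯₃ m ⬝ᵥ n ⨯₃ m = 1 := by rw [h4, hn, hm, one_mul]
  refine ⟨m, n ⨯₃ m, hm, hk, hnm, ?_, ?_⟩
  · refine Matrix.ext_iff_mulVec.2 fun v => ?_
    rw [expand hn0 hm0 hnm v]
    simp only [mulVec_add, mulVec_smul, ← mulVec_mulVec, rn_self hn0, rn_self hm0, rn_perp hnm,
      rn_perp (show m ⬝ᵥ n = 0 by rw [dotProduct_comm]; exact hnm), rn_perp h1, rn_perp h3,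
      rn_perp (show n ⨯₃ m ⬝ᵥ n = 0 by rw [dotProduct_comm]; exact h1),
      rn_perp (show n ⨯₃ m ⬝ᵥ m = 0 by rw [dotProduct_comm]; exact h3),
      rn_self (show n ⨯₃ m ⬝ᵥ n ⨯₃ m ≠ 0 by rw [hk]; exact one_ne_zero), mulVec_neg, neg_neg]
  · refine Matrix.ext_iff_mulVec.2 fun v => ?_
    rw [expand hn0 hm0 hnm v]
    simp only [mulVec_add, mulVec_smul, ← mulVec_mulVec, rn_self hn0, rn_self hm0, rn_perp hnm,
      rn_perp (show m ⬝ᵥ n = 0 by rw [dotProduct_comm]; exact hnm), rn_perp h1, rn_perp h3, mulVec_neg]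

end Algebra

namespace Coord

variable {F : Type*} [Field F] {ι : Type} [Fintype ι] [DecidableEq ι]
  {Q : QuadraticForm F (ι → F)} {N : Subgroup (GL ι F)} {C : Coord Q N} {H : Subgroup (O Q)}

theorem Tn.inj {g : O Q} {A B A' B' : M3 F} (h : C.Tn g A B) (h' : C.Tn g A' B') (hA : IsSO A) (hB : IsSO B)
    (hA' : IsSO A') (hB' : IsSO B') : A = A' ∧ B = B' := by
  set P := A'ᵀ * A
  set R := Bᵀ * B'
  have key : ∀ X, P * X * R = X := fun X => by
    have e := (h X).symm.trans (h' X)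
    calc A'ᵀ * A * X * (Bᵀ * B') = A'ᵀ * (A * X * Bᵀ) * B' := by simp only [mul_assoc]
      _ = A'ᵀ * A' * X * (B'ᵀ * B') := by rw [e]; simp only [mul_assoc]
      _ = X := by rw [hA'.orth.tmul, hB'.orth.tmul, one_mul, mul_one]
  have hPR : P * R = 1 := by simpa using key 1
  have hRP : R * P = 1 := mul_eq_one_comm.1 hPR
  have hcomm : ∀ X, P * X = X * P := fun X => by
    calc P * X = P * X * (R * P) := by rw [hRP, mul_one]
      _ = P * X * R * P := (mul_assoc _ _ _).symm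
      _ = X * P := by rw [key]
  have hP : P = 1 := by
    have e := scalar_of_commute_all hcomm
    rw [e, (hA'.transpose.mul hA).smul_eq isSO_one e, one_smul]
  rw [hP, one_mul] at hPR
  have e1 : A = A' := by
    calc A = A' * A'ᵀ * A := by rw [show A' * A'ᵀ = 1 from hA'.orth, one_mul]
      _ = A' := by rw [mul_assoc, show A'ᵀ * A = 1 from hP, mul_one]
  refine ⟨e1, ?_⟩
  calc B = B * (Bᵀ * B') := by rw [show Bᵀ * B' = 1 from hPR, mul_one]
    _ = B' := by rw [← mul_assoc, show B * Bᵀ = 1 from hB.orth, one_mul]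

theorem Tn.ne_sw {g : O Q} {A B A' B' : M3 F} (h : C.Tn g A B) (h' : C.Sw g A' B') (hA : IsSO A) (hB : IsSO B)
    (hA' : IsSO A') (hB' : IsSO B') : False := by
  have e := congrArg Matrix.det ((h 1).symm.trans (h' 1))
  rw [det_neg, det_mul, det_mul, det_mul, det_mul, det_one, transpose_one, det_one, det_transpose, det_transpose,
    hA.det, hB.det, hA'.det, hB'.det, Fintype.card_fin] at e
  exact C.h2 (by linear_combination e)

theorem Tn.one_iff {g : O Q} {A B : M3 F} (h : C.Tn g A B) (hA : IsSO A) (hB : IsSO B) :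
    g = 1 ↔ A = 1 ∧ B = 1 := by
  refine ⟨fun e => ?_, fun ⟨e1, e2⟩ => ?_⟩
  · subst e; exact h.inj tn_one hA hB isSO_one isSO_one
  · subst e1 e2; exact h.ext tn_one

theorem Tn.comm_eq {g g' : O Q} {A B A' B' : M3 F} (h : C.Tn g A B) (h' : C.Tn g' A' B') (hA : IsSO A) (hB : IsSO B)
    (hA' : IsSO A') (hB' : IsSO B') (e : g * g' = g' * g) : A * A' = A' * A ∧ B * B' = B' * B :=
  (e ▸ h.mul h').inj (h'.mul h) (hA.mul hA') (hB.mul hB') (hA'.mul hA) (hB'.mul hB)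

theorem Tn.comm {g g' : O Q} {A B A' B' : M3 F} (h : C.Tn g A B) (h' : C.Tn g' A' B') (e1 : A * A' = A' * A)
    (e2 : B * B' = B' * B) : g * g' = g' * g := by
  have h1 := h.mul h'
  rw [e1, e2] at h1
  exact h1.ext (h'.mul h)

theorem Tn.conj {g k : O Q} {A B P R : M3 F} (h : C.Tn g A B) (hk : C.Tn k P R) (hP : IsOrth P) (hR : IsOrth R) :
    C.Tn (k * g * k⁻¹) (P * A * Pᵀ) (R * B * Rᵀ) := (hk.mul h).mul (hk.inv hP hR)

theorem Tn.conj_sw {g k : O Q} {A B P R : M3 F} (h : C.Tn g A B) (hk : C.Sw k P R) (hP : IsOrth P) (hR : IsOrth R) :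
    C.Tn (k * g * k⁻¹) (P * B * Pᵀ) (R * A * Rᵀ) := (hk.mul_tn h).mul (hk.inv hP hR)

/-- An element of `Sw` form never commutes with a half-turn of one factor. -/
theorem Sw.not_comm_left {g z : O Q} {A B : M3 F} {n : V3 F} (h : C.Sw g A B) (hz : C.Tn z (rn n) 1)
    (hn : n ⬝ᵥ n ≠ 0) (hA : IsSO A) (hB : IsSO B) : g * z ≠ z * g := by
  intro e
  have e1 := h.mul_tn hz
  have e2 := hz.mul_sw h
  rw [e] at e1
  have e3 := e1.mul (h.inv hA.orth hB.orth)
  have e4 := e2.mul (h.inv hA.orth hB.orth)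
  rw [mul_one, show A * Aᵀ = 1 from hA.orth] at e3
  rw [mul_assoc (rn n), show A * Aᵀ = 1 from hA.orth, mul_one] at e4
  exact rn_ne_one C.h2 hn (e4.inj e3 (isSO_rn hn) ((isSO_one.mul hB).mul hB.transpose) isSO_one
    ((hB.mul (isSO_rn hn)).mul hB.transpose)).1

variable [Finite F]

theorem isSquare_axis {g : O Q} {n : V3 F} (hn : n ⬝ᵥ n ≠ 0) (h : C.Tn g (rn n) 1) (hg : g ∈ commutator (O Q)) :
    IsSquare (n ⬝ᵥ n) := by
  have e := (C.mem_Om g).1 hg
  rw [xi_rn hn h] at e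
  exact sqSign_eq_one_iff.1 (congrArg Prod.snd e)

theorem sign_axes {g : O Q} {n m : V3 F} (hn : n ⬝ᵥ n ≠ 0) (hm : m ⬝ᵥ m ≠ 0) (h : C.Tn g (rn n) (rn m))
    (hg : g ∈ commutator (O Q)) : sqSign (n ⬝ᵥ n) = sqSign (m ⬝ᵥ m) := by
  obtain ⟨a, ha⟩ := C.exists_tn (isSO_rn hn).orth (isOrth_one (F := F))
  obtain ⟨b, hb⟩ := C.exists_tn (isSO_rn hm).orth (isOrth_one (F := F))
  have e := (C.mem_Om g).1 hg
  rw [h.xi_eq ha hb (isSO_rn hn).orth (isSO_rn hm).orth, xi_rn hn ha, xi_rn hm hb] at e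
  have e2 : sqSign (n ⬝ᵥ n) * sqSign (m ⬝ᵥ m) = 1 := congrArg Prod.snd e
  calc sqSign (n ⬝ᵥ n) = sqSign (n ⬝ᵥ n) * (sqSign (m ⬝ᵥ m) * sqSign (m ⬝ᵥ m)) := by
        rw [Int.units_mul_self, mul_one]
    _ = _ := by rw [← mul_assoc, e2, one_mul]

variable (C) in
theorem exists_left_unit (hH : Above (N := N) H) {n : V3 F} (hn : n ⬝ᵥ n = 1) :
    ∃ g ∈ H, C.Tn g (rn n) 1 := by
  have hn0 : n ⬝ᵥ n ≠ 0 := by rw [hn]; exact one_ne_zero
  obtain ⟨g, hg⟩ := C.exists_tn (isSO_rn hn0).orth (isOrth_one (F := F))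
  refine ⟨g, hH.2 _ ((C.mem_Om g).2 ?_) hg.inN, hg⟩
  rw [xi_rn hn0 hg, hn, sqSign_of_isSquare IsSquare.one]
  rfl

variable (C) in
theorem exists_right_unit (hH : Above (N := N) H) {n : V3 F} (hn : n ⬝ᵥ n = 1) :
    ∃ g ∈ H, C.Tn g 1 (rn n) := by
  have hn0 : n ⬝ᵥ n ≠ 0 := by rw [hn]; exact one_ne_zero
  obtain ⟨a, ha⟩ := C.exists_tn (isSO_rn hn0).orth (isOrth_one (F := F))
  obtain ⟨g, hg⟩ := C.exists_tn (isOrth_one (F := F)) (isSO_rn hn0).orth
  refine ⟨g, hH.2 _ ((C.mem_Om g).2 ?_) hg.inN, hg⟩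
  rw [xi_symm ha hg, xi_rn hn0 ha, hn, sqSign_of_isSquare IsSquare.one]
  rfl

variable (C) in
/-- A swap in the group carrying one unit axis to another. -/
theorem exists_swap_map (hH : Above (N := N) H) {n m : V3 F} (hn : n ⬝ᵥ n = 1) (hm : m ⬝ᵥ m = 1) :
    ∃ g ∈ H, ∃ A B : M3 F, IsSO A ∧ IsSO B ∧ C.Sw g A B ∧ A *ᵥ m = n := by
  have h2 := C.h2
  obtain ⟨A, hA, hAm⟩ := exists_map_unit h2 hm hn
  obtain ⟨t, ht⟩ := C.exists_sw hA.orth (isOrth_one (F := F))
  have ht1 : (C.xi t).1 = 1 := by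
    obtain ⟨t0, ht0⟩ := C.exists_sw (isOrth_one (F := F)) isOrth_one
    obtain ⟨a, ha⟩ := C.exists_tn hA.orth (isOrth_one (F := F))
    have e := ha.mul_sw ht0
    simp only [mul_one] at e
    have hte : t = a * t0 := C.ext_act fun X => by rw [ht, e]
    rw [hte, map_mul, Prod.fst_mul, C.xi_fst_sw_one ht0, mul_one]
    exact ((xi_fst_of_det hA.orth ha).resolve_right fun d => h2 (by linear_combination hA.det.symm.trans d.1)).2
  obtain ⟨δ, hδ⟩ := FiniteField.exists_nonsquare (F := F) (by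
    intro hc; exact h2 (by have := ringChar.Nat.cast_ringChar (R := F); rw [hc] at this; exact_mod_cast this))
  have hδ0 : δ ≠ 0 := fun e0 => hδ (e0 ▸ IsSquare.zero)
  obtain ⟨c, hc, hc'⟩ : ∃ c : F, c ≠ 0 ∧ (C.xi t).2 * sqSign c = 1 := by
    rcases Int.units_eq_one_or (C.xi t).2 with h | h
    · exact ⟨1, one_ne_zero, by rw [h, one_mul, sqSign_of_isSquare IsSquare.one]⟩
    · exact ⟨δ, hδ0, by rw [h, sqSign_of_not_isSquare hδ]; decide⟩
  obtain ⟨k, -, hk⟩ := exists_value_perp h2 (n := n) (by rw [hn]; exact one_ne_zero) c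
  have hk0 : k ⬝ᵥ k ≠ 0 := by rw [hk]; exact hc
  obtain ⟨a, ha⟩ := C.exists_tn (isSO_rn hk0).orth (isOrth_one (F := F))
  obtain ⟨b, hb⟩ := C.exists_tn (isOrth_one (F := F)) (isSO_rn hk0).orth
  have hsw := hb.mul_sw ht
  rw [one_mul, mul_one] at hsw
  refine ⟨b * t, hH.2 _ ((C.mem_Om _).2 ?_) hsw.inN, A, rn k, hA, isSO_rn hk0, hsw, hAm⟩
  rw [map_mul, xi_symm ha hb, xi_rn hk0 ha, hk]
  refine Prod.ext (by rw [Prod.fst_mul, ht1, mul_one]; rfl) ?_
  rw [Prod.snd_mul, mul_comm, hc']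
  rfl

/-- An element carrying a half-turn of the left factor to one of the right factor. -/
theorem inN_of_swap (hH : Above (N := N) H) (hnf : C.NoEl H) {n m : V3 F} (hn : n ⬝ᵥ n = 1) (hm : m ⬝ᵥ m = 1)
    {z : O Q} (hz : C.Tn z (rn n) 1) {h : O Q} (hh : h ∈ H) (he : C.Tn (h * z * h⁻¹) 1 (rn m)) :
    InN (N := N) h := by
  obtain ⟨t, ht, A, B, hA, hB, htS, hAm⟩ := C.exists_swap_map hH hn hm
  have h1 := he.conj_sw htS hA.orth hB.orth
  rw [hA.orth.rn_conj, hAm, mul_one, show B * Bᵀ = 1 from hB.orth] at h1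
  have e : (t * h) * z * (t * h)⁻¹ = z := by
    rw [show t * h * z * (t * h)⁻¹ = t * (h * z * h⁻¹) * t⁻¹ by group]
    exact h1.ext hz
  have := inN_of_comm_left hH hnf (n := n) (by rw [hn]; exact one_ne_zero) hz (H.mul_mem ht hh)
    (mul_inv_eq_iff_eq_mul.1 e)
  have := (Sw.inN htS).inv.mul this
  rwa [inv_mul_cancel_left] at this

/-- An element carrying a half-turn of the left factor to another. -/
theorem inN_of_left (hH : Above (N := N) H) (hnf : C.NoEl H) {n m : V3 F} (hn : n ⬝ᵥ n = 1) (hm : m ⬝ᵥ m = 1)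
    {z : O Q} (hz : C.Tn z (rn n) 1) {h : O Q} (hh : h ∈ H) (he : C.Tn (h * z * h⁻¹) (rn m) 1) :
    InN (N := N) h := by
  obtain ⟨A, hA, hAm⟩ := exists_map_unit C.h2 hm hn
  obtain ⟨t, ht, htT⟩ := C.exists_diag hH hA.orth
  have h1 := he.conj htT hA.orth hA.orth
  rw [hA.orth.rn_conj, hAm, mul_one, show A * Aᵀ = 1 from hA.orth] at h1
  have e : (t * h) * z * (t * h)⁻¹ = z := by
    rw [show t * h * z * (t * h)⁻¹ = t * (h * z * h⁻¹) * t⁻¹ by group]
    exact h1.ext hz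
  have := inN_of_comm_left hH hnf (n := n) (by rw [hn]; exact one_ne_zero) hz (H.mul_mem ht hh)
    (mul_inv_eq_iff_eq_mul.1 e)
  have := (Tn.inN htT).inv.mul this
  rwa [inv_mul_cancel_left] at this

/-- The involutions of the stabiliser. -/
theorem invol_cases (hH : Above (N := N) H) {g : O Q} (hg : g ∈ H) (hgN : InN (N := N) g) (hsq : g * g = 1)
    (hne : g ≠ 1) :
    (∃ n, n ⬝ᵥ n = 1 ∧ C.Tn g (rn n) 1) ∨ (∃ n, n ⬝ᵥ n = 1 ∧ C.Tn g 1 (rn n)) ∨
      (∃ n m, n ⬝ᵥ n ≠ 0 ∧ m ⬝ᵥ m ≠ 0 ∧ sqSign (n ⬝ᵥ n) = sqSign (m ⬝ᵥ m) ∧ C.Tn g (rn n) (rn m)) ∨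
      ∃ A, IsSO A ∧ C.Sw g A Aᵀ := by
  have h2 := C.h2
  obtain ⟨A, B, hA, hB, h | h⟩ := InN.normal_form (C := C) hgN (hH.1 hg)
  · obtain ⟨hA2, hB2⟩ := ((h.mul h).one_iff (hA.mul hA) (hB.mul hB)).1 hsq
    rcases sq_cases h2 hA hA2 with rfl | ⟨n, hn, rfl⟩ <;> rcases sq_cases h2 hB hB2 with rfl | ⟨m, hm, rfl⟩
    · exact absurd ((h.one_iff isSO_one isSO_one).2 ⟨rfl, rfl⟩) hne
    · obtain ⟨m', hm', e⟩ := exists_unit_axis hm (isSquare_axis (C := C.flip) hm h.flip (hH.1 hg))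
      exact Or.inr (Or.inl ⟨m', hm', e ▸ h⟩)
    · obtain ⟨n', hn', e⟩ := exists_unit_axis hn (isSquare_axis hn h (hH.1 hg))
      exact Or.inl ⟨n', hn', e ▸ h⟩
    · exact Or.inr (Or.inr (Or.inl ⟨n, m, hn, hm, sign_axes hn hm h (hH.1 hg), h⟩))
  · obtain ⟨e1, -⟩ := ((h.mul h).one_iff (hA.mul hB) (hB.mul hA)).1 hsq
    refine Or.inr (Or.inr (Or.inr ⟨A, hA, ?_⟩))
    have : B = Aᵀ := by
      calc B = Aᵀ * A * B := by rw [hA.orth.tmul, one_mul]
        _ = Aᵀ := by rw [mul_assoc, e1, mul_one]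
    exact this ▸ h

/-- A swap involution is not conjugate to a half-turn of the left factor. -/
theorem sw_not_conj_std (hH : Above (N := N) H) (hnf : C.NoEl H) {t : O Q} (ht : C.Sw t 1 1) (htH : t ∈ H) {n : V3 F}
    (hn : n ⬝ᵥ n ≠ 0) {z : O Q} (hz : C.Tn z (rn n) 1) {x : O Q} (hx : x ∈ H) : x * t * x⁻¹ ≠ z := by
  intro e
  have h2 := C.h2
  have key : ∀ k : V3 F, k ⬝ᵥ k = 1 → ∃ u B, C.Tn u (rn n) B ∧ IsSO B ∧
      ∀ w, C.Tn w (rn k) (rn k) → u = x * w * x⁻¹ := by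
    intro k hk
    have hk0 : k ⬝ᵥ k ≠ 0 := by rw [hk]; exact one_ne_zero
    obtain ⟨w, hwH, hw⟩ := C.exists_diag hH (isSO_rn hk0).orth
    have htw : t * w = w * t := by
      have e1 := ht.mul_tn hw
      have e2 := hw.mul_sw ht
      rw [one_mul] at e1
      rw [mul_one] at e2
      exact C.ext_act fun X => by rw [e1, e2]
    set u := x * w * x⁻¹ with hu
    have huH : u ∈ H := H.mul_mem (H.mul_mem hx hwH) (H.inv_mem hx)
    have huz : u * z = z * u := by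
      rw [← e, hu, show x * w * x⁻¹ * (x * t * x⁻¹) = x * (w * t) * x⁻¹ by group, ← htw]; group
    have huN := inN_of_comm_left hH hnf hn hz huH huz
    have hu2 : u * u = 1 := by
      have hw2 : w * w = 1 := by
        have := hw.mul hw
        rw [rn_mul_self] at this
        exact this.ext tn_one
      rw [hu, show x * w * x⁻¹ * (x * w * x⁻¹) = x * (w * w) * x⁻¹ by group, hw2, mul_one, mul_inv_cancel]
    have hut : C.trc u = 1 := by rw [hu, C.trc_conj, hw.trc, trace_rn hk0]; norm_num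
    have hzut : C.trc (z * u) = -3 := by
      have e1 : z * u = x * (t * w) * x⁻¹ := by rw [← e, hu]; group
      rw [e1, C.trc_conj, (ht.mul_tn hw).trc]
      simp only [one_mul, rn_mul_self, trace_one, Fintype.card_fin]
      norm_num
    have hu1 : u ≠ 1 := fun h => by
      rw [h, tn_one.trc, trace_one, Fintype.card_fin] at hut
      exact mul_ne_zero (mul_ne_zero h2 h2) h2 (by push_cast at hut; linear_combination hut)
    have h4 : (2 : F) * 2 ≠ 0 := mul_ne_zero h2 h2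
    rcases invol_cases (C := C) hH huH huN hu2 hu1 with ⟨a, ha, hT⟩ | ⟨a, ha, hT⟩ | ⟨a, b, ha, hb, -, hT⟩ | ⟨A, hA, hS⟩
    · rw [hT.trc, trace_rn (by rw [ha]; exact one_ne_zero), trace_one, Fintype.card_fin] at hut
      exact absurd (show (2 : F) * 2 = 0 by push_cast at hut; linear_combination -hut) h4
    · rw [hT.trc, trace_rn (by rw [ha]; exact one_ne_zero), trace_one, Fintype.card_fin] at hut
      exact absurd (show (2 : F) * 2 = 0 by push_cast at hut; linear_combination -hut) h4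
    · have hc := (hz.comm_eq hT (isSO_rn hn) isSO_one (isSO_rn ha) (isSO_rn hb) huz.symm).1
      rw [(hz.mul hT).trc, one_mul, trace_rn hb, mul_neg_one, neg_inj] at hzut
      have hT' := hT
      rw [← trace_rn_mul h2 hn ha hc hzut] at hT'
      refine ⟨u, rn b, hT', isSO_rn hb, fun w' hw' => ?_⟩
      rw [hu, hw.ext hw']
    · exact absurd huz (hS.not_comm_left hz hn hA hA.transpose)
  obtain ⟨k1, hk1⟩ : ∃ k : V3 F, k ⬝ᵥ k = 1 := ⟨![1, 0, 0], by simp [dotProduct, Fin.sum_univ_three]⟩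
  obtain ⟨k2, k3, hk2, hk3, -, hprod, -⟩ := exists_frame_unit h2 hk1
  obtain ⟨u1', B1, hu1', hB1, e1⟩ := key k1 hk1
  obtain ⟨u2', B2, hu2', hB2, e2⟩ := key k2 hk2
  obtain ⟨u3', B3, hu3', hB3, e3⟩ := key k3 hk3
  obtain ⟨w1, -, hw1⟩ := C.exists_diag hH (isSO_rn (n := k1) (by rw [hk1]; exact one_ne_zero)).orth
  obtain ⟨w2, -, hw2⟩ := C.exists_diag hH (isSO_rn (n := k2) (by rw [hk2]; exact one_ne_zero)).orth
  have h12 := hw1.mul hw2
  rw [hprod] at h12
  have e4 : u1' * u2' = u3' := by rw [e1 w1 hw1, e2 w2 hw2, e3 _ h12]; group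
  have h4 := hu1'.mul hu2'
  rw [e4, rn_mul_self] at h4
  exact rn_ne_one h2 hn (hu3'.inj h4 (isSO_rn hn) hB3 isSO_one (hB1.mul hB2)).1

variable (C) in
/-- Coordinates with the left factor turned. -/
noncomputable def leftCoord {A : M3 F} (hA : IsOrth A) : Coord Q N where
  nQ := C.nQ
  h2 := C.h2
  hq := C.hq
  κ := C.κ
  hκ := C.hκ
  φ :=
    ({ toFun := fun X => A * X
       invFun := fun X => Aᵀ * X
       map_add' := fun X Y => mul_add A X Y
       map_smul' := fun c X => mul_smul_comm c A X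
       left_inv := fun X => by show Aᵀ * (A * X) = X; rw [← mul_assoc, hA.tmul, one_mul]
       right_inv := fun X => by show A * (Aᵀ * X) = X; rw [← mul_assoc, show A * Aᵀ = 1 from hA, one_mul] } :
      M3 F ≃ₗ[F] M3 F) ≪≫ₗ C.φ
  form X := by
    rw [LinearEquiv.trans_apply, C.form]
    simp only [LinearEquiv.coe_mk, LinearMap.coe_mk, AddHom.coe_mk, transpose_mul]
    rw [show A * X * (Xᵀ * Aᵀ) = A * (X * Xᵀ * Aᵀ) by simp only [mul_assoc], trace_mul_comm,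
      mul_assoc, hA.tmul, mul_one]
  mem_T g P R h := C.mem_T g (A * P * Aᵀ) R fun X => by
    have e := h (Aᵀ * X)
    simp only [LinearEquiv.trans_apply, LinearEquiv.coe_mk, LinearMap.coe_mk, AddHom.coe_mk] at e
    rw [← mul_assoc, show A * Aᵀ = 1 from hA, one_mul] at e
    rw [e]; simp only [mul_assoc]
  mem_S g P R h := C.mem_S g (A * P) (R * Aᵀ).transpose.transpose fun X => by
    have e := h (Aᵀ * X)
    simp only [LinearEquiv.trans_apply, LinearEquiv.coe_mk, LinearMap.coe_mk, AddHom.coe_mk] at e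
    rw [← mul_assoc, show A * Aᵀ = 1 from hA, one_mul] at e
    rw [e]; simp only [transpose_mul, transpose_transpose, mul_assoc]
  of_N g hg := by
    obtain ⟨P, R, h | h⟩ := C.of_N g hg
    · refine ⟨Aᵀ * P * A, R, Or.inl fun X => ?_⟩
      simp only [LinearEquiv.trans_apply, LinearEquiv.coe_mk, LinearMap.coe_mk, AddHom.coe_mk, h]
      congr 1
      simp only [← mul_assoc, show A * Aᵀ = 1 from hA, one_mul]
    · refine ⟨Aᵀ * P, R * A, Or.inr fun X => ?_⟩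
      simp only [LinearEquiv.trans_apply, LinearEquiv.coe_mk, LinearMap.coe_mk, AddHom.coe_mk, h]
      congr 1
      simp only [transpose_mul, ← mul_assoc, show A * Aᵀ = 1 from hA, one_mul]

theorem leftCoord_act {A : M3 F} (hA : IsOrth A) (g : O Q) (X : M3 F) :
    (C.leftCoord hA).act g X = Aᵀ * C.act g (A * X) :=
  (C.leftCoord hA).φ.injective (by
    rw [(C.leftCoord hA).phi_act]
    simp only [leftCoord, LinearEquiv.trans_apply, LinearEquiv.coe_mk, LinearMap.coe_mk, AddHom.coe_mk]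
    rw [← mul_assoc, show A * Aᵀ = 1 from hA, one_mul, C.phi_act])

theorem Tn.leftCoord {g : O Q} {P R A : M3 F} (h : C.Tn g P R) (hA : IsOrth A) :
    (C.leftCoord hA).Tn g (Aᵀ * P * A) R := fun X => by
  rw [leftCoord_act, h]
  simp only [mul_assoc]

theorem Sw.leftCoord {g : O Q} {A : M3 F} (h : C.Sw g A Aᵀ) (hA : IsOrth A) :
    (C.leftCoord hA).Sw g 1 1 := fun X => by
  rw [leftCoord_act, h, transpose_transpose, transpose_mul, mul_neg, transpose_one, one_mul, mul_one,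
    show Aᵀ * (A * (Xᵀ * Aᵀ) * A) = Aᵀ * A * Xᵀ * (Aᵀ * A) by simp only [mul_assoc], hA.tmul, one_mul, mul_one]

/-- A swap involution is not conjugate to a half-turn of the left factor. -/
theorem sw_not_conj (hH : Above (N := N) H) (hS : ¬ sieGroup Q ≤ H) {t : O Q} {A : M3 F} (hA : IsSO A)
    (ht : C.Sw t A Aᵀ) (htH : t ∈ H) {n : V3 F} (hn : n ⬝ᵥ n ≠ 0) {z : O Q} (hz : C.Tn z (rn n) 1) {x : O Q}
    (hx : x ∈ H) : x * t * x⁻¹ ≠ z := by
  have hz' := hz.leftCoord hA.orth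
  rw [show Aᵀ * rn n * A = rn (Aᵀ *ᵥ n) by
    have := hA.orth.transpose.rn_conj n
    rwa [transpose_transpose] at this] at hz'
  exact sw_not_conj_std (C := C.leftCoord hA.orth) hH
    (fun e s he0 he hel => by_contra fun hs => hS (sieGroup_le hH he0 he hs hel)) (ht.leftCoord hA.orth) htH
    (by rw [hA.orth.transpose.dot]; exact hn) hz' hx

theorem noEl_of_not_le (C : Coord Q N) (hH : Above (N := N) H) (hS : ¬ sieGroup Q ≤ H) : C.NoEl H :=
  fun e s he0 he hel => by_contra fun hs => hS (sieGroup_le hH he0 he hs hel)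

end Coord

end Cfsg.Agent.H55.OmegaNine
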