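import Cfsg.Agent.H55.OmegaNine.Radical
import Cfsg.Agent.H71.HallHigmanExact
import Cfsg.Agent.Coprime.Generation
import Cfsg.Agent.Coprime.Action
import Cfsg.Agent.PGroups.Basic

/-!
The centraliser of a half-turn of one factor, above the stabiliser of the tensor square, lies in it.
-/

set_option autoImplicit false

namespace Cfsg.Agent.H55.OmegaNine

open Matrix QuadraticMap Cfsg.Agent.Orthogonal

section Algebra

variable {F : Type*} [Field F]

theorem u1_smul_add (h2 : (2 : F) ≠ 0) {e : V3 F} (he : e ⬝ᵥ e = 0) (k : ℕ) (t : F) :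
    u1 (t • e) ^ k = u1 (((k : F) * t) • e) := by
  induction k with
  | zero => rw [pow_zero, Nat.cast_zero, zero_mul, zero_smul, u1_zero]
  | succ k ih => rw [pow_succ, ih, u1_add h2 he]; push_cast; rw [add_mul, one_mul]

theorem u1_inj (h2 : (2 : F) ≠ 0) {e : V3 F} (he0 : e ≠ 0) {s t : F} (h : u1 (s • e) = u1 (t • e)) : s = t := by
  have hh : (u1 (-(s • e))) = u1 (-(t • e)) := by rw [← u1_transpose, ← u1_transpose, h]
  have e1 := sk_eq_u1_sub h2 (s • e)
  rw [h, hh, ← sk_eq_u1_sub h2, ← sub_eq_zero, sub_eq_add_neg, ← sk_neg, ← sk_add, ← sub_eq_add_neg, ← sub_smul] at e1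
  exact sub_eq_zero.1 ((smul_eq_zero.1 (sk_eq_zero e1)).resolve_right he0)

theorem IsOrth.u1_conj {A : M3 F} (h : IsOrth A) (e : V3 F) : A * u1 e * Aᵀ = u1 (A.det • A *ᵥ e) := by
  rcases mul_self_eq_one_iff.1 h.det_sq with hd | hd
  · rw [IsSO.u1_conj ⟨h, hd⟩, hd, one_smul]
  · have h' : IsSO (-A) := ⟨h.neg, by rw [det_neg, hd]; norm_num⟩
    have := h'.u1_conj e
    rw [transpose_neg, neg_mul, neg_mul, mul_neg, neg_neg, neg_mulVec] at this
    rw [this, hd, neg_one_smul]

/-- A rotation of order a power of the characteristic is trivial. -/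
theorem rotation_eq_one [Finite F] (h2 : (2 : F) ≠ 0) {p : ℕ} [CharP F p] [Fact p.Prime] {A : M3 F} (hA : IsSO A)
    {n : V3 F} (hn : n ⬝ᵥ n ≠ 0) (hfix : A *ᵥ n = n) {j : ℕ} (hj : A ^ p ^ j = 1) : A = 1 := by
  obtain ⟨x, y, hxy⟩ := hA.exists_rot h2 hn hfix
  have hnil : IsNilpotent (A - 1) := ⟨p ^ j, by
    rw [sub_pow_char_pow_of_commute _ _ (Commute.one_right A), hj, one_pow, sub_self]⟩
  have t1 : (sk n).trace = 0 := by simp [Matrix.trace, Fin.sum_univ_three, sk]
  have t2 : (sk n * sk n).trace = -(2 * (n ⬝ᵥ n)) := by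
    rw [sk_mul_sk, trace_sub, trace_smul, trace_vecMulVec, trace_one, smul_eq_mul, Fintype.card_fin]
    push_cast; ring
  have hy : y = 0 := by
    have := (Matrix.isNilpotent_trace_of_isNilpotent hnil).eq_zero
    rw [hxy, add_assoc, add_sub_cancel_left, trace_add, trace_smul, trace_smul, t1, t2, smul_zero, zero_add,
      smul_eq_mul, mul_neg, neg_eq_zero] at this
    exact (mul_eq_zero.1 this).resolve_right (mul_ne_zero h2 hn)
  rw [hy, zero_smul, add_zero] at hxy
  have hx : x = 0 := by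
    have := (Matrix.isNilpotent_trace_of_isNilpotent (hnil.pow_succ 1)).eq_zero
    rw [hxy, add_sub_cancel_left, pow_two, smul_mul_smul_comm, trace_smul, t2, smul_eq_mul, mul_neg,
      neg_eq_zero] at this
    exact mul_self_eq_zero.1 ((mul_eq_zero.1 this).resolve_right (mul_ne_zero h2 hn))
  rw [hxy, hx, zero_smul, add_zero]

end Algebra

namespace Coord

variable {F : Type*} [Field F] {ι : Type} [Fintype ι] [DecidableEq ι]
  {Q : QuadraticForm F (ι → F)} {N : Subgroup (GL ι F)} (C : Coord Q N) (H : Subgroup (O Q))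

/-- The coordinates with the factors exchanged. -/
noncomputable def flip : Coord Q N where
  nQ := C.nQ
  h2 := C.h2
  hq := C.hq
  κ := C.κ
  hκ := C.hκ
  φ := Matrix.transposeLinearEquiv (Fin 3) (Fin 3) F F ≪≫ₗ C.φ
  form X := by
    rw [LinearEquiv.trans_apply, C.form, trace_mul_comm]
    simp
  mem_T g A B h := C.mem_T g B A fun X => by
    have := h Xᵀ
    simpa [Matrix.transpose_mul, mul_assoc] using this
  mem_S g A B h := C.mem_S g B A fun X => by
    have := h Xᵀ
    simpa [Matrix.transpose_mul, mul_assoc] using this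
  of_N g hg := by
    obtain ⟨A, B, h | h⟩ := C.of_N g hg
    · refine ⟨B, A, Or.inl fun X => ?_⟩
      have := h Xᵀ
      simpa [Matrix.transpose_mul, mul_assoc] using this
    · refine ⟨B, A, Or.inr fun X => ?_⟩
      have := h Xᵀ
      simpa [Matrix.transpose_mul, mul_assoc] using this

theorem flip_act (g : O Q) (X : M3 F) : C.flip.act g X = (C.act g Xᵀ)ᵀ :=
  C.flip.φ.injective (by
    rw [C.flip.phi_act]
    simp [flip, C.phi_act])

variable {C H}

theorem Tn.flip {g : O Q} {A B : M3 F} (h : C.Tn g A B) : C.flip.Tn g B A := fun X => by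
  rw [C.flip_act, h]
  simp [Matrix.transpose_mul, mul_assoc]

variable (C H)

/-- The elements of `H` fixing every `n xᵀ`. -/
def kfix (n : V3 F) : Subgroup (O Q) where
  carrier := {k | k ∈ H ∧ ∀ x, C.act k (vecMulVec n x) = vecMulVec n x}
  one_mem' := ⟨H.one_mem, fun _ => C.act_one _⟩
  mul_mem' := fun ⟨h1, e1⟩ ⟨h2, e2⟩ => ⟨H.mul_mem h1 h2, fun x => by rw [C.act_mul, e2, e1]⟩
  inv_mem' := fun {k} ⟨h1, e1⟩ => ⟨H.inv_mem h1, fun x => by
    conv_lhs => rw [← e1 x]
    exact C.act_inv k _⟩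

/-- The left rotations about `n`. -/
def rotSub (n : V3 F) : Subgroup (O Q) where
  carrier := {g | ∃ A, IsSO A ∧ A *ᵥ n = n ∧ C.Tn g A 1}
  one_mem' := ⟨1, isSO_one, one_mulVec n, tn_one⟩
  mul_mem' := by
    rintro a b ⟨A, hA, hAn, ha⟩ ⟨B, hB, hBn, hb⟩
    exact ⟨A * B, hA.mul hB, by rw [← mulVec_mulVec, hBn, hAn], by simpa using ha.mul hb⟩
  inv_mem' := by
    rintro a ⟨A, hA, hAn, ha⟩
    exact ⟨Aᵀ, hA.transpose, by conv_lhs => rw [← hAn, mulVec_mulVec, hA.orth.tmul, one_mulVec],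
      by simpa using ha.inv hA.orth isOrth_one⟩

/-- A root group of the right factor. -/
def rootSub {e : V3 F} (he : e ⬝ᵥ e = 0) : Subgroup (O Q) where
  carrier := {g | ∃ t : F, C.Tn g 1 (u1 (t • e))}
  one_mem' := ⟨0, by rw [zero_smul, u1_zero]; exact tn_one⟩
  mul_mem' := by
    rintro a b ⟨s, hs⟩ ⟨t, ht⟩
    refine ⟨s + t, ?_⟩
    have := hs.mul ht
    rwa [one_mul, u1_add C.h2 he] at this
  inv_mem' := by
    rintro a ⟨s, hs⟩
    refine ⟨-s, ?_⟩
    have := hs.inv isOrth_one (isSO_u1 C.h2 (by simp [he])).orth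
    rwa [transpose_one, u1_transpose, ← neg_smul] at this

variable {C H}

theorem rootSub_card {e : V3 F} (he0 : e ≠ 0) (he : e ⬝ᵥ e = 0) : Nat.card (C.rootSub he) = Nat.card F := by
  have h2 := C.h2
  refine (Nat.card_eq_of_bijective (fun t : F =>
    (⟨(C.exists_tn isOrth_one (isSO_u1 h2 (e := t • e) (by simp [he])).orth).choose,
      t, (C.exists_tn isOrth_one (isSO_u1 h2 (e := t • e) (by simp [he])).orth).choose_spec⟩ : C.rootSub he))
    ⟨?_, ?_⟩).symm
  · intro s t hst
    have e1 := (C.exists_tn isOrth_one (isSO_u1 h2 (e := s • e) (by simp [he])).orth).choose_spec 1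
    have e2 := (C.exists_tn isOrth_one (isSO_u1 h2 (e := t • e) (by simp [he])).orth).choose_spec 1
    have h3 := congrArg Subtype.val hst
    simp only at h3
    rw [h3, e2] at e1
    simp only [one_mul] at e1
    exact u1_inj h2 he0 (transpose_inj.1 e1).symm
  · rintro ⟨g, t, ht⟩
    exact ⟨t, Subtype.ext ((C.exists_tn isOrth_one (isSO_u1 h2 (e := t • e) (by simp [he])).orth).choose_spec.ext ht)⟩

theorem rootSub_comm {e : V3 F} (he : e ⬝ᵥ e = 0) : IsMulCommutative (C.rootSub he) := by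
  refine ⟨⟨fun a b => Subtype.ext ?_⟩⟩
  obtain ⟨s, hs⟩ := a.2
  obtain ⟨t, ht⟩ := b.2
  have h1 := hs.mul ht
  have h2 := ht.mul hs
  rw [one_mul, u1_add C.h2 he] at h1 h2
  rw [add_comm t s] at h2
  exact h1.ext h2

theorem tn_pow {g : O Q} {A B : M3 F} (h : C.Tn g A B) : ∀ k : ℕ, C.Tn (g ^ k) (A ^ k) (B ^ k)
  | 0 => by simpa using tn_one
  | k + 1 => by rw [pow_succ, pow_succ, pow_succ]; exact (tn_pow h k).mul h

theorem pow_rootSub {e : V3 F} (he : e ⬝ᵥ e = 0) {p : ℕ} [CharP F p] {g : O Q} (hg : g ∈ C.rootSub he) :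
    g ^ p = 1 := by
  obtain ⟨t, ht⟩ := hg
  have h := tn_pow ht p
  rw [one_pow, u1_smul_add C.h2 he, CharP.cast_eq_zero, zero_mul, zero_smul, u1_zero] at h
  exact h.ext tn_one

theorem root_normalizes {n : V3 F} {g : O Q} {B : M3 F} (hg : C.Tn g 1 B) (hB : IsOrth B) (hgH : g ∈ H) :
    g ∈ Subgroup.normalizer (C.kfix H n : Set (O Q)) := by
  have key : ∀ {g : O Q} {B : M3 F}, C.Tn g 1 B → IsOrth B → g ∈ H → ∀ k ∈ C.kfix H n,
      g * k * g⁻¹ ∈ C.kfix H n := by
    rintro g B hg hB hgH k ⟨hk, hkf⟩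
    refine ⟨H.mul_mem (H.mul_mem hgH hk) (H.inv_mem hgH), fun x => ?_⟩
    rw [C.act_mul, C.act_mul, hg.inv isOrth_one hB, transpose_one, one_mul, transpose_transpose, vecMulVec_mul, hkf,
      hg, one_mul, vecMulVec_mul, vecMul_vecMul, show B * Bᵀ = 1 from hB, vecMul_one]
  refine Subgroup.mem_normalizer_iff.2 fun k => ⟨key hg hB hgH k, fun h => ?_⟩
  have hi := hg.inv isOrth_one hB
  rw [transpose_one] at hi
  have := key hi hB.transpose (H.inv_mem hgH) _ h
  simpa [mul_assoc] using this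

variable [Finite F]

/-- An element of the fixer commuting with a right root element is a left rotation. -/
theorem kfix_rot (hH : Above (N := N) H) (hnf : C.NoEl H) {n : V3 F} (hn : n ⬝ᵥ n ≠ 0) {k : O Q}
    (hk : k ∈ C.kfix H n) {e : V3 F} (he0 : e ≠ 0) (he : e ⬝ᵥ e = 0) (hc : C.Cm k e) : k ∈ C.rotSub n := by
  have h2 := C.h2
  obtain ⟨A, μ, hA, hkT⟩ := exists_of_cm hH hnf hk.1 he0 he hc
  obtain ⟨f, hf, hef⟩ := exists_partner h2 he0 he
  have hμe : (μ • e) ⬝ᵥ (μ • e) = 0 := by simp [he]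
  have key : ∀ x v, (u1 (μ • e) *ᵥ x ⬝ᵥ v) • A *ᵥ n = (x ⬝ᵥ v) • n := fun x v => by
    have e1 := congrArg (· *ᵥ v) (hk.2 x)
    rw [hkT, mul_vecMulVec, vecMulVec_mul, vecMul_transpose, vecMulVec_mulVec, vecMulVec_mulVec, op_smul_eq_smul,
      op_smul_eq_smul] at e1
    exact e1
  have hAn : A *ᵥ n = n := by
    have e1 := key e f
    rw [u1_mulVec hμe, map_smul, LinearMap.smul_apply, cross_self, smul_zero, smul_dotProduct, he] at e1
    simpa [hef] using e1
  have hμ : μ = 0 := by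
    have e1 := key f f
    rw [hAn, hf, u1_mulVec hμe, map_smul, LinearMap.smul_apply] at e1
    have hn0 : n ≠ 0 := fun h => hn (by rw [h, dotProduct_zero])
    simpa [add_dotProduct, hf, hef, dotProduct_comm (e ⨯₃ f) f, dot_cross_self, hn0, h2] using e1
  rw [hμ, zero_smul, u1_zero] at hkT
  exact ⟨A, hA, hAn, hkT⟩

/-- The characteristic does not divide the order of the fixer. -/
theorem not_dvd_kfix [Finite (O Q)] (hH : Above (N := N) H) (hnf : C.NoEl H) {n : V3 F} (hn : n ⬝ᵥ n ≠ 0) {p : ℕ}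
    [CharP F p] [Fact p.Prime] : ¬ p ∣ Nat.card (C.kfix H n) := by
  intro hdvd
  have h2 := C.h2
  obtain ⟨e, he, hne⟩ := exists_iso_dot_one h2 (n := ![(1 : F), 0, 0]) (by simp [dotProduct, Fin.sum_univ_three])
  have he0 : e ≠ 0 := fun h0 => by simp [h0] at hne
  obtain ⟨d, hdH, hd⟩ := C.exists_right_root hH he
  set K := C.kfix H n
  have hdK : d ∈ Subgroup.normalizer (K : Set (O Q)) := root_normalizes hd (isSO_u1 h2 he).orth hdH
  set T := Subgroup.normalizer (K : Set (O Q))
  set K' : Subgroup T := K.subgroupOf T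
  have hdp : (⟨d, hdK⟩ : T) ^ p = 1 := Subtype.ext (pow_rootSub he (C := C) (g := d) ⟨1, by rwa [one_smul]⟩)
  have hz : IsPGroup p (Subgroup.zpowers (⟨d, hdK⟩ : T)) := by
    rintro ⟨x, k, rfl⟩
    refine ⟨1, Subtype.ext ?_⟩
    simp only [SubmonoidClass.coe_pow, pow_one, OneMemClass.coe_one]
    rw [← zpow_natCast, ← _root_.zpow_mul, mul_comm, _root_.zpow_mul, zpow_natCast, hdp, _root_.one_zpow]
  obtain ⟨P, hP⟩ := hz.exists_le_sylow
  have hK'card : Nat.card K' = Nat.card K :=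
    Nat.card_congr (Subgroup.subgroupOfEquivOfLe (Subgroup.le_normalizer (H := K))).toEquiv
  have hne' : (K'.subgroupOf (P : Subgroup T)) ≠ ⊥ := by
    intro hbot
    refine P.not_dvd_index ?_
    have hinj : Function.Injective ((QuotientGroup.mk' K').comp (P : Subgroup T).subtype) :=
      (injective_iff_map_eq_one _).2 fun x hx =>
        Subgroup.mem_bot.1 (hbot ▸ Subgroup.mem_subgroupOf.2 ((QuotientGroup.eq_one_iff _).1 hx))
    have h1 : Nat.card (P : Subgroup T) ∣ Nat.card (T ⧸ K') := Subgroup.card_dvd_of_injective _ hinj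
    obtain ⟨m, hm⟩ := h1
    obtain ⟨r, hr⟩ := hK'card.symm ▸ hdvd
    have h3 := (Subgroup.card_eq_card_quotient_mul_card_subgroup K')
    rw [← (P : Subgroup T).card_mul_index, hm, mul_assoc] at h3
    exact ⟨m * r, by rw [Nat.eq_of_mul_eq_mul_left Nat.card_pos h3, hr]; ring⟩
  obtain ⟨z, hzK, hzc, hzo⟩ := Cfsg.Agent.PGroups.exists_mem_center_orderOf_eq P.isPGroup' _ hne'
  set k : O Q := ((z : T) : O Q)
  have hk : k ∈ K := hzK
  have hkd : k * d = d * k := by
    have := Subgroup.mem_center_iff.1 hzc ⟨_, hP (Subgroup.mem_zpowers _)⟩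
    exact (congrArg (fun w : (P : Subgroup T) => ((w : T) : O Q)) this).symm
  obtain ⟨A, hA, hAn, hkT⟩ := kfix_rot hH hnf hn hk he0 he (cm_of_comm he hd hkd)
  have hkp : k ^ p = 1 := by
    have := pow_orderOf_eq_one z
    rw [hzo] at this
    exact congrArg (fun w : (P : Subgroup T) => ((w : T) : O Q)) this
  have hAp : A ^ p ^ 1 = 1 := by
    rw [pow_one]
    have e1 := tn_pow hkT p
    rw [hkp] at e1
    simpa [C.act_one] using (e1 1).symm
  have hk1 : k = 1 := by
    rw [rotation_eq_one h2 hA hn hAn hAp] at hkT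
    exact hkT.ext tn_one
  refine (Fact.out : p.Prime).ne_one (hzo.symm.trans (orderOf_eq_one_iff.2 (Subtype.ext (Subtype.ext ?_))))
  exact hk1

theorem finite_GO : Finite (O Q) :=
  Finite.of_injective (fun g : O Q => fun x => (g : (ι → F) ≃ₗ[F] (ι → F)) x)
    fun _ _ h => O.ext_app fun x => congrFun h x

variable (Q) in
/-- The action over an algebraically closed field. -/
noncomputable def rep : O Q →* Module.End (AlgebraicClosure F) (ι → AlgebraicClosure F) :=
  (Matrix.toLinAlgEquiv' : Matrix ι ι (AlgebraicClosure F) ≃ₐ[AlgebraicClosure F] _).toMonoidHom.comp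
    ((algebraMap F (AlgebraicClosure F)).mapMatrix.toMonoidHom.comp ((Units.coeHom _).comp (H96.om Q)))

theorem rep_injective : Function.Injective (rep Q) := by
  intro g h e
  apply H96.om_injective Q
  refine Units.ext ?_
  have := (Matrix.toLinAlgEquiv' : Matrix ι ι (AlgebraicClosure F) ≃ₐ[AlgebraicClosure F] _).injective e
  exact Matrix.map_injective (algebraMap F (AlgebraicClosure F)).injective this

theorem rep_cube {e : V3 F} (he : e ⬝ᵥ e = 0) {d : O Q} (hd : C.Tn d 1 (u1 e)) : ((rep Q) d - 1) ^ 3 = 0 := by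
  set M : Matrix ι ι F := (H96.om Q d : Matrix ι ι F)
  set J : M3 F := u1 (-e) - 1
  have hJ : J ^ 3 = 0 := by
    have h3 := sk_cube_of_iso (e := -e) (by simp [he])
    have h3' : sk (-e) * (sk (-e) * sk (-e)) = 0 := by rw [← mul_assoc, h3]
    simp only [J, u1, add_assoc, add_sub_cancel_left, pow_succ, pow_zero, one_mul, add_mul, mul_add, smul_mul_assoc,
      mul_smul_comm, mul_assoc, h3', mul_zero, smul_zero, add_zero]
  have hM : (M - 1) ^ 3 = 0 := by
    refine Matrix.ext_iff_mulVec.2 fun v => ?_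
    obtain ⟨X, rfl⟩ := C.φ.surjective v
    have step : ∀ Y, (M - 1) *ᵥ C.φ Y = C.φ (Y * J) := fun Y => by
      rw [sub_mulVec, one_mulVec, H96.om_mulVec, ← C.phi_act, hd, one_mul, u1_transpose, mul_sub, mul_one, map_sub]
    rw [pow_succ, pow_succ, pow_one, ← mulVec_mulVec, ← mulVec_mulVec, step, step, step, mul_assoc, mul_assoc,
      show J * (J * J) = 0 by rw [← hJ]; simp [pow_succ, mul_assoc], mul_zero, map_zero, zero_mulVec]
  have e0 := congrArg (algebraMap F (AlgebraicClosure F)).mapMatrix hM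
  rw [map_pow, map_sub, map_one, map_zero] at e0
  have e1 := congrArg (Matrix.toLinAlgEquiv' : Matrix ι ι (AlgebraicClosure F) ≃ₐ[AlgebraicClosure F] _) e0
  rw [map_pow, map_sub, map_one, map_zero] at e1
  exact e1

/-- The fixer consists of left rotations. -/
theorem kfix_le (hH : Above (N := N) H) (hnf : C.NoEl H) {n : V3 F} (hn : n ⬝ᵥ n ≠ 0) :
    C.kfix H n ≤ C.rotSub n := by
  have h2 := C.h2
  have := finite_GO (Q := Q)
  obtain ⟨p, hp⟩ := CharP.exists F
  have hpp : p.Prime := CharP.char_is_prime F p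
  have := Fact.mk hpp
  obtain ⟨e, he, hne⟩ := exists_iso_dot_one h2 (n := ![(1 : F), 0, 0]) (by simp [dotProduct, Fin.sum_univ_three])
  have he0 : e ≠ 0 := fun h0 => by simp [h0] at hne
  set K := C.kfix H n
  set D := C.rootSub he
  have hDH : ∀ g ∈ D, g ∈ H := by
    rintro g ⟨t, ht⟩
    obtain ⟨g', hg', hg'T⟩ := C.exists_right_root hH (e := t • e) (by simp [he])
    rwa [ht.ext hg'T]
  have hDK : D ≤ Subgroup.normalizer (K : Set (O Q)) := by
    rintro g ⟨t, ht⟩
    exact root_normalizes ht (isSO_u1 h2 (by simp [he])).orth (hDH g ⟨t, ht⟩)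
  have hcent : ∀ a ∈ D, a ≠ 1 → ∀ k ∈ K, k * a = a * k → k ∈ C.rotSub n := by
    rintro a ⟨t, ht⟩ ha k hk hka
    have ht0 : t ≠ 0 := fun h0 => ha (by rw [h0, zero_smul, u1_zero] at ht; exact ht.ext tn_one)
    exact kfix_rot hH hnf hn hk (smul_ne_zero ht0 he0) (by simp [he]) (cm_of_comm (by simp [he]) ht hka)
  have := Fintype.ofFinite F
  obtain ⟨m, -, hm⟩ := FiniteField.card F p
  have hcard : Nat.card D = p ^ (m : ℕ) := by rw [rootSub_card he0 he, Nat.card_eq_fintype_card, hm]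
  have hpK : ¬ p ∣ Nat.card K := not_dvd_kfix hH hnf hn
  by_cases hcyc : IsCyclic D
  swap
  · have := rootSub_comm (C := C) he
    refine Coprime.le_of_centralizer_noncyclic_le hcyc hDK ?_ fun a ha ha1 k hk => ?_
    · rw [hcard]
      exact Nat.Coprime.pow_left _ (hpp.coprime_iff_not_dvd.2 hpK)
    · exact hcent a ha ha1 k hk.1 (Subgroup.mem_centralizer_singleton_iff.1 hk.2)
  have hq : Nat.card F = p := by
    obtain ⟨g, hg⟩ := IsCyclic.exists_generator (α := D)
    have h1 : orderOf g = Nat.card D := orderOf_eq_card_of_forall_mem_zpowers hg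
    have h2' : Nat.card D ∣ p := h1 ▸ orderOf_dvd_of_pow_eq_one (Subtype.ext (pow_rootSub he g.2))
    rcases (Nat.dvd_prime hpp).1 h2' with h | h
    · rw [rootSub_card he0 he] at h; have := C.hq; omega
    · rwa [rootSub_card he0 he] at h
  have hp5 : 5 ≤ p := hq ▸ C.hq
  obtain ⟨d, hdH, hd⟩ := C.exists_right_root hH he
  have hdD : d ∈ D := ⟨1, by rwa [one_smul]⟩
  have hd1 : d ≠ 1 := fun h => by
    have e1 := hd 1
    rw [h, C.act_one, one_mul, one_mul] at e1
    have e2 : u1 ((1 : F) • e) = u1 ((0 : F) • e) := by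
      rw [one_smul, zero_smul, u1_zero]
      exact transpose_inj.1 (e1.symm.trans transpose_one.symm)
    exact one_ne_zero (u1_inj h2 he0 e2)
  refine Coprime.le_of_exists_sylow_le fun s hs => ?_
  have := Fact.mk hs
  have hsol : Group.IsSolvable D ∨ Group.IsSolvable K := Or.inl (by
    have := rootSub_comm (C := C) he
    infer_instance)
  obtain ⟨P, hP⟩ := Coprime.exists_invariant_sylow (G := O Q) (A := D) (K := K) hDK
    (by rw [hcard]; exact Nat.Coprime.pow_left _ (hpp.coprime_iff_not_dvd.2 hpK)) hsol s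
  refine ⟨P, fun k hk => ?_⟩
  set R := (P : Subgroup K).map K.subtype
  have hkK : k ∈ K := Subgroup.map_subtype_le _ hk
  rcases eq_or_ne s p with rfl | hsp
  · have hP1 : (P : Subgroup K) = ⊥ := Subgroup.card_eq_one.1 (by
      rw [P.card_eq_multiplicity, Nat.factorization_eq_zero_of_not_dvd hpK, pow_zero])
    have : k = 1 := by simpa [R, hP1] using hk
    exact this ▸ (C.rotSub n).one_mem
  have hsk : (s : AlgebraicClosure F) ≠ 0 := fun h => hsp (by
    have : CharP (AlgebraicClosure F) p := charP_of_injective_algebraMap (algebraMap F (AlgebraicClosure F)).injective p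
    exact ((Nat.prime_dvd_prime_iff_eq hpp hs).1 ((CharP.cast_eq_zero_iff (AlgebraicClosure F) p s).1 h)).symm)
  have hpk : (p : AlgebraicClosure F) = 0 := by
    rw [← map_natCast (algebraMap F (AlgebraicClosure F)), CharP.cast_eq_zero, map_zero]
  have hHH := H71.Exact.hall_higman_B_exact (ρ := rep Q) (n := 1) hsp hpk hsk rep_injective one_pos R
    (P.isPGroup'.map _) d (hP hdD) (by rw [pow_one]; exact pow_rootSub he hdD) (rep_cube he hd)
    (by rw [pow_one]; omega) (Or.inl fun n₀ m h0 h1 hm he' => by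
      obtain rfl : n₀ = 1 := by omega
      rw [Nat.sub_self, pow_zero, one_mul]
      rw [pow_one] at he'
      omega)
  rw [Nat.sub_self, pow_zero, pow_one, Subgroup.zpowers_le] at hHH
  exact hcent d hdD hd1 k hkK (Subgroup.mem_centralizer_iff.1 hHH k hk)

/-- The centraliser of a half-turn of the left factor. -/
theorem inN_of_comm_left (hH : Above (N := N) H) (hnf : C.NoEl H) {n : V3 F} (hn : n ⬝ᵥ n ≠ 0) {z : O Q}
    (hz : C.Tn z (rn n) 1) {c : O Q} (hc : c ∈ H) (hcz : c * z = z * c) : InN (N := N) c := by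
  have h2 := C.h2
  have := finite_GO (Q := Q)
  obtain ⟨p, hp⟩ := CharP.exists F
  have hpp : p.Prime := CharP.char_is_prime F p
  have := Fact.mk hpp
  have hn0 : n ≠ 0 := fun h => hn (by rw [h, dotProduct_zero])
  have hfix : ∀ Y, C.act z Y = Y → Y = vecMulVec n ((n ⬝ᵥ n)⁻¹ • (n ᵥ* Y)) := fun Y hY => by
    rw [hz, transpose_one, mul_one, rn, sub_mul, one_mul, smul_mul_assoc, vecMulVec_mul, sub_eq_iff_eq_add] at hY
    have : (2 : F) • Y = (2 / (n ⬝ᵥ n)) • vecMulVec n (n ᵥ* Y) := by rw [hY, two_smul]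
    rw [div_eq_mul_inv, mul_smul] at this
    exact (smul_right_injective _ h2 this).trans (vecMulVec_smul _ _ _).symm
  have hzn : ∀ x, C.act z (vecMulVec n x) = vecMulVec n x := fun x => by
    rw [hz, transpose_one, mul_one, mul_vecMulVec, rn_self hn]
  let L : V3 F →ₗ[F] V3 F :=
    { toFun := fun x => (n ⬝ᵥ n)⁻¹ • (n ᵥ* C.act c (vecMulVec n x))
      map_add' := fun x y => by rw [vecMulVec_add, map_add, vecMul_add, smul_add]
      map_smul' := fun r x => by
        rw [vecMulVec_smul, map_smul, vecMul_smul, RingHom.id_apply, smul_comm] }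
  set B := LinearMap.toMatrix' L
  have hB : ∀ x, C.act c (vecMulVec n x) = vecMulVec n (B *ᵥ x) := fun x => by
    rw [LinearMap.toMatrix'_mulVec]
    exact hfix _ (by rw [← C.act_mul, ← hcz, C.act_mul, hzn])
  have hBo : IsOrth B := mul_eq_one_comm.1 (Matrix.ext_iff_mulVec.2 fun x => dotProduct_eq _ _ fun y => by
    have e1 := C.act_ip c (vecMulVec n x) (vecMulVec n y)
    rw [hB, hB, trace_vv, trace_vv] at e1
    rw [one_mulVec, ← mul_left_cancel₀ hn e1, ← mulVec_mulVec, mulVec_transpose, ← dotProduct_mulVec])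
  obtain ⟨a, ha⟩ := C.exists_tn (isOrth_one (F := F)) hBo
  have hai := ha.inv isOrth_one hBo
  rw [transpose_one] at hai
  have hcm : ∀ e : V3 F, e ⬝ᵥ e = 0 → C.Cm (a⁻¹ * c) e := by
    intro e he
    obtain ⟨d, hdH, hd⟩ := C.exists_right_root hH he
    have he' : (B.det • B *ᵥ e) ⬝ᵥ (B.det • B *ᵥ e) = 0 := by simp [hBo.dot, he]
    obtain ⟨d', hd'H, hd'⟩ := C.exists_right_root hH he'
    have hconj : a * d * a⁻¹ = d' := by
      have := (ha.mul hd).mul hai
      rw [one_mul, one_mul, hBo.u1_conj] at this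
      exact this.ext hd'
    set k := c * d * c⁻¹ * d'⁻¹
    have hkK : k ∈ C.kfix H n := by
      refine ⟨H.mul_mem (H.mul_mem (H.mul_mem hc hdH) (H.inv_mem hc)) (H.inv_mem hd'H), fun x => ?_⟩
      obtain ⟨y, rfl⟩ : ∃ y, x = B *ᵥ y := ⟨Bᵀ *ᵥ x, by rw [mulVec_mulVec, show B * Bᵀ = 1 from hBo, one_mulVec]⟩
      have e1 : C.act d'⁻¹ (vecMulVec n (B *ᵥ y)) = vecMulVec n (B *ᵥ (u1 e)ᵀ *ᵥ y) := by
        rw [← hconj]
        simp only [_root_.mul_inv_rev, inv_inv, C.act_mul]
        rw [hai, one_mul, transpose_transpose, vecMulVec_mul, ← mulVec_transpose, mulVec_mulVec, hBo.tmul, one_mulVec,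
          hd.inv isOrth_one (isSO_u1 h2 he).orth, transpose_one, one_mul, transpose_transpose, vecMulVec_mul,
          ← mulVec_transpose, ha, one_mul, vecMulVec_mul, vecMul_transpose]
      rw [C.act_mul, e1, C.act_mul, C.act_mul, ← hB, C.act_inv, hd, one_mul, vecMulVec_mul, vecMul_transpose,
        mulVec_mulVec, show u1 e * (u1 e)ᵀ = 1 from (isSO_u1 h2 he).orth, one_mulVec, hB]
    obtain ⟨A, hA, hAn, hkT⟩ := kfix_le hH hnf hn hkK
    have hcomm : Commute k d' := by
      have h1 := hkT.mul hd'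
      have h2' := hd'.mul hkT
      simp only [one_mul, mul_one] at h1 h2'
      exact h1.ext h2'
    have hdp : ∀ {d : O Q} {e : V3 F}, e ⬝ᵥ e = 0 → C.Tn d 1 (u1 e) → d ^ p = 1 := fun he hd =>
      pow_rootSub he ⟨1, by rwa [one_smul]⟩
    have hkp : k ^ p = 1 := by
      have e1 : (k * d') ^ p = 1 := by
        rw [inv_mul_cancel_right, conj_pow, hdp he hd, mul_one, mul_inv_cancel]
      rwa [hcomm.mul_pow, hdp he' hd', mul_one] at e1
    have hA1 : A = 1 := rotation_eq_one h2 hA hn hAn (p := p) (j := 1) (by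
      rw [pow_one]
      have e1 := tn_pow hkT p
      rw [hkp] at e1
      simpa [C.act_one] using (e1 1).symm)
    have hk1 : k = 1 := by rw [hA1] at hkT; exact hkT.ext tn_one
    refine cm_of_comm he hd ?_
    have hcd : c * d * c⁻¹ = a * d * a⁻¹ := by rw [hconj]; exact mul_inv_eq_one.1 hk1
    have : a⁻¹ * (c * d * c⁻¹) * c = d * (a⁻¹ * c) := by rw [hcd]; group
    rw [← this]; group
  obtain ⟨P, hP, hPT⟩ := C.exists_left_of_cm hcm
  have := ha.mul hPT
  rw [mul_inv_cancel_left, one_mul, mul_one] at this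
  exact this.inN

/-- The centraliser of a half-turn of the right factor. -/
theorem inN_of_comm_right (hH : Above (N := N) H) (hnf : C.flip.NoEl H) {n : V3 F} (hn : n ⬝ᵥ n ≠ 0) {z : O Q}
    (hz : C.Tn z 1 (rn n)) {c : O Q} (hc : c ∈ H) (hcz : c * z = z * c) : InN (N := N) c :=
  inN_of_comm_left (C := C.flip) hH hnf hn hz.flip hc hcz

end Coord

end Cfsg.Agent.H55.OmegaNine
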