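import Cfsg.Agent.H55.OmegaNine.Stab
import Cfsg.Agent.H96.TensorCoords

/-!
The stabiliser of a tensor square of a three-dimensional symmetric form is maximal in the nine-dimensional Ω.
-/

set_option autoImplicit false

namespace Cfsg.Agent.H55.OmegaNine

open Matrix QuadraticMap Cfsg.Agent.Orthogonal
open scoped MatrixGroups

section Gram

variable {F : Type*} [Field F] [Finite F]

theorem exists_plane (h2 : (2 : F) ≠ 0) {A B d : F} (hA : A ≠ 0) (hB : B ≠ 0) :
    ∃ x y : F, A * (x * x) + B * (y * y) = d := by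
  classical
  have := Fintype.ofFinite F
  have hodd : Fintype.card F % 2 = 1 := FiniteField.odd_card_of_char_ne_two (by
    intro hc; have := ringChar.Nat.cast_ringChar (R := F); rw [hc] at this; exact h2 (by exact_mod_cast this))
  obtain ⟨r, s, hrs⟩ := FiniteField.exists_root_sum_quadratic
    (f := Polynomial.C A * Polynomial.X ^ 2) (g := Polynomial.C B * Polynomial.X ^ 2 - Polynomial.C d)
    (by rw [Polynomial.degree_C_mul_X_pow 2 hA]; rfl)
    (by rw [Polynomial.degree_sub_eq_left_of_degree_lt] <;> rw [Polynomial.degree_C_mul_X_pow 2 hB]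
        · rfl
        · exact lt_of_le_of_lt Polynomial.degree_C_le (by decide)) hodd
  simp at hrs
  exact ⟨r, s, by linear_combination hrs⟩

/-- A symmetric invertible matrix of order three is congruent to a scalar. -/
theorem exists_congr_scalar (h2 : (2 : F) ≠ 0) {G : M3 F} (hG : Gᵀ = G) (hdet : G.det ≠ 0) :
    ∃ (E : M3 F) (d : F), d ≠ 0 ∧ E.det ≠ 0 ∧ Eᵀ * G * E = d • 1 := by
  have : Invertible (2 : F) := invertibleOfNonzero h2
  obtain ⟨v, hv⟩ := LinearMap.BilinForm.exists_orthogonal_basis (B := Matrix.toBilin' G)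
    ⟨fun x y => by
      rw [Matrix.toBilin'_apply', Matrix.toBilin'_apply', dotProduct_comm, dotProduct_mulVec, RingHom.id_apply,
        ← mulVec_transpose, hG]⟩
  let w : Fin 3 → V3 F := fun i => v (Fin.cast (Module.finrank_fin_fun F).symm i)
  set b : Fin 3 → F := fun i => w i ⬝ᵥ G *ᵥ w i
  have horth : ∀ i j, i ≠ j → w i ⬝ᵥ G *ᵥ w j = 0 := fun i j hij => by
    rw [← Matrix.toBilin'_apply']
    exact hv (fun h => hij (Fin.cast_injective _ h))
  set W : M3 F := (Matrix.of w)ᵀ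
  have hW : Wᵀ * G * W = Matrix.diagonal b := by
    ext i j
    rw [mul_assoc]
    show w i ⬝ᵥ G *ᵥ w j = _
    rcases eq_or_ne i j with rfl | h
    · rw [Matrix.diagonal_apply_eq]
    · rw [Matrix.diagonal_apply_ne _ h, horth i j h]
  have hWd : W.det ≠ 0 := by
    intro h0
    obtain ⟨a, ha, hWa⟩ := Matrix.exists_mulVec_eq_zero_iff.2 h0
    have hli : LinearIndependent F w := v.linearIndependent.comp _ (Fin.cast_injective _)
    refine ha (funext fun i => Fintype.linearIndependent_iff.1 hli a ?_ i)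
    rw [← hWa]
    funext k
    simp [W, Matrix.mulVec, dotProduct, mul_comm]
  have hb : ∀ i, b i ≠ 0 := fun i h => by
    have e := congrArg Matrix.det hW
    rw [det_mul, det_mul, det_transpose, det_diagonal, Finset.prod_eq_zero (Finset.mem_univ i) h] at e
    exact mul_ne_zero (mul_ne_zero hWd hdet) hWd e
  set d := b 0 * b 1 * b 2
  have hd : d ≠ 0 := mul_ne_zero (mul_ne_zero (hb 0) (hb 1)) (hb 2)
  obtain ⟨x, y, hxy⟩ := exists_plane h2 (d := d) (hb 0) (hb 1)
  have hA : b 0 * b 1 * d ≠ 0 := mul_ne_zero (mul_ne_zero (hb 0) (hb 1)) hd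
  obtain ⟨x', y', hxy'⟩ := exists_plane h2 (d := d) hA (hb 2)
  have hi : d * d⁻¹ = 1 := mul_inv_cancel₀ hd
  set R₁ : M3 F := !![x, -(b 1 * y), 0; y, b 0 * x, 0; 0, 0, 1]
  set R₂ : M3 F := !![1, 0, 0; 0, x', -(b 2 * y') * d⁻¹; 0, y', b 0 * b 1 * d * x' * d⁻¹]
  have e1 : R₁ᵀ * Matrix.diagonal b * R₁ = Matrix.diagonal ![d, b 0 * b 1 * d, b 2] := by
    ext i j
    fin_cases i <;> fin_cases j <;>
      simp [R₁, Matrix.mul_apply, Fin.sum_univ_three, Matrix.diagonal] <;>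
      first
        | ring1
        | linear_combination hxy
        | linear_combination (b 0 * b 1) * hxy
  have e2 : R₂ᵀ * Matrix.diagonal ![d, b 0 * b 1 * d, b 2] * R₂ = d • 1 := by
    ext i j
    fin_cases i <;> fin_cases j <;>
      simp [R₂, Matrix.mul_apply, Fin.sum_univ_three, Matrix.diagonal, Matrix.one_apply] <;>
      first
        | ring1
        | linear_combination hxy'
        | (field_simp; ring1)
        | (field_simp; linear_combination (b 0 * b 1 * b 2) * hxy')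
        | (field_simp; linear_combination hxy')
        | (field_simp; linear_combination d * hxy')
        | (field_simp; linear_combination (b 0 * b 1 * d * b 2) * hxy')
  refine ⟨W * R₁ * R₂, d, hd, ?_, ?_⟩
  · intro h0
    have e := congrArg Matrix.det (show (W * R₁ * R₂)ᵀ * G * (W * R₁ * R₂) = d • 1 by
      rw [← e2, ← e1, ← hW]; simp only [transpose_mul, mul_assoc])
    rw [det_mul, h0, mul_zero, det_smul, det_one, mul_one] at e
    exact pow_ne_zero _ hd e.symm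
  · rw [← e2, ← e1, ← hW]; simp only [transpose_mul, mul_assoc]

end Gram

variable {F : Type*} [Field F] {ι : Type} [Fintype ι] [DecidableEq ι]

/-- Index functions as pairs. -/
def pairEquiv : (Fin 2 → Fin 3) ≃ Fin 3 × Fin 3 := finTwoArrowEquiv (Fin 3)

/-- The coordinate map. -/
noncomputable def coordMap (e : ι ≃ (Fin 2 → Fin 3)) (P : GL ι F) : M3 F ≃ₗ[F] (ι → F) :=
  (((Matrix.ofLinearEquiv F).symm).trans (((LinearEquiv.curry F F (Fin 3) (Fin 3)).symm).trans
    (LinearEquiv.funCongrLeft F F (e.trans pairEquiv)))).trans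
    (LinearMap.GeneralLinearGroup.generalLinearEquiv F (ι → F) (Matrix.GeneralLinearGroup.toLin P))

theorem coordMap_apply (e : ι ≃ (Fin 2 → Fin 3)) (P : GL ι F) (X : M3 F) :
    coordMap e P X = (P : Matrix ι ι F) *ᵥ ((fun a : Fin 2 → Fin 3 => X (a 0) (a 1)) ∘ e) := rfl

theorem conj_reindex_apply (e : ι ≃ (Fin 2 → Fin 3)) (P : GL ι F) (k : GL (Fin 2 → Fin 3) F) (X : M3 F) :
    ((MulAut.conj P (Cfsg.Geo.glReindex e.symm k) : GL ι F) : Matrix ι ι F) *ᵥ coordMap e P X =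
      (P : Matrix ι ι F) *ᵥ (((k : Matrix (Fin 2 → Fin 3) (Fin 2 → Fin 3) F) *ᵥ
        fun a : Fin 2 → Fin 3 => X (a 0) (a 1)) ∘ e) := by
  have hP : ((P⁻¹ : GL ι F) : Matrix ι ι F) * (P : Matrix ι ι F) = 1 := by
    rw [← Units.val_mul, inv_mul_cancel, Units.val_one]
  rw [coordMap_apply, MulAut.conj_apply, Units.val_mul, Units.val_mul, ← mulVec_mulVec, ← mulVec_mulVec,
    mulVec_mulVec _ ((P⁻¹ : GL ι F) : Matrix ι ι F) _, hP, one_mulVec]
  congr 1
  show ((k : Matrix (Fin 2 → Fin 3) (Fin 2 → Fin 3) F).submatrix e e) *ᵥ _ = _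
  rw [Matrix.submatrix_mulVec_equiv, Function.comp_assoc, Equiv.self_comp_symm, Function.comp_id]

theorem pure_apply (A B : M3 F) {k : GL (Fin 2 → Fin 3) F}
    (hk : ∀ x y : Fin 2 → Fin 3,
      (k : Matrix (Fin 2 → Fin 3) (Fin 2 → Fin 3) F) x y = A (x 0) (y 0) * B (x 1) (y 1)) (X : M3 F) :
    ((k : Matrix (Fin 2 → Fin 3) (Fin 2 → Fin 3) F) *ᵥ fun a : Fin 2 → Fin 3 => X (a 0) (a 1)) =
      fun a : Fin 2 → Fin 3 => (A * X * Bᵀ) (a 0) (a 1) := by
  funext a
  simp only [Matrix.mulVec, dotProduct, hk]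
  rw [← (pairEquiv).symm.sum_comp, Fintype.sum_prod_type]
  simp [pairEquiv, Matrix.mul_apply, Finset.sum_mul, Finset.mul_sum]
  rw [Finset.sum_comm]
  refine Finset.sum_congr rfl fun i _ => Finset.sum_congr rfl fun j _ => ?_
  ring

theorem swap_apply {k : GL (Fin 2 → Fin 3) F} (hk : ∀ x y : Fin 2 → Fin 3,
    (k : Matrix (Fin 2 → Fin 3) (Fin 2 → Fin 3) F) x y = if y = x ∘ Equiv.swap (0 : Fin 2) 1 then 1 else 0) (X : M3 F) :
    ((k : Matrix (Fin 2 → Fin 3) (Fin 2 → Fin 3) F) *ᵥ fun a : Fin 2 → Fin 3 => X (a 0) (a 1)) =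
      fun a : Fin 2 → Fin 3 => Xᵀ (a 0) (a 1) := by
  funext a
  simp [Matrix.mulVec, dotProduct, hk]

/-- Left and right actions preserving the stabiliser. -/
def TsAct (e : ι ≃ (Fin 2 → Fin 3)) (P g : GL ι F) : Prop :=
  ∃ A B : M3 F, (∀ X, (g : Matrix ι ι F) *ᵥ coordMap e P X = coordMap e P (A * X * Bᵀ)) ∨
    ∀ X, (g : Matrix ι ι F) *ᵥ coordMap e P X = coordMap e P (A * Xᵀ * Bᵀ)

theorem TsAct.mul {e : ι ≃ (Fin 2 → Fin 3)} {P g h : GL ι F} (hg : TsAct e P g) (hh : TsAct e P h) :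
    TsAct e P (g * h) := by
  obtain ⟨A, B, hg⟩ := hg
  obtain ⟨A', B', hh⟩ := hh
  rcases hg with hg | hg <;> rcases hh with hh | hh
  · exact ⟨A * A', B * B', Or.inl fun X => by
      rw [Units.val_mul, ← mulVec_mulVec, hh, hg]; simp only [transpose_mul, mul_assoc]⟩
  · exact ⟨A * A', B * B', Or.inr fun X => by
      rw [Units.val_mul, ← mulVec_mulVec, hh, hg]; simp only [transpose_mul, mul_assoc]⟩
  · exact ⟨A * B', B * A', Or.inr fun X => by
      rw [Units.val_mul, ← mulVec_mulVec, hh, hg]; simp only [transpose_mul, transpose_transpose, mul_assoc]⟩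
  · exact ⟨A * B', B * A', Or.inl fun X => by
      rw [Units.val_mul, ← mulVec_mulVec, hh, hg]; simp only [transpose_mul, transpose_transpose, mul_assoc]⟩

theorem tsAct_of_mem [Finite F] {e : ι ≃ (Fin 2 → Fin 3)} {P g : GL ι F}
    (hg : g ∈ Cfsg.Geo.tensorWreathSubgroup 3 2 e P) : TsAct e P g := by
  obtain ⟨_, ⟨k, hk, rfl⟩, rfl⟩ := hg
  suffices h : ∀ k ∈ Cfsg.Geo.tensorWreathStandard 3 2 F, TsAct e P (MulAut.conj P (Cfsg.Geo.glReindex e.symm k)) from
    h k hk
  have hfin : Finite (GL ι F) := inferInstance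
  intro k hk
  have hfk : Finite (GL (Fin 2 → Fin 3) F) := inferInstance
  rw [Cfsg.Geo.tensorWreathStandard, ← Subgroup.mem_toSubmonoid, Subgroup.closure_toSubmonoid_of_finite] at hk
  induction hk using Submonoid.closure_induction with
  | mem k hk =>
    rcases hk with ⟨gs, hgs⟩ | ⟨σ, hσ⟩
    · refine ⟨(gs 0 : M3 F), (gs 1 : M3 F), Or.inl fun X => ?_⟩
      rw [conj_reindex_apply, pure_apply (gs 0 : M3 F) (gs 1 : M3 F) (fun x y => by rw [hgs, Fin.prod_univ_two]),
        coordMap_apply]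
    · rcases (show ∀ τ : Equiv.Perm (Fin 2), τ = 1 ∨ τ = Equiv.swap 0 1 by decide) σ with rfl | rfl
      · refine ⟨1, 1, Or.inl fun X => ?_⟩
        have hk1 : ((k : Matrix (Fin 2 → Fin 3) (Fin 2 → Fin 3) F) *ᵥ fun a : Fin 2 → Fin 3 => X (a 0) (a 1)) =
            fun a : Fin 2 → Fin 3 => (1 * X * (1 : M3 F)ᵀ) (a 0) (a 1) := by
          funext a
          simp [Matrix.mulVec, dotProduct, hσ]
        rw [conj_reindex_apply, hk1, coordMap_apply]
      · refine ⟨1, 1, Or.inr fun X => ?_⟩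
        rw [conj_reindex_apply, swap_apply hσ, transpose_one, one_mul, mul_one, coordMap_apply]
  | one => exact ⟨1, 1, Or.inl fun X => by simp⟩
  | mul a b _ _ ha hb => rw [map_mul, map_mul]; exact ha.mul hb

theorem mem_of_left_right {e : ι ≃ (Fin 2 → Fin 3)} {P g : GL ι F} {A B : M3 F}
    (h : ∀ X, (g : Matrix ι ι F) *ᵥ coordMap e P X = coordMap e P (A * X * Bᵀ)) :
    g ∈ Cfsg.Geo.tensorWreathSubgroup 3 2 e P := by
  have hinj : ∀ X, A * X * Bᵀ = 0 → X = 0 := fun X hX => by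
    refine (coordMap e P).map_eq_zero_iff.1 ?_
    have e1 := h X
    rw [hX, map_zero] at e1
    have := congrArg (((g⁻¹ : GL ι F) : Matrix ι ι F) *ᵥ ·) e1
    simpa [mulVec_mulVec, ← Units.val_mul] using this
  have hA : A.det ≠ 0 := fun h0 => by
    obtain ⟨v, hv, hAv⟩ := Matrix.exists_mulVec_eq_zero_iff.2 h0
    have := hinj (vecMulVec v (Pi.single 0 1)) (by rw [mul_vecMulVec, hAv, zero_vecMulVec, zero_mul])
    exact hv (funext fun i => by simpa [vecMulVec_apply] using congrFun (congrFun this i) 0)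
  have hB : B.det ≠ 0 := fun h0 => by
    obtain ⟨v, hv, hBv⟩ := Matrix.exists_mulVec_eq_zero_iff.2 h0
    have := hinj (vecMulVec (Pi.single 0 1) v) (by
      rw [mul_assoc, vecMulVec_mul, vecMul_transpose, hBv, vecMulVec_zero, mul_zero])
    exact hv (funext fun i => by simpa [vecMulVec_apply] using congrFun (congrFun this 0) i)
  obtain ⟨a, ha⟩ : IsUnit A := (Matrix.isUnit_iff_isUnit_det A).2 (isUnit_iff_ne_zero.2 hA)
  obtain ⟨b, hb⟩ : IsUnit B := (Matrix.isUnit_iff_isUnit_det B).2 (isUnit_iff_ne_zero.2 hB)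
  set gs : Fin 2 → GL (Fin 3) F := ![a, b]
  let K : (Fin 2 → GL (Fin 3) F) → Matrix (Fin 2 → Fin 3) (Fin 2 → Fin 3) F :=
    fun f => Matrix.of fun x y => (f 0 : M3 F) (x 0) (y 0) * (f 1 : M3 F) (x 1) (y 1)
  have hK : ∀ f f', K f * K f' = K (f * f') := fun f f' => by
    ext x y
    simp only [K, Matrix.mul_apply, Matrix.of_apply, Pi.mul_apply, Units.val_mul]
    rw [← (pairEquiv).symm.sum_comp, Fintype.sum_prod_type, Finset.sum_mul_sum]
    simp [pairEquiv]
    refine Finset.sum_congr rfl fun i _ => Finset.sum_congr rfl fun j _ => ?_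
    ring
  have hK1 : K 1 = 1 := by
    ext x y
    simp only [K, Matrix.of_apply, Pi.one_apply, Units.val_one, Matrix.one_apply]
    by_cases hxy : x = y
    · simp [hxy]
    · rw [if_neg hxy]
      have : x 0 ≠ y 0 ∨ x 1 ≠ y 1 := by
        by_contra hc; push Not at hc; exact hxy (funext fun i => by fin_cases i; exacts [hc.1, hc.2])
      rcases this with h | h <;> simp [h]
  set k : GL (Fin 2 → Fin 3) F :=
    ⟨K gs, K gs⁻¹, by rw [hK, mul_inv_cancel, hK1], by rw [hK, inv_mul_cancel, hK1]⟩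
  refine Subgroup.mem_map.2 ⟨Cfsg.Geo.glReindex e.symm k,
    Subgroup.mem_map.2 ⟨k, Subgroup.subset_closure (Or.inl ⟨gs, fun x y => by rw [Fin.prod_univ_two]; rfl⟩), rfl⟩, ?_⟩
  refine Units.ext (Matrix.ext_iff_mulVec.2 fun v => ?_)
  obtain ⟨X, rfl⟩ := (coordMap e P).surjective v
  show ((MulAut.conj P (Cfsg.Geo.glReindex e.symm k) : GL ι F) : Matrix ι ι F) *ᵥ _ = _
  rw [conj_reindex_apply, pure_apply A B (fun x y => by simp [k, K, gs, ha, hb]), h, coordMap_apply]

theorem exists_mem_swap (e : ι ≃ (Fin 2 → Fin 3)) (P : GL ι F) :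
    ∃ t ∈ Cfsg.Geo.tensorWreathSubgroup 3 2 e P, ∀ X,
      (t : Matrix ι ι F) *ᵥ coordMap e P X = coordMap e P Xᵀ := by
  let S : Matrix (Fin 2 → Fin 3) (Fin 2 → Fin 3) F :=
    Matrix.of fun x y => if y = x ∘ Equiv.swap (0 : Fin 2) 1 then 1 else 0
  have hS : S * S = 1 := by
    ext x y
    rw [Matrix.mul_apply, Finset.sum_eq_single (x ∘ Equiv.swap (0 : Fin 2) 1)]
    · simp [S, Matrix.one_apply, Function.comp_assoc, ← Equiv.coe_trans, eq_comm]
    · intro b _ hb
      simp [S, hb]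
    · simp
  set k : GL (Fin 2 → Fin 3) F := ⟨S, S, hS, hS⟩
  refine ⟨_, Subgroup.mem_map.2 ⟨Cfsg.Geo.glReindex e.symm k,
    Subgroup.mem_map.2 ⟨k, Subgroup.subset_closure (Or.inr ⟨Equiv.swap 0 1, fun x y => rfl⟩), rfl⟩, rfl⟩, fun X => ?_⟩
  show ((MulAut.conj P (Cfsg.Geo.glReindex e.symm k) : GL ι F) : Matrix ι ι F) *ᵥ _ = _
  rw [conj_reindex_apply, swap_apply (fun x y => rfl), coordMap_apply]

/-- Tensor coordinates from a tensor square structure. -/
theorem exists_coord [Finite F] (h2 : (2 : F) ≠ 0) (hq : 5 ≤ Nat.card F) {Q : QuadraticForm F (ι → F)} (hQ : Nondeg Q)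
    (e : ι ≃ (Fin 2 → Fin 3)) (P : GL ι F) {f₁ : (Fin 3 → F) → (Fin 3 → F) → F} (hf : Cfsg.Geo.IsSymmetricForm f₁)
    (hT : Cfsg.Geo.IsTensorPowerFormStructure id (polar ⇑Q) f₁ e P) :
    Nonempty (Coord Q (Cfsg.Geo.tensorWreathSubgroup 3 2 e P)) := by
  obtain ⟨c, hc, hform⟩ := hT
  set G := Cfsg.Geo.gramMatrix f₁
  have hG : Gᵀ = G := Matrix.ext fun i j => hf.symm _ _
  have hdet : G.det ≠ 0 := fun h0 => by
    obtain ⟨v, hv, hGv⟩ := Matrix.exists_mulVec_eq_zero_iff.2 h0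
    obtain ⟨-, y, hy⟩ := hf.nondegenerate v hv
    refine hy ?_
    rw [hf.symm, ← H96.sum_gram hf.bilinear]
    refine Finset.sum_eq_zero fun j _ => ?_
    have := congrFun hGv j
    simp only [Matrix.mulVec, dotProduct, Pi.zero_apply] at this
    simp only [mul_assoc, ← Finset.mul_sum]
    rw [this, mul_zero]
  obtain ⟨E, d, hd, hE, hEG⟩ := exists_congr_scalar h2 hG hdet
  obtain ⟨E', hE'⟩ : ∃ E' : M3 F, E * E' = 1 := ⟨E⁻¹, Matrix.mul_nonsing_inv E (isUnit_iff_ne_zero.2 hE)⟩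
  have hE'' : E' * E = 1 := mul_eq_one_comm.1 hE'
  have hEt : E'ᵀ * Eᵀ = 1 := by rw [← transpose_mul, hE', transpose_one]
  have hEt' : Eᵀ * E'ᵀ = 1 := by rw [← transpose_mul, hE'', transpose_one]
  have hpol : ∀ X Y : M3 F,
      polar ⇑Q (coordMap e P X) (coordMap e P Y) = c * (G * X * G * Yᵀ).trace := fun X Y => by
    rw [coordMap_apply, coordMap_apply, hform]
    congr 1
    simp only [Fin.prod_univ_two, id]
    rw [← (pairEquiv).symm.sum_comp, Fintype.sum_prod_type]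
    simp_rw [← (pairEquiv).symm.sum_comp]
    simp only [Fintype.sum_prod_type]
    have s : ∀ i j, G j i = G i j := fun i j => congrFun (congrFun hG i) j
    simp [pairEquiv, Matrix.trace, Matrix.mul_apply, Fin.sum_univ_three, G, s 0 1, s 0 2, s 1 2]
    ring
  let T : M3 F ≃ₗ[F] M3 F :=
    { toFun := fun X => E * X * Eᵀ
      invFun := fun X => E' * X * E'ᵀ
      map_add' := fun X Y => by rw [mul_add, add_mul]
      map_smul' := fun r X => by rw [mul_smul_comm, smul_mul_assoc, RingHom.id_apply]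
      left_inv := fun X => by
        show E' * (E * X * Eᵀ) * E'ᵀ = X
        rw [show E' * (E * X * Eᵀ) * E'ᵀ = E' * E * X * (Eᵀ * E'ᵀ) by simp only [mul_assoc], hE'', hEt', one_mul,
          mul_one]
      right_inv := fun X => by
        show E * (E' * X * E'ᵀ) * Eᵀ = X
        rw [show E * (E' * X * E'ᵀ) * Eᵀ = E * E' * X * (E'ᵀ * Eᵀ) by simp only [mul_assoc], hE', hEt, one_mul,
          mul_one] }
  have hcl : ∀ (g : O Q) v, (H96.om Q g : Matrix ι ι F) *ᵥ v = (g : (ι → F) ≃ₗ[F] (ι → F)) v := fun g v =>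
    H96.om_mulVec Q g v
  refine ⟨{ nQ := hQ, h2 := h2, hq := hq, κ := c * (d * d) / 2,
            hκ := div_ne_zero (mul_ne_zero hc (mul_ne_zero hd hd)) h2, φ := T.trans (coordMap e P),
            form := ?_, mem_T := ?_, mem_S := ?_, of_N := ?_ }⟩
  · intro X
    have e1 := hpol (E * X * Eᵀ) (E * X * Eᵀ)
    rw [Cfsg.Agent.Orthogonal.polar_self'] at e1
    show Q (coordMap e P (E * X * Eᵀ)) = _
    have e2 : (G * (E * X * Eᵀ) * G * (E * X * Eᵀ)ᵀ).trace = d * d * (X * Xᵀ).trace := by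
      rw [transpose_mul, transpose_mul, transpose_transpose,
        show G * (E * X * Eᵀ) * G * (E * (Xᵀ * Eᵀ)) = (G * E * X * (Eᵀ * G * E) * Xᵀ) * Eᵀ by simp only [mul_assoc],
        trace_mul_comm, show Eᵀ * (G * E * X * (Eᵀ * G * E) * Xᵀ) = (Eᵀ * G * E) * X * (Eᵀ * G * E) * Xᵀ by
          simp only [mul_assoc], hEG]
      simp only [smul_mul_assoc, mul_smul_comm, one_mul, mul_one, trace_smul, smul_eq_mul, smul_smul]
    rw [e2] at e1
    field_simp
    linear_combination e1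
  · intro g A B h
    refine mem_of_left_right (A := E * A * E') (B := E * B * E') fun X => ?_
    obtain ⟨Y, rfl⟩ := T.surjective X
    rw [hcl, show coordMap e P (T Y) = (T.trans (coordMap e P)) Y from rfl, h]
    show coordMap e P (E * (A * Y * Bᵀ) * Eᵀ) = coordMap e P (E * A * E' * (E * Y * Eᵀ) * (E * B * E')ᵀ)
    congr 1
    simp only [transpose_mul]
    rw [show E * A * E' * (E * Y * Eᵀ) * (E'ᵀ * (Bᵀ * Eᵀ)) = E * A * (E' * E) * Y * (Eᵀ * E'ᵀ) * (Bᵀ * Eᵀ) by
      simp only [mul_assoc], hE'', hEt']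
    simp only [mul_one, mul_assoc]
  · intro g A B h
    obtain ⟨t, ht, htX⟩ := exists_mem_swap e P
    have hmem : H96.om Q g * t ∈ Cfsg.Geo.tensorWreathSubgroup 3 2 e P := by
      refine mem_of_left_right (A := E * A * E') (B := E * B * E') fun X => ?_
      obtain ⟨Y, hY⟩ := T.surjective Xᵀ
      rw [Units.val_mul, ← mulVec_mulVec, htX, ← hY, hcl,
        show coordMap e P (T Y) = (T.trans (coordMap e P)) Y from rfl, h]
      have hX : X = E * Yᵀ * Eᵀ := by
        rw [← transpose_transpose X, ← hY]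
        show (E * Y * Eᵀ)ᵀ = _
        simp only [transpose_mul, transpose_transpose, mul_assoc]
      rw [hX]
      show coordMap e P (E * (A * Yᵀ * Bᵀ) * Eᵀ) = coordMap e P (E * A * E' * (E * Yᵀ * Eᵀ) * (E * B * E')ᵀ)
      congr 1
      simp only [transpose_mul]
      rw [show E * A * E' * (E * Yᵀ * Eᵀ) * (E'ᵀ * (Bᵀ * Eᵀ)) = E * A * (E' * E) * Yᵀ * (Eᵀ * E'ᵀ) * (Bᵀ * Eᵀ) by
        simp only [mul_assoc], hE'', hEt']
      simp only [mul_one, mul_assoc]
    have := (Cfsg.Geo.tensorWreathSubgroup 3 2 e P).mul_mem hmem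
      ((Cfsg.Geo.tensorWreathSubgroup 3 2 e P).inv_mem ht)
    rwa [mul_inv_cancel_right] at this
  · intro g hg
    obtain ⟨A, B, h⟩ := tsAct_of_mem hg
    refine ⟨E' * A * E, E' * B * E, h.imp (fun h X => ?_) (fun h X => ?_)⟩
    · show (g : (ι → F) ≃ₗ[F] (ι → F)) (coordMap e P (E * X * Eᵀ)) =
        coordMap e P (E * (E' * A * E * X * (E' * B * E)ᵀ) * Eᵀ)
      rw [← hcl, h]
      congr 1
      simp only [transpose_mul]
      rw [show E * (E' * A * E * X * (Eᵀ * (Bᵀ * E'ᵀ))) * Eᵀ = (E * E') * A * E * X * Eᵀ * Bᵀ * (E'ᵀ * Eᵀ) by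
        simp only [mul_assoc], hE', hEt]
      simp only [one_mul, mul_one, mul_assoc]
    · show (g : (ι → F) ≃ₗ[F] (ι → F)) (coordMap e P (E * X * Eᵀ)) =
        coordMap e P (E * (E' * A * E * Xᵀ * (E' * B * E)ᵀ) * Eᵀ)
      rw [← hcl, h]
      congr 1
      simp only [transpose_mul, transpose_transpose]
      rw [show E * (E' * A * E * Xᵀ * (Eᵀ * (Bᵀ * E'ᵀ))) * Eᵀ = (E * E') * A * E * Xᵀ * Eᵀ * Bᵀ * (E'ᵀ * Eᵀ) by
        simp only [mul_assoc], hE', hEt]
      simp only [one_mul, mul_one, mul_assoc]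

/-- The stabiliser of the tensor square is maximal in Ω. -/
theorem maximal [Finite F] {Q : QuadraticForm F (ι → F)} {N : Subgroup (GL ι F)} (C : Coord Q N) :
    Cfsg.Geo.IsMaximalIn (Cfsg.Geo.omegaGL ⇑Q) (N ⊓ Cfsg.Geo.omegaGL ⇑Q) := by
  have h2 := C.h2
  have hn : 5 ≤ Module.finrank F (ι → F) := by
    rw [← C.φ.finrank_eq, Module.finrank_matrix, Module.finrank_self]; simp
  refine ⟨lt_of_le_not_ge inf_le_right fun h => ?_, fun M hM hMG => ?_⟩
  · obtain ⟨k1, hk1⟩ : ∃ k : V3 F, k ⬝ᵥ k = 1 := ⟨![1, 0, 0], by simp [dotProduct, Fin.sum_univ_three]⟩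
    obtain ⟨e, he, hne⟩ := exists_iso_dot_one h2 hk1
    have he0 : e ≠ 0 := fun h0 => by simp [h0] at hne
    obtain ⟨f, hf, hef⟩ := exists_partner h2 he0 he
    set n := e ⨯₃ f with hn'
    have hen : e ⨯₃ n = e := by
      rw [hn', cross_cross_eq_smul_sub_smul', hef, he, one_smul, zero_smul, sub_zero]
    set c : F := -(2 * C.κ)⁻¹
    set u := vecMulVec e e
    have hu : Q (C.φ u) = 0 := by rw [C.form, Coord.trace_vv, he, mul_zero, mul_zero]
    have hw : polar Q (C.φ u) (C.φ (c • vecMulVec n e)) = 0 := by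
      rw [C.polar_phi, transpose_smul, mul_smul_comm, trace_smul, Coord.trace_vv, he, mul_zero, smul_zero, mul_zero]
    set g := sie (C.φ u) (C.φ (c • vecMulVec n e)) hu hw
    have hga : ∀ X, C.act g X = X + sk e * X * vecMulVec e e := fun X => by
      have e1 : ((c • vecMulVec n e) * Xᵀ).trace = c * (n ⬝ᵥ X *ᵥ e) := by
        rw [smul_mul_assoc, trace_smul, Coord.trace_vv_mul, smul_eq_mul]
      have e2 : ((c • vecMulVec n e) * (c • vecMulVec n e)ᵀ).trace = 0 := by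
        rw [transpose_smul, smul_mul_smul_comm, trace_smul, Coord.trace_vv, he, mul_zero, smul_zero]
      rw [Coord.act_sie, e1, e2, Coord.trace_vv_mul, mul_zero, zero_mul, sub_zero]
      have hs : sk e = vecMulVec n e - vecMulVec e n := by rw [← sk_cross, hen]
      rw [hs, mul_vecMulVec, ← mulVec_mulVec, sub_mulVec, vecMulVec_mulVec,
        vecMulVec_mulVec, op_smul_eq_smul, op_smul_eq_smul, sub_vecMulVec, smul_vecMulVec, smul_vecMulVec]
      have : C.κ ≠ 0 := C.hκ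
      simp only [c, u]
      match_scalars <;> field_simp <;> ring
    have hgΩ : g ∈ commutator (O Q) := H98.OrthMax.sie_mem_commutator C.nQ hn hu hw
    have hgN : Coord.InN (N := N) g := (h ((H96.mem_omegaGL_iff Q _).2 ⟨g, hgΩ, rfl⟩)).1
    have hfix : ∀ a, C.act g (vecMulVec a e) = vecMulVec a e := fun a => by
      rw [hga, mul_assoc (sk e), vv_mul, he, zero_smul, mul_zero, add_zero]
    obtain ⟨A, B, hA, hB, hT | hT⟩ := Coord.InN.normal_form (C := C) hgN hgΩ
    · have hAa : ∀ a, (B *ᵥ e ⬝ᵥ f) • A *ᵥ a = a := fun a => by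
        have := congrArg (· *ᵥ f) ((hT _).symm.trans (hfix a))
        rwa [mul_vecMulVec, vecMulVec_mul, vecMul_transpose, vecMulVec_mulVec, vecMulVec_mulVec, op_smul_eq_smul,
          op_smul_eq_smul, hef, one_smul] at this
      have hAs : (B *ᵥ e ⬝ᵥ f) • A = 1 := Matrix.ext_iff_mulVec.2 fun a => by rw [smul_mulVec, hAa, one_mulVec]
      have hc1 : B *ᵥ e ⬝ᵥ f ≠ 0 := fun h0 => he0 (by rw [← hAa e, h0, zero_smul])
      have hA' : A = (B *ᵥ e ⬝ᵥ f)⁻¹ • 1 := by rw [← hAs, inv_smul_smul₀ hc1]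
      rw [hA.smul_eq isSO_one hA', one_smul] at hA'
      subst hA'
      -- left multiplications commute with the element
      have key : ∀ Y : M3 F, sk e *ᵥ (Y *ᵥ e) = Y *ᵥ (sk e *ᵥ e) := fun Y => by
        have e1 : C.act g (Y * 1) = Y * C.act g 1 := by rw [hT, hT, one_mul, one_mul, ← mul_assoc]
        rw [hga, hga, mul_add, mul_one, mul_one] at e1
        have e2 := congrArg (· *ᵥ f) (add_left_cancel e1)
        simpa [← mulVec_mulVec, vecMulVec_mulVec, hef, mulVec_smul] using e2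
      have := key (vecMulVec f f)
      rw [vecMulVec_mulVec, op_smul_eq_smul, dotProduct_comm, hef, one_smul, sk_mulVec, sk_mulVec, cross_self,
        mulVec_zero] at this
      have hnn : e ⨯₃ f ⬝ᵥ e ⨯₃ f = -1 := by rw [cross_dot_cross, he, hf, hef, dotProduct_comm f e, hef]; ring
      rw [this, zero_dotProduct] at hnn
      exact one_ne_zero (α := F) (by linear_combination hnn)
    · have hAa : ∀ a, (-(B *ᵥ a ⬝ᵥ f)) • A *ᵥ e = a := fun a => by
        have := congrArg (· *ᵥ f) ((hT _).symm.trans (hfix a))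
        rwa [transpose_vecMulVec, mul_vecMulVec, vecMulVec_mul, vecMul_transpose, neg_mulVec, vecMulVec_mulVec,
          vecMulVec_mulVec, op_smul_eq_smul, op_smul_eq_smul, hef, one_smul, ← neg_smul] at this
      have e1 := congrArg (f ⬝ᵥ ·) (hAa e)
      have e2 := congrArg (f ⬝ᵥ ·) (hAa f)
      have e3 := congrArg (e ⬝ᵥ ·) (hAa e)
      have e4 := congrArg (e ⬝ᵥ ·) (hAa f)
      simp only [dotProduct_smul, smul_eq_mul, dotProduct_comm f e, hef, hf, he] at e1 e2 e3 e4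
      exact one_ne_zero (α := F) (calc
        (1 : F) = (-(B *ᵥ e ⬝ᵥ f) * (f ⬝ᵥ A *ᵥ e)) * (-(B *ᵥ f ⬝ᵥ f) * (e ⬝ᵥ A *ᵥ e)) := by rw [e1, e4, one_mul]
        _ = (-(B *ᵥ e ⬝ᵥ f) * (e ⬝ᵥ A *ᵥ e)) * (-(B *ᵥ f ⬝ᵥ f) * (f ⬝ᵥ A *ᵥ e)) := by ring
        _ = 0 := by rw [e2, e3, zero_mul])
  by_cases hMN : M ≤ N
  · exact Or.inl (le_antisymm (le_inf hMN hMG) hM)
  refine Or.inr (le_antisymm hMG ?_)
  set H := M.comap (H96.om Q)
  have hH : Coord.Above (N := N) H := by
    refine ⟨fun g hg => ?_, fun g hg hgN => hM ⟨hgN, (H96.mem_omegaGL_iff Q _).2 ⟨g, hg, rfl⟩⟩⟩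
    obtain ⟨y, hy, hyg⟩ := (H96.mem_omegaGL_iff Q _).1 (hMG hg)
    rwa [← H96.om_injective Q hyg]
  have hS : sieGroup Q ≤ H := by
    by_contra hS
    obtain ⟨g, hg, hgN⟩ := SetLike.not_le_iff_exists.1 hMN
    obtain ⟨x, -, rfl⟩ := (H96.mem_omegaGL_iff Q g).1 (hMG hg)
    exact hgN (C.inN_all hH hS (x := x) hg)
  intro g hg
  obtain ⟨y, hy, rfl⟩ := (H96.mem_omegaGL_iff Q g).1 hg
  rw [← sieGroup_eq_commutator C.nQ hn] at hy
  exact hS hy

end Cfsg.Agent.H55.OmegaNine
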