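import Mathlib

/-!
Three by three matrices: the skew matrix of a vector, half-turns, root elements and rotations of the standard
symmetric form.
-/

set_option autoImplicit false

namespace Cfsg.Agent.H55.OmegaNine

open Matrix

/-- Three by three matrices. -/
abbrev M3 (F : Type*) := Matrix (Fin 3) (Fin 3) F

/-- Triples. -/
abbrev V3 (F : Type*) := Fin 3 → F

variable {F : Type*} [Field F]

/-- `sk e *ᵥ v` is the cross product of `e` and `v`. -/
def sk (e : V3 F) : M3 F := !![0, -e 2, e 1; e 2, 0, -e 0; -e 1, e 0, 0]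

theorem sk_mulVec (e v : V3 F) : sk e *ᵥ v = e ⨯₃ v := by
  funext i
  fin_cases i <;> simp [sk, cross_apply, mulVec, dotProduct, Fin.sum_univ_three] <;> ring

theorem sk_transpose (e : V3 F) : (sk e)ᵀ = -sk e := by
  ext i j
  fin_cases i <;> fin_cases j <;> simp [sk]

theorem sk_add (e e' : V3 F) : sk (e + e') = sk e + sk e' := by
  ext i j
  fin_cases i <;> fin_cases j <;> simp [sk] <;> ring

theorem sk_smul (c : F) (e : V3 F) : sk (c • e) = c • sk e := by
  ext i j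
  fin_cases i <;> fin_cases j <;> simp [sk]

theorem sk_zero : sk (0 : V3 F) = 0 := by
  ext i j
  fin_cases i <;> fin_cases j <;> simp [sk]

theorem sk_neg (e : V3 F) : sk (-e) = -sk e := by
  rw [← neg_one_smul F e, sk_smul, neg_one_smul]

theorem sk_eq_zero {e : V3 F} (h : sk e = 0) : e = 0 := by
  funext i
  fin_cases i
  · simpa [sk] using congrFun (congrFun h 2) 1
  · simpa [sk] using congrFun (congrFun h 0) 2
  · simpa [sk] using congrFun (congrFun h 1) 0

/-- Every skew matrix is the matrix of a vector. -/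
theorem exists_sk (h2 : (2 : F) ≠ 0) {S : M3 F} (h : Sᵀ = -S) : ∃ s, S = sk s := by
  refine ⟨![S 2 1, S 0 2, S 1 0], ?_⟩
  have key : ∀ i j, S j i = -S i j := fun i j => congrFun (congrFun h i) j
  have kd : ∀ i, S i i = 0 := fun i =>
    (mul_eq_zero.1 (show (2 : F) * S i i = 0 by linear_combination key i i)).resolve_left h2
  ext i j
  fin_cases i <;> fin_cases j <;> simp [sk, kd, key 0 1, key 1 2, key 2 0]

theorem sk_mul_sk (x y : V3 F) : sk x * sk y = vecMulVec y x - (x ⬝ᵥ y) • 1 := by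
  ext i j
  fin_cases i <;> fin_cases j <;>
    simp [sk, Matrix.mul_apply, Fin.sum_univ_three, vecMulVec_apply, dotProduct, Matrix.one_apply] <;> ring

theorem sk_conj_aux (A : M3 F) (e : V3 F) : Aᵀ * sk (A *ᵥ e) * A = A.det • sk e := by
  ext i j
  fin_cases i <;> fin_cases j <;>
    simp [sk, Matrix.mul_apply, Fin.sum_univ_three, mulVec, dotProduct, det_fin_three] <;> ring

/-! ### Orthogonal matrices -/

/-- Orthogonal matrices. -/
def IsOrth (A : M3 F) : Prop := A * Aᵀ = 1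

/-- Special orthogonal matrices. -/
structure IsSO (A : M3 F) : Prop where
  orth : IsOrth A
  det : A.det = 1

theorem IsOrth.tmul {A : M3 F} (h : IsOrth A) : Aᵀ * A = 1 := mul_eq_one_comm.1 h

theorem IsOrth.transpose {A : M3 F} (h : IsOrth A) : IsOrth Aᵀ := by
  rw [IsOrth, transpose_transpose]; exact h.tmul

theorem IsOrth.mul {A B : M3 F} (hA : IsOrth A) (hB : IsOrth B) : IsOrth (A * B) := by
  rw [IsOrth, transpose_mul, mul_assoc, ← mul_assoc B, hB, one_mul, hA]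

theorem isOrth_one : IsOrth (1 : M3 F) := by rw [IsOrth, transpose_one, one_mul]

theorem IsOrth.det_sq {A : M3 F} (h : IsOrth A) : A.det * A.det = 1 := by
  have := congrArg Matrix.det h
  rwa [det_mul, det_transpose, det_one] at this

theorem IsOrth.neg {A : M3 F} (h : IsOrth A) : IsOrth (-A) := by
  rw [IsOrth, transpose_neg, neg_mul_neg]; exact h

theorem IsOrth.dot {A : M3 F} (h : IsOrth A) (u v : V3 F) : A *ᵥ u ⬝ᵥ A *ᵥ v = u ⬝ᵥ v := by
  rw [dotProduct_mulVec, ← mulVec_transpose, mulVec_mulVec, h.tmul, one_mulVec]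

theorem IsOrth.inj {A : M3 F} (h : IsOrth A) {u v : V3 F} (e : A *ᵥ u = A *ᵥ v) : u = v := by
  simpa [mulVec_mulVec, h.tmul] using congrArg (Aᵀ *ᵥ ·) e

theorem IsOrth.sk_conj {A : M3 F} (h : IsOrth A) (e : V3 F) : A * sk e * Aᵀ = A.det • sk (A *ᵥ e) := by
  have e1 := congrArg (fun X => A * X * Aᵀ) (sk_conj_aux A e)
  simp only [mul_smul_comm, smul_mul_assoc] at e1
  rw [show A * (Aᵀ * sk (A *ᵥ e) * A) * Aᵀ = A * Aᵀ * sk (A *ᵥ e) * (A * Aᵀ) by simp only [mul_assoc],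
    show A * Aᵀ = 1 from h, one_mul, mul_one] at e1
  rw [e1, smul_smul, h.det_sq, one_smul]

theorem IsSO.mul {A B : M3 F} (hA : IsSO A) (hB : IsSO B) : IsSO (A * B) :=
  ⟨hA.orth.mul hB.orth, by rw [det_mul, hA.det, hB.det, one_mul]⟩

theorem IsSO.transpose {A : M3 F} (hA : IsSO A) : IsSO Aᵀ :=
  ⟨hA.orth.transpose, by rw [det_transpose, hA.det]⟩

theorem isSO_one : IsSO (1 : M3 F) := ⟨isOrth_one, det_one⟩

/-! ### Reflections and half-turns -/

/-- The reflection in `u`. -/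
def rfl3 (u : V3 F) : M3 F := 1 - (2 / (u ⬝ᵥ u)) • vecMulVec u u

/-- The half-turn about `n`. -/
def rn (n : V3 F) : M3 F := (2 / (n ⬝ᵥ n)) • vecMulVec n n - 1

theorem rn_eq (n : V3 F) : rn n = -rfl3 n := by rw [rn, rfl3, neg_sub]

theorem vv_transpose (n : V3 F) : (vecMulVec n n)ᵀ = vecMulVec n n := transpose_vecMulVec n n

theorem vv_mul (a b c d : V3 F) : vecMulVec a b * vecMulVec c d = (b ⬝ᵥ c) • vecMulVec a d := by
  ext i j
  simp [Matrix.mul_apply, vecMulVec_apply, dotProduct, Finset.sum_mul]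
  exact Finset.sum_congr rfl fun k _ => by ring

theorem rfl3_transpose (u : V3 F) : (rfl3 u)ᵀ = rfl3 u := by
  rw [rfl3, transpose_sub, transpose_smul, vv_transpose, transpose_one]

theorem rn_transpose (n : V3 F) : (rn n)ᵀ = rn n := by
  rw [rn, transpose_sub, transpose_smul, vv_transpose, transpose_one]

theorem rfl3_mul_self (u : V3 F) : rfl3 u * rfl3 u = 1 := by
  rcases eq_or_ne (u ⬝ᵥ u) 0 with h | h
  · simp [rfl3, h]
  · rw [rfl3, sub_mul, mul_sub, mul_sub, one_mul, mul_one, one_mul, smul_mul_smul_comm, vv_mul]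
    simp only [smul_smul]
    rw [show 2 / (u ⬝ᵥ u) * (2 / (u ⬝ᵥ u)) * (u ⬝ᵥ u) = 2 / (u ⬝ᵥ u) + 2 / (u ⬝ᵥ u) by field_simp; ring,
      add_smul]
    abel

theorem rn_mul_self (n : V3 F) : rn n * rn n = 1 := by rw [rn_eq, neg_mul_neg, rfl3_mul_self]

theorem isOrth_rfl3 (u : V3 F) : IsOrth (rfl3 u) := by rw [IsOrth, rfl3_transpose, rfl3_mul_self]

theorem det_rfl3 {u : V3 F} (h : u ⬝ᵥ u ≠ 0) : (rfl3 u).det = -1 := by
  have key : ∀ c : F, ((1 : M3 F) - c • vecMulVec u u).det = 1 - c * (u ⬝ᵥ u) := fun c => by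
    simp [det_fin_three, vecMulVec_apply, dotProduct, Fin.sum_univ_three, Matrix.one_apply]
    ring
  rw [rfl3, key, div_mul_cancel₀ _ h]
  norm_num

theorem isSO_rn {n : V3 F} (h : n ⬝ᵥ n ≠ 0) : IsSO (rn n) :=
  ⟨by rw [rn_eq]; exact (isOrth_rfl3 n).neg, by rw [rn_eq, det_neg, det_rfl3 h]; norm_num⟩

theorem rfl3_mulVec (u v : V3 F) : rfl3 u *ᵥ v = v - (2 / (u ⬝ᵥ u) * (u ⬝ᵥ v)) • u := by
  rw [rfl3, sub_mulVec, one_mulVec, smul_mulVec, vecMulVec_mulVec, op_smul_eq_smul, smul_smul]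

theorem rn_mulVec (n v : V3 F) : rn n *ᵥ v = (2 / (n ⬝ᵥ n) * (n ⬝ᵥ v)) • n - v := by
  rw [rn, sub_mulVec, one_mulVec, smul_mulVec, vecMulVec_mulVec, op_smul_eq_smul, smul_smul]

theorem rn_self {n : V3 F} (h : n ⬝ᵥ n ≠ 0) : rn n *ᵥ n = n := by
  rw [rn_mulVec, div_mul_cancel₀ _ h, two_smul, add_sub_cancel_right]

theorem rn_perp {n v : V3 F} (h : n ⬝ᵥ v = 0) : rn n *ᵥ v = -v := by
  rw [rn_mulVec, h, mul_zero, zero_smul, zero_sub]

theorem rn_smul {c : F} (hc : c ≠ 0) (n : V3 F) : rn (c • n) = rn n := by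
  rw [rn, rn, smul_dotProduct, dotProduct_smul, vecMulVec_smul, smul_vecMulVec, smul_smul, smul_smul,
    smul_eq_mul, smul_eq_mul]
  congr 2
  rcases eq_or_ne (n ⬝ᵥ n) 0 with h | h
  · simp [h]
  · field_simp

theorem IsOrth.rn_conj {A : M3 F} (h : IsOrth A) (n : V3 F) : A * rn n * Aᵀ = rn (A *ᵥ n) := by
  rw [rn, mul_sub, sub_mul, mul_one, show A * Aᵀ = 1 from h, mul_smul_comm, smul_mul_assoc, rn, h.dot,
    mul_vecMulVec, vecMulVec_mul, ← mulVec_transpose, transpose_transpose]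

theorem trace_rn {n : V3 F} (h : n ⬝ᵥ n ≠ 0) : (rn n).trace = -1 := by
  rw [rn, trace_sub, trace_smul, trace_vecMulVec, trace_one, smul_eq_mul, div_mul_cancel₀ _ h,
    Fintype.card_fin]
  norm_num

theorem rn_ne_one (h2 : (2 : F) ≠ 0) {n : V3 F} (h : n ⬝ᵥ n ≠ 0) : rn n ≠ 1 := fun e => by
  have := congrArg Matrix.trace e
  rw [trace_rn h, trace_one, Fintype.card_fin] at this
  exact mul_ne_zero h2 h2 (by push_cast at this; linear_combination -this)

/-- Two half-turns commute when their axes are equal or orthogonal. -/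
theorem axes_of_commute (h2 : (2 : F) ≠ 0) {n m : V3 F} (hn : n ⬝ᵥ n ≠ 0) (hm : m ⬝ᵥ m ≠ 0)
    (h : rn n * rn m = rn m * rn n) : n ⬝ᵥ m = 0 ∨ rn n = rn m := by
  by_cases h0 : n ⬝ᵥ m = 0
  · exact Or.inl h0
  right
  have h1 : (2 / (n ⬝ᵥ n) * (2 / (m ⬝ᵥ m)) * (n ⬝ᵥ m)) • (vecMulVec n m - vecMulVec m n) = 0 := by
    rw [rn, rn] at h
    simp only [sub_mul, mul_sub, one_mul, mul_one, smul_mul_smul_comm, vv_mul, smul_smul] at h
    rw [dotProduct_comm m n] at h
    rw [smul_sub, sub_eq_zero]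
    rw [show 2 / (m ⬝ᵥ m) * (2 / (n ⬝ᵥ n)) = 2 / (n ⬝ᵥ n) * (2 / (m ⬝ᵥ m)) by ring] at h
    linear_combination (norm := abel) h
  have hA : vecMulVec n m = vecMulVec m n := by
    rcases smul_eq_zero.1 h1 with e | e
    · exact absurd e (mul_ne_zero (mul_ne_zero (div_ne_zero h2 hn) (div_ne_zero h2 hm)) h0)
    · exact sub_eq_zero.1 e
  have hm' : (n ⬝ᵥ n) • m = (n ⬝ᵥ m) • n := by
    have := congrArg (fun X => X *ᵥ n) hA
    simp only [vecMulVec_mulVec, op_smul_eq_smul] at this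
    rw [← this, dotProduct_comm m n]
  have hc : (n ⬝ᵥ m) / (n ⬝ᵥ n) ≠ 0 := div_ne_zero h0 hn
  rw [← rn_smul hc n, div_eq_inv_mul, mul_smul, ← hm', inv_smul_smul₀ hn]

/-- An involution of the special orthogonal group is a half-turn. -/
theorem exists_rn (h2 : (2 : F) ≠ 0) {A : M3 F} (hA : IsSO A) (hsq : A * A = 1) (hne : A ≠ 1) :
    ∃ n, n ⬝ᵥ n ≠ 0 ∧ A = rn n := by
  have hsymm : Aᵀ = A := by
    calc Aᵀ = Aᵀ * (A * A) := by rw [hsq, mul_one]
      _ = A := by rw [← mul_assoc, hA.orth.tmul, one_mul]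
  have hadj : adjugate A = A := by
    calc adjugate A = adjugate A * (A * A) := by rw [hsq, mul_one]
      _ = A := by rw [← mul_assoc, adjugate_mul, hA.det, one_smul, one_mul]
  have hch : ∀ X : M3 F, adjugate X = X * X - X.trace • X + (adjugate X).trace • (1 : M3 F) := fun X => by
    ext i j
    fin_cases i <;> fin_cases j <;>
      simp [adjugate_fin_three, Matrix.mul_apply, Matrix.trace, Fin.sum_univ_three, Matrix.one_apply] <;> ring
  have ht : A.trace = -1 := by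
    have e := hch A
    rw [hadj, hsq] at e
    by_contra ht
    refine hne (smul_right_injective _ (fun h0 : (1 + A.trace : F) = 0 => ht (by linear_combination h0)) ?_)
    show (1 + A.trace) • A = (1 + A.trace) • (1 : M3 F)
    rw [add_smul, add_smul, one_smul, one_smul]
    linear_combination (norm := abel) e
  set P : M3 F := (2 : F)⁻¹ • (1 + A) with hP
  have hPP : P * P = P := by
    rw [hP, smul_mul_smul_comm, mul_add, add_mul, add_mul, hsq, one_mul, one_mul, mul_one,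
      show (1 : M3 F) + A + (A + 1) = (2 : F) • (1 + A) by rw [two_smul]; abel, smul_smul]
    congr 1
    field_simp
  have hPt : P.trace = 1 := by
    rw [hP, trace_smul, trace_add, trace_one, ht, Fintype.card_fin, smul_eq_mul]
    field_simp
    norm_num
  have hPT : Pᵀ = P := by rw [hP, transpose_smul, transpose_add, transpose_one, hsymm]
  have hminor : adjugate P = 0 := by
    have e := hch P
    rw [hPP, hPt, one_smul, sub_self, zero_add] at e
    have he : (adjugate P).trace = 0 := by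
      have e' : (2 : F) * (adjugate P).trace = P.trace ^ 2 - (P * P).trace := by
        simp [adjugate_fin_three, Matrix.mul_apply, Matrix.trace, Fin.sum_univ_three]
        ring
      rw [hPP, hPt] at e'
      exact (mul_eq_zero.1 (show (2 : F) * _ = 0 by rw [e']; ring)).resolve_left h2
    rw [e, he, zero_smul]
  have hr1 : ∀ i j k, P i j * P k k = P i k * P k j := by
    have g : ∀ i j, adjugate P i j = 0 := fun i j => by rw [hminor]; rfl
    have s : ∀ i j, P j i = P i j := fun i j => congrFun (congrFun hPT i) j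
    have h00 := g 0 0
    have h11 := g 1 1
    have h22 := g 2 2
    have h01 := g 0 1
    have h12 := g 1 2
    have h02 := g 0 2
    simp [adjugate_fin_three, s 0 1, s 1 2, s 0 2] at h00 h11 h22 h01 h12 h02
    intro i j k
    fin_cases i <;> fin_cases j <;> fin_cases k <;> simp [s 0 1, s 1 2, s 0 2] <;>
      first
        | ring1
        | linear_combination h00
        | linear_combination h11
        | linear_combination h22
        | linear_combination h01
        | linear_combination h12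
        | linear_combination h02
        | linear_combination -h00
        | linear_combination -h11
        | linear_combination -h22
        | linear_combination -h01
        | linear_combination -h12
        | linear_combination -h02
  obtain ⟨k, hk⟩ : ∃ k, P k k ≠ 0 := by
    by_contra hcon
    push Not at hcon
    simp [Matrix.trace, hcon] at hPt
  have hnn : (fun i => P i k) ⬝ᵥ (fun i => P i k) = P k k := by
    conv_rhs => rw [← hPP, Matrix.mul_apply]
    refine Finset.sum_congr rfl fun i _ => ?_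
    have : P k i = P i k := congrFun (congrFun hPT i) k
    rw [this]
  refine ⟨fun i => P i k, hnn ▸ hk, ?_⟩
  have hA' : A = (2 : F) • P - 1 := by rw [hP, smul_inv_smul₀ h2]; abel
  rw [hA', rn, hnn]
  ext i j
  have hs : P j k = P k j := congrFun (congrFun hPT k) j
  simp only [Matrix.sub_apply, Matrix.smul_apply, vecMulVec_apply, smul_eq_mul, hs, sub_left_inj]
  field_simp
  linear_combination hr1 i j k

/-! ### Frames -/

/-- Orthogonality of the cross product. -/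
theorem frame_cross (n m : V3 F) (h : n ⬝ᵥ m = 0) :
    n ⬝ᵥ n ⨯₃ m = 0 ∧ m ⬝ᵥ n ⨯₃ m = 0 ∧ n ⨯₃ m ⬝ᵥ n ⨯₃ m = (n ⬝ᵥ n) * (m ⬝ᵥ m) := by
  refine ⟨dot_self_cross n m, dot_cross_self n m, ?_⟩
  rw [cross_dot_cross, h, dotProduct_comm m n, h]
  ring

/-- Every value is taken on the plane orthogonal to an anisotropic vector. -/
theorem exists_value_perp [Finite F] (h2 : (2 : F) ≠ 0) {n : V3 F} (hn : n ⬝ᵥ n ≠ 0) (c : F) :
    ∃ m, n ⬝ᵥ m = 0 ∧ m ⬝ᵥ m = c := by
  classical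
  have := Fintype.ofFinite F
  obtain ⟨u, hu, huu⟩ : ∃ u, n ⬝ᵥ u = 0 ∧ u ⬝ᵥ u ≠ 0 := by
    by_contra hcon
    push Not at hcon
    have h1 : ∀ k, n k * n k = n ⬝ᵥ n := fun k => by
      have e := hcon (n ⨯₃ Pi.single k 1) (dot_self_cross _ _)
      rw [cross_dot_cross] at e
      simp [dotProduct_single, single_dotProduct] at e
      linear_combination -e
    have e : n ⬝ᵥ n = n 0 * n 0 + n 1 * n 1 + n 2 * n 2 := by simp [dotProduct, Fin.sum_univ_three]
    rw [h1, h1, h1] at e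
    exact hn ((mul_eq_zero.1 (show (2 : F) * (n ⬝ᵥ n) = 0 by linear_combination -e)).resolve_left h2)
  obtain ⟨h1, h3, h4⟩ := frame_cross n u hu
  set a := u ⬝ᵥ u with ha
  set w := n ⨯₃ u with hw
  set b := w ⬝ᵥ w with hb
  have hb0 : b ≠ 0 := by rw [h4]; exact mul_ne_zero hn huu
  have hodd : Fintype.card F % 2 = 1 := by
    rcases Nat.mod_two_eq_zero_or_one (Fintype.card F) with e | e
    · have hc := FiniteField.even_card_iff_char_two.2 e
      have h0 := ringChar.Nat.cast_ringChar (R := F)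
      rw [hc] at h0
      exact absurd (by exact_mod_cast h0) h2
    · exact e
  obtain ⟨r, s, hrs⟩ := FiniteField.exists_root_sum_quadratic
    (f := Polynomial.C a * Polynomial.X ^ 2) (g := Polynomial.C b * Polynomial.X ^ 2 - Polynomial.C c)
    (by rw [Polynomial.degree_C_mul_X_pow 2 huu]; rfl)
    (by rw [Polynomial.degree_sub_eq_left_of_degree_lt] <;> rw [Polynomial.degree_C_mul_X_pow 2 hb0]
        · rfl
        · exact lt_of_le_of_lt Polynomial.degree_C_le (by decide)) hodd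
  simp at hrs
  refine ⟨r • u + s • w, ?_, ?_⟩
  · simp [dotProduct_add, dotProduct_smul, hu, h1]
  · simp [dotProduct_add, add_dotProduct, dotProduct_smul, smul_dotProduct, dotProduct_comm w u, h3, ← ha, ← hb]
    linear_combination hrs

/-- The expansion in an orthogonal frame. -/
theorem expand {n m : V3 F} (hn : n ⬝ᵥ n ≠ 0) (hm : m ⬝ᵥ m ≠ 0) (h : n ⬝ᵥ m = 0) (v : V3 F) :
    v = ((n ⬝ᵥ v) / (n ⬝ᵥ n)) • n + ((m ⬝ᵥ v) / (m ⬝ᵥ m)) • m +
      ((n ⨯₃ m ⬝ᵥ v) / ((n ⬝ᵥ n) * (m ⬝ᵥ m))) • n ⨯₃ m := by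
  obtain ⟨h1, h3, h4⟩ := frame_cross n m h
  set R : M3 F := Matrix.of ![n, m, n ⨯₃ m]
  have hR : R.det ≠ 0 := by
    show Matrix.det ![n, m, n ⨯₃ m] ≠ 0
    rw [← triple_product_eq_det, ← triple_product_permutation, h4]
    exact mul_ne_zero hn hm
  apply Matrix.mulVec_injective_iff_isUnit.2 ((Matrix.isUnit_iff_isUnit_det R).2 (isUnit_iff_ne_zero.2 hR))
  funext i
  show (![n, m, n ⨯₃ m] : Fin 3 → V3 F) i ⬝ᵥ v = (![n, m, n ⨯₃ m] : Fin 3 → V3 F) i ⬝ᵥ _
  fin_cases i <;>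
    simp [ dotProduct_add, dotProduct_smul, h, h1, h3, h4, dotProduct_comm m n, dotProduct_comm (n ⨯₃ m) n,
      dotProduct_comm (n ⨯₃ m) m, hn, hm]

/-- A special orthogonal matrix carrying a unit vector to another. -/
theorem exists_map_unit [Finite F] (h2 : (2 : F) ≠ 0) {n m : V3 F} (hn : n ⬝ᵥ n = 1) (hm : m ⬝ᵥ m = 1) :
    ∃ A : M3 F, IsSO A ∧ A *ᵥ n = m := by
  obtain ⟨n', hnn', hn'⟩ := exists_value_perp h2 (n := n) (by rw [hn]; exact one_ne_zero) 1
  obtain ⟨m', hmm', hm'⟩ := exists_value_perp h2 (n := m) (by rw [hm]; exact one_ne_zero) 1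
  have mk : ∀ u v : V3 F, u ⬝ᵥ u = 1 → v ⬝ᵥ v = 1 → u ⬝ᵥ v = 0 → IsSO (Matrix.of ![u, v, u ⨯₃ v]) := by
    intro u v hu hv huv
    obtain ⟨h1, h3, h4⟩ := frame_cross u v huv
    refine ⟨?_, ?_⟩
    · ext i j
      show (![u, v, u ⨯₃ v] : Fin 3 → V3 F) i ⬝ᵥ (![u, v, u ⨯₃ v] : Fin 3 → V3 F) j = _
      fin_cases i <;> fin_cases j <;>
        simp [hu, hv, huv, h1, h3, h4, dotProduct_comm v u, dotProduct_comm (u ⨯₃ v) u,
          dotProduct_comm (u ⨯₃ v) v, Matrix.one_apply]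
    · show Matrix.det ![u, v, u ⨯₃ v] = 1
      rw [← triple_product_eq_det, ← triple_product_permutation, h4, hu, hv,
        one_mul]
  set Rn : M3 F := Matrix.of ![n, n', n ⨯₃ n']
  set Rm : M3 F := Matrix.of ![m, m', m ⨯₃ m']
  have hRn : IsSO Rn := mk n n' hn hn' hnn'
  have hRm : IsSO Rm := mk m m' hm hm' hmm'
  refine ⟨Rmᵀ * Rn, hRm.transpose.mul hRn, ?_⟩
  rw [← mulVec_mulVec]
  have e1 : Rn *ᵥ n = Pi.single 0 1 := by
    funext i
    show (![n, n', n ⨯₃ n'] : Fin 3 → V3 F) i ⬝ᵥ n = _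
    fin_cases i <;> simp [hn, dotProduct_comm n' n, hnn', dotProduct_comm (n ⨯₃ n') n, dot_self_cross]
  rw [e1, mulVec_single_one]
  rfl

/-! ### Root elements -/

/-- The root element of an isotropic vector. -/
def u1 (e : V3 F) : M3 F := 1 + sk e + (2 : F)⁻¹ • (sk e * sk e)

theorem sk_sq_of_iso {e : V3 F} (he : e ⬝ᵥ e = 0) : sk e * sk e = vecMulVec e e := by
  rw [sk_mul_sk, he, zero_smul, sub_zero]

theorem sk_cube_of_iso {e : V3 F} (he : e ⬝ᵥ e = 0) : sk e * sk e * sk e = 0 := by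
  rw [sk_sq_of_iso he, vecMulVec_mul, ← mulVec_transpose, sk_transpose, neg_mulVec, sk_mulVec, cross_self,
    neg_zero, vecMulVec_zero]

theorem u1_smul (c : F) (e : V3 F) : u1 (c • e) = 1 + c • sk e + (c * c * (2 : F)⁻¹) • (sk e * sk e) := by
  rw [u1, sk_smul, smul_mul_smul_comm, smul_smul, mul_comm (2 : F)⁻¹]

theorem u1_add (h2 : (2 : F) ≠ 0) {e : V3 F} (he : e ⬝ᵥ e = 0) (a b : F) :
    u1 (a • e) * u1 (b • e) = u1 ((a + b) • e) := by
  have h3 := sk_cube_of_iso he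
  have h3' : sk e * (sk e * sk e) = 0 := by rw [← mul_assoc, h3]
  have h4 : sk e * sk e * (sk e * sk e) = 0 := by rw [← mul_assoc, h3, zero_mul]
  rw [u1_smul, u1_smul, u1_smul]
  simp only [add_mul, mul_add, one_mul, mul_one, smul_mul_assoc, mul_smul_comm, h3, h3', h4, smul_zero, add_zero]
  match_scalars <;> field_simp <;> ring

theorem u1_zero : u1 (0 : V3 F) = 1 := by simp [u1, sk_zero]

theorem u1_transpose (e : V3 F) : (u1 e)ᵀ = u1 (-e) := by
  simp [u1, transpose_add, transpose_smul, transpose_mul, sk_transpose, sk_neg]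

theorem u1_mul_neg (h2 : (2 : F) ≠ 0) {e : V3 F} (he : e ⬝ᵥ e = 0) : u1 e * u1 (-e) = 1 := by
  have := u1_add h2 he 1 (-1)
  rwa [one_smul, neg_one_smul, add_neg_cancel, zero_smul, u1_zero] at this

theorem isSO_u1 (h2 : (2 : F) ≠ 0) {e : V3 F} (he : e ⬝ᵥ e = 0) : IsSO (u1 e) := by
  have ho : ∀ a : F, IsOrth (u1 (a • e)) := fun a => by
    rw [IsOrth, u1_transpose, ← neg_smul, u1_add h2 he, add_neg_cancel, zero_smul, u1_zero]
  refine ⟨by simpa using ho 1, ?_⟩
  have := u1_add h2 he 2⁻¹ 2⁻¹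
  rw [show (2 : F)⁻¹ + 2⁻¹ = 1 by field_simp; ring, one_smul] at this
  rw [← this, det_mul, (ho _).det_sq]

theorem u1_mulVec {e : V3 F} (he : e ⬝ᵥ e = 0) (v : V3 F) :
    u1 e *ᵥ v = v + e ⨯₃ v + ((2 : F)⁻¹ * (e ⬝ᵥ v)) • e := by
  rw [u1, add_mulVec, add_mulVec, one_mulVec, sk_mulVec, smul_mulVec, sk_sq_of_iso he, vecMulVec_mulVec,
    op_smul_eq_smul, smul_smul]

/-- Multiples of `sk e` in terms of the root elements. -/
theorem sk_eq_u1_sub (h2 : (2 : F) ≠ 0) (e : V3 F) : sk e = (2 : F)⁻¹ • (u1 e - u1 (-e)) := by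
  simp only [u1, sk_neg, neg_mul_neg]
  rw [show (1 : M3 F) + sk e + (2 : F)⁻¹ • (sk e * sk e) - (1 + -sk e + (2 : F)⁻¹ • (sk e * sk e)) =
    (2 : F) • sk e by rw [two_smul]; abel, inv_smul_smul₀ h2]

theorem IsSO.u1_conj {A : M3 F} (hA : IsSO A) (e : V3 F) : A * u1 e * Aᵀ = u1 (A *ᵥ e) := by
  have hs : A * sk e * Aᵀ = sk (A *ᵥ e) := by rw [hA.orth.sk_conj, hA.det, one_smul]
  rw [u1, u1, ← hs, mul_add, mul_add, add_mul, add_mul, mul_one, show A * Aᵀ = 1 from hA.orth, mul_smul_comm,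
    smul_mul_assoc]
  congr 2
  rw [show A * sk e * Aᵀ * (A * sk e * Aᵀ) = A * sk e * (Aᵀ * A) * sk e * Aᵀ by simp only [mul_assoc],
    hA.orth.tmul]
  simp only [mul_assoc, one_mul]

/-! ### Isotropic vectors -/

/-- A hyperbolic partner of a non-zero isotropic vector. -/
theorem exists_partner (h2 : (2 : F) ≠ 0) {e : V3 F} (he0 : e ≠ 0) (he : e ⬝ᵥ e = 0) :
    ∃ f, f ⬝ᵥ f = 0 ∧ e ⬝ᵥ f = 1 := by
  obtain ⟨i, hi⟩ := Function.ne_iff.1 he0
  set f₀ : V3 F := Pi.single i (e i)⁻¹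
  have hf : e ⬝ᵥ f₀ = 1 := by rw [dotProduct_single]; exact mul_inv_cancel₀ hi
  refine ⟨f₀ - ((f₀ ⬝ᵥ f₀) / 2) • e, ?_, ?_⟩
  · simp [sub_dotProduct, dotProduct_sub, smul_dotProduct, dotProduct_smul, he, hf, dotProduct_comm f₀ e]
    field_simp
    ring
  · simp [dotProduct_sub, dotProduct_smul, he, hf]

/-- An isotropic vector with inner product one with a given unit vector. -/
theorem exists_iso_dot_one [Finite F] (h2 : (2 : F) ≠ 0) {n : V3 F} (hn : n ⬝ᵥ n = 1) :
    ∃ e, e ⬝ᵥ e = 0 ∧ n ⬝ᵥ e = 1 := by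
  obtain ⟨m, hnm, hm⟩ := exists_value_perp h2 (n := n) (by rw [hn]; exact one_ne_zero) (-1)
  exact ⟨n + m, by simp [add_dotProduct, dotProduct_add, hn, hnm, hm, dotProduct_comm m n],
    by simp [dotProduct_add, hn, hnm]⟩

/-- A half-turn about a unit vector is a product of root elements. -/
theorem rn_eq_roots (h2 : (2 : F) ≠ 0) {n e : V3 F} (hn : n ⬝ᵥ n = 1) (he : e ⬝ᵥ e = 0) (hne : n ⬝ᵥ e = 1) :
    u1 e * u1 ((2 : F) • n - e) * u1 e = rn n := by
  have he' : ((2 : F) • n - e) ⬝ᵥ ((2 : F) • n - e) = 0 := by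
    simp [sub_dotProduct, dotProduct_sub, smul_dotProduct, dotProduct_smul, hn, he, hne, dotProduct_comm e n]
    ring
  set h := n ⨯₃ e with hh
  obtain ⟨hnh, heh, -⟩ : n ⬝ᵥ h = 0 ∧ e ⬝ᵥ h = 0 ∧ True := ⟨dot_self_cross n e, dot_cross_self n e, trivial⟩
  have hhh : h ⬝ᵥ h = -1 := by rw [hh, cross_dot_cross, hn, he, hne, dotProduct_comm e n, hne]; ring
  have hnxh : n ⨯₃ h = n - e := by
    rw [hh, cross_cross_eq_smul_sub_smul', hne, hn, one_smul, one_smul]
  have hexh : e ⨯₃ h = -e := by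
    rw [hh, cross_cross_eq_smul_sub_smul', he, dotProduct_comm n e, dotProduct_comm e n, hne, zero_smul, one_smul,
      zero_sub]
  have hexn : e ⨯₃ n = -h := by rw [hh, cross_anticomm]
  refine Matrix.ext_iff_mulVec.2 fun v => ?_
  rw [expand (n := n) (m := h) (by rw [hn]; exact one_ne_zero) (by rw [hhh]; norm_num) hnh v, hnxh]
  simp only [← mulVec_mulVec, u1_mulVec he, u1_mulVec he', rn_mulVec, hn, div_one, hhh, map_add, map_smul, map_sub,
    LinearMap.sub_apply, LinearMap.smul_apply, map_neg, cross_self, hexn, hexh, hnxh, ← hh, dotProduct_add,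
    dotProduct_smul, dotProduct_sub, sub_dotProduct, smul_dotProduct, dotProduct_neg, dotProduct_zero, smul_zero, map_zero, hnh, heh, hne, he,
    dotProduct_comm e n, smul_eq_mul, mulVec_add, mulVec_smul, mulVec_sub]
  match_scalars <;> field_simp <;> ring

/-- The isotropic vectors span. -/
theorem iso_span [Finite F] (h2 : (2 : F) ≠ 0) (W : Submodule F (V3 F))
    (h : ∀ e : V3 F, e ⬝ᵥ e = 0 → e ∈ W) : W = ⊤ := by
  have hunit : ∀ n : V3 F, n ⬝ᵥ n = 1 → n ∈ W := fun n hn => by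
    obtain ⟨e, he, hne⟩ := exists_iso_dot_one h2 hn
    have he' : ((2 : F) • n - e) ⬝ᵥ ((2 : F) • n - e) = 0 := by
      simp [sub_dotProduct, dotProduct_sub, smul_dotProduct, dotProduct_smul, hn, he, hne, dotProduct_comm e n]
      ring
    have := W.smul_mem (2 : F)⁻¹ (W.add_mem (h _ he) (h _ he'))
    rwa [add_sub_cancel, inv_smul_smul₀ h2] at this
  refine eq_top_iff.2 fun v _ => ?_
  rw [← Finset.univ_sum_single v]
  refine W.sum_mem fun i _ => ?_
  rw [show (Pi.single i (v i) : V3 F) = v i • Pi.single i 1 by rw [← Pi.single_smul', smul_eq_mul, mul_one]]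
  exact W.smul_mem _ (hunit _ (by simp))

/-! ### Rotations about an axis -/

/-- An element fixing an anisotropic axis lies in the span of `1`, `sk n`, `sk n ^ 2`. -/
theorem IsSO.exists_rot [Finite F] (h2 : (2 : F) ≠ 0) {A : M3 F} (hA : IsSO A) {n : V3 F} (hn : n ⬝ᵥ n ≠ 0)
    (hfix : A *ᵥ n = n) : ∃ x y : F, A = 1 + x • sk n + y • (sk n * sk n) := by
  obtain ⟨m, hnm, hm⟩ := exists_value_perp h2 hn 1
  have hm0 : m ⬝ᵥ m ≠ 0 := by rw [hm]; exact one_ne_zero
  have hcomm : ∀ v, A *ᵥ (n ⨯₃ v) = n ⨯₃ (A *ᵥ v) := fun v => by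
    have e := congrArg (fun X => X *ᵥ (A *ᵥ v)) (hA.orth.sk_conj n)
    simp only [hA.det, one_smul, hfix, sk_mulVec, ← mulVec_mulVec] at e
    rw [mulVec_mulVec v Aᵀ A, hA.orth.tmul, one_mulVec] at e
    exact e
  set k := n ⨯₃ m
  set N := n ⬝ᵥ n
  have hperp : n ⬝ᵥ A *ᵥ m = 0 := by rw [← hnm, ← hA.orth.dot n m, hfix]
  obtain ⟨-, -, hkk⟩ := frame_cross n m hnm
  set a := m ⬝ᵥ A *ᵥ m
  set b := (k ⬝ᵥ A *ᵥ m) / N
  have hAm : A *ᵥ m = a • m + b • k := by
    conv_lhs => rw [expand hn hm0 hnm (A *ᵥ m)]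
    simp [hperp, hm, a, b, N, k]
  refine ⟨b, (1 - a) / N, Matrix.ext_iff_mulVec.2 fun v => ?_⟩
  rw [add_mulVec, add_mulVec, one_mulVec, smul_mulVec, smul_mulVec, ← mulVec_mulVec, sk_mulVec, sk_mulVec]
  have hnk : n ⨯₃ k = -(N • m) := by
    simp only [k]
    rw [cross_cross_eq_smul_sub_smul', hnm, zero_smul, zero_sub]
  obtain ⟨α, β, γ, rfl⟩ : ∃ α β γ : F, v = α • n + β • m + γ • k :=
    ⟨_, _, _, expand hn hm0 hnm v⟩
  have hAk : A *ᵥ k = a • k + (-(b * N)) • m := by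
    rw [show A *ᵥ k = n ⨯₃ (A *ᵥ m) from hcomm m, hAm, map_add, map_smul, map_smul, hnk,
      show n ⨯₃ m = k from rfl, smul_neg, smul_smul, neg_smul]
  simp only [mulVec_add, mulVec_smul, hfix, hAk, hAm, map_add, map_smul, cross_self, show n ⨯₃ m = k from rfl, hnk, smul_zero, map_neg, map_zero]
  match_scalars <;> field_simp <;> ring

end Cfsg.Agent.H55.OmegaNine
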