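import Cfsg.Agent.H55.OmegaNine.Siegel

/-!
An element above the stabiliser of the tensor square that commutes with a root element of one factor lies in it.
-/

set_option autoImplicit false

namespace Cfsg.Agent.H55.OmegaNine

open Matrix QuadraticMap Cfsg.Agent.Orthogonal

section Algebra

variable {F : Type*} [Field F]

theorem rn_eq_prod (h2 : (2 : F) ≠ 0) {n m : V3 F} (hn : n ⬝ᵥ n ≠ 0) (hm : m ⬝ᵥ m ≠ 0) (h : n ⬝ᵥ m = 0) :
    rn n = rfl3 m * rfl3 (n ⨯₃ m) := by
  obtain ⟨h1, h3, h4⟩ := frame_cross n m h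
  refine Matrix.ext_iff_mulVec.2 fun v => ?_
  rw [← mulVec_mulVec, rfl3_mulVec, rfl3_mulVec, rn_mulVec, dotProduct_sub, dotProduct_smul, h3, smul_zero, sub_zero,
    h4]
  conv_lhs => arg 2; rw [expand hn hm h v]
  conv_rhs => arg 1; arg 1; rw [expand hn hm h v]
  match_scalars <;> field_simp <;> ring

/-- The commuting condition read on the axis. -/
theorem axis_of_comm (h2 : (2 : F) ≠ 0) {M : M3 F} {n : V3 F} (hn : n ⬝ᵥ n ≠ 0)
    (h : M * (rn n * M * rn n) = rn n * M * rn n * M) :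
    n ⨯₃ ((2 * (n ⬝ᵥ M *ᵥ n)) • M *ᵥ n - (n ⬝ᵥ n) • M *ᵥ M *ᵥ n) = 0 := by
  have e := congrArg (· *ᵥ n) h
  simp only [← mulVec_mulVec, rn_self hn] at e
  simp only [rn_mulVec, mulVec_sub, mulVec_smul, dotProduct_sub, dotProduct_smul, smul_eq_mul] at e
  set u := M *ᵥ n
  set w := M *ᵥ u
  set α := n ⬝ᵥ u
  have e' : ∃ k : F, (2 * α) • u - (n ⬝ᵥ n) • w = k • n := by
    refine ⟨(n ⬝ᵥ n) * 2⁻¹ * (2 / (n ⬝ᵥ n) * (2 / (n ⬝ᵥ n) * α * α - n ⬝ᵥ w)), ?_⟩
    have e2 := congrArg (((n ⬝ᵥ n) * 2⁻¹) • ·) e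
    linear_combination (norm := (match_scalars <;> field_simp <;> ring)) e2
  obtain ⟨k, hk⟩ := e'
  rw [hk, map_smul, cross_self, smul_zero]

theorem exists_test [Finite F] (h2 : (2 : F) ≠ 0) (hq : 5 ≤ Nat.card F) :
    ∃ z : F, z ≠ 0 ∧ z * z ≠ 2 ∧ z * z + 2 ≠ 0 := by
  classical
  by_cases h3 : (3 : F) = 0
  swap
  · exact ⟨1, one_ne_zero, fun e => one_ne_zero (α := F) (by linear_combination -e), fun e => h3 (by linear_combination e)⟩
  have := Fintype.ofFinite F
  rw [Nat.card_eq_fintype_card] at hq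
  by_contra hcon
  push Not at hcon
  by_cases hi : ∃ i : F, i * i = 2
  · obtain ⟨i, hi⟩ := hi
    have hsub : (Finset.univ : Finset F) ⊆ {0, 1, -1, i, -i} := fun z _ => by
      simp only [Finset.mem_insert, Finset.mem_singleton]
      rcases eq_or_ne z 0 with h | h
      · exact Or.inl h
      right
      rcases ne_or_eq (z * z) 2 with h' | h'
      · rcases mul_self_eq_one_iff.1 (show z * z = 1 by linear_combination hcon z h h' - h3) with e | e
        · exact Or.inl e
        · exact Or.inr (Or.inl e)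
      · right; right
        exact mul_self_eq_mul_self_iff.1 (h'.trans hi.symm)
    have h5 : Fintype.card F = 5 := le_antisymm (by
      have := (Finset.card_le_card hsub).trans Finset.card_le_five
      rwa [Finset.card_univ] at this) hq
    have := Nat.cast_card_eq_zero F
    rw [h5] at this
    push_cast at this
    exact h2 (by linear_combination this - h3)
  · push Not at hi
    have hsub : (Finset.univ : Finset F) ⊆ {0, 1, -1} := fun z _ => by
      simp only [Finset.mem_insert, Finset.mem_singleton]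
      rcases eq_or_ne z 0 with h | h
      · exact Or.inl h
      exact Or.inr (mul_self_eq_one_iff.1 (by linear_combination hcon z h (hi z) - h3))
    have := (Finset.card_le_card hsub).trans Finset.card_le_three
    rw [Finset.card_univ] at this
    omega

/-- A symmetric matrix with the axis condition is a scalar. -/
theorem scalar_aux [Finite F] (h2 : (2 : F) ≠ 0) (hq : 5 ≤ Nat.card F) {a b c x y z : F}
    (key : ∀ n : V3 F, n ⬝ᵥ n ≠ 0 →
      n ⨯₃ ((2 * (n ⬝ᵥ !![a, x, y; x, b, z; y, z, c] *ᵥ n)) • !![a, x, y; x, b, z; y, z, c] *ᵥ n -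
        (n ⬝ᵥ n) • !![a, x, y; x, b, z; y, z, c] *ᵥ !![a, x, y; x, b, z; y, z, c] *ᵥ n) = 0) :
    !![a, x, y; x, b, z; y, z, c] = a • 1 := by
  have g : ∀ p q r : F, p * p + q * q + r * r ≠ 0 →
      ∀ u0 u1' u2 w0 w1 w2 α, u0 = a * p + x * q + y * r → u1' = x * p + b * q + z * r → u2 = y * p + z * q + c * r →
      w0 = a * u0 + x * u1' + y * u2 → w1 = x * u0 + b * u1' + z * u2 → w2 = y * u0 + z * u1' + c * u2 →
      α = p * u0 + q * u1' + r * u2 →
      (q * (2 * α * u2 - (p * p + q * q + r * r) * w2) - r * (2 * α * u1' - (p * p + q * q + r * r) * w1) = 0) ∧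
      (r * (2 * α * u0 - (p * p + q * q + r * r) * w0) - p * (2 * α * u2 - (p * p + q * q + r * r) * w2) = 0) ∧
      (p * (2 * α * u1' - (p * p + q * q + r * r) * w1) - q * (2 * α * u0 - (p * p + q * q + r * r) * w0) = 0) := by
    intro p q r hn u0 u1' u2 w0 w1 w2 α e0 e1 e2 f0 f1 f2 ea
    have k := key ![p, q, r] (by simpa [dotProduct, Fin.sum_univ_three] using hn)
    have hu : !![a, x, y; x, b, z; y, z, c] *ᵥ ![p, q, r] = ![u0, u1', u2] := by
      funext i
      fin_cases i <;> simp [mulVec, dotProduct, Fin.sum_univ_three, e0, e1, e2]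
    have hw : !![a, x, y; x, b, z; y, z, c] *ᵥ ![u0, u1', u2] = ![w0, w1, w2] := by
      funext i
      fin_cases i <;> simp [mulVec, dotProduct, Fin.sum_univ_three, f0, f1, f2]
    rw [hu, hw] at k
    simp [cross_apply, dotProduct, Fin.sum_univ_three, ← ea] at k
    exact k
  have h4 : (2 : F) * 2 ≠ 0 := mul_ne_zero h2 h2
  obtain ⟨e11, e12, e13⟩ := g 1 0 0 (by norm_num) _ _ _ _ _ _ _ rfl rfl rfl rfl rfl rfl rfl
  obtain ⟨e21, e22, e23⟩ := g 0 1 0 (by norm_num) _ _ _ _ _ _ _ rfl rfl rfl rfl rfl rfl rfl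
  obtain ⟨e31, e32, e33⟩ := g 0 0 1 (by norm_num) _ _ _ _ _ _ _ rfl rfl rfl rfl rfl rfl rfl
  have hyz : y * z = 0 := (mul_eq_zero.1 (show (2 : F) * (y * z) = 0 by
    linear_combination e23 - e13)).resolve_left h2
  have hxz : x * z = 0 := (mul_eq_zero.1 (show (2 : F) * (x * z) = 0 by
    linear_combination e12 - e32)).resolve_left h2
  have hxy : x * y = 0 := (mul_eq_zero.1 (show (2 : F) * (x * y) = 0 by
    linear_combination e31 - e21)).resolve_left h2
  obtain ⟨p0, p1, p2⟩ := g 1 1 0 (by norm_num; exact h2) _ _ _ _ _ _ _ rfl rfl rfl rfl rfl rfl rfl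
  obtain ⟨q0, q1, q2⟩ := g 1 0 1 (by norm_num; exact h2) _ _ _ _ _ _ _ rfl rfl rfl rfl rfl rfl rfl
  have hx : x = 0 := by
    by_contra hx
    obtain rfl := (mul_eq_zero.1 hxz).resolve_left hx
    obtain rfl := (mul_eq_zero.1 hxy).resolve_left hx
    exact hx (mul_self_eq_zero.1 ((mul_eq_zero.1 (show (2 : F) * (x * x) = 0 by
      linear_combination -q1)).resolve_left h2))
  subst hx
  have hy : y = 0 := by
    by_contra hy
    obtain rfl := (mul_eq_zero.1 hyz).resolve_left hy
    exact hy (mul_self_eq_zero.1 ((mul_eq_zero.1 (show (2 : F) * (y * y) = 0 by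
      linear_combination p2)).resolve_left h2))
  subst hy
  have hz : z = 0 := mul_self_eq_zero.1 ((mul_eq_zero.1 (show (2 : F) * (z * z) = 0 by
      linear_combination -p2)).resolve_left h2)
  subst hz
  obtain ⟨t, ht0, ht2, ht2'⟩ := exists_test h2 hq
  obtain ⟨r0, r1, r2⟩ := g 1 1 t (fun e => ht2' (by linear_combination e)) _ _ _ _ _ _ _ rfl rfl rfl rfl rfl rfl rfl
  have hab : a = b := by
    by_contra hab
    have h2c : 2 * c - a - b = 0 := (mul_eq_zero.1 (show ((b - a) * (t * t)) * (2 * c - a - b) = 0 by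
      linear_combination r2)).resolve_left (mul_ne_zero (sub_ne_zero.2 (Ne.symm hab)) (mul_ne_zero ht0 ht0))
    obtain rfl : b = 2 * c - a := by linear_combination -h2c
    have e1 : (t * (2 + t * t)) * ((a - c) * (a - c)) = 0 := by linear_combination -r1
    exact hab (by linear_combination 2 * sub_eq_zero.1 (mul_self_eq_zero.1 ((mul_eq_zero.1 e1).resolve_left
      (mul_ne_zero ht0 fun e => ht2' (by linear_combination e)))))
  subst hab
  have hac : c = a := sub_eq_zero.1 (mul_self_eq_zero.1 ((mul_eq_zero.1 (show (t * (t * t - 2)) *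
    ((c - a) * (c - a)) = 0 by linear_combination r0)).resolve_left
      (mul_ne_zero ht0 fun e => ht2 (by linear_combination e))))
  subst hac
  ext i j
  fin_cases i <;> fin_cases j <;> simp

/-- A symmetric matrix commuting with its conjugate under every half-turn is a scalar. -/
theorem scalar_of_comm [Finite F] (h2 : (2 : F) ≠ 0) (hq : 5 ≤ Nat.card F) {M : M3 F} (hM : Mᵀ = M)
    (h : ∀ n : V3 F, n ⬝ᵥ n ≠ 0 → M * (rn n * M * rn n) = rn n * M * rn n * M) : ∃ μ : F, M = μ • 1 := by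
  have s : ∀ i j, M j i = M i j := fun i j => congrFun (congrFun hM i) j
  have hform : M = !![M 0 0, M 0 1, M 0 2; M 0 1, M 1 1, M 1 2; M 0 2, M 1 2, M 2 2] := by
    ext i j
    fin_cases i <;> fin_cases j <;> simp [s 0 1, s 0 2, s 1 2]
  refine ⟨M 0 0, ?_⟩
  rw [hform]
  refine scalar_aux h2 hq fun n hn => ?_
  rw [← hform]
  exact axis_of_comm h2 hn (h n hn)

end Algebra

namespace Coord

variable {F : Type*} [Field F] {ι : Type} [Fintype ι] [DecidableEq ι]
  {Q : QuadraticForm F (ι → F)} {N : Subgroup (GL ι F)} (C : Coord Q N) (H : Subgroup (O Q))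

/-- No element `X ↦ X + S X e eᵀ` other than the identity. -/
def NoEl : Prop := ∀ e s : V3 F, e ≠ 0 → e ⬝ᵥ e = 0 → C.El H e s → s = 0

/-- `g` commutes with right multiplication by `sk e`. -/
def Cm (g : O Q) (e : V3 F) : Prop := ∀ X, C.act g (X * sk e) = C.act g X * sk e

/-- `g` is `X ↦ X + M X K + S X K²`, `K = sk e`. -/
def Up (g : O Q) (e : V3 F) (M S : M3 F) : Prop :=
  ∀ X, C.act g X = X + M * X * sk e + S * X * (sk e * sk e)

variable {C H}

theorem Up.mul {g g' : O Q} {e : V3 F} (he : e ⬝ᵥ e = 0) {M S M' S' : M3 F} (h : C.Up g e M S)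
    (h' : C.Up g' e M' S') : C.Up (g * g') e (M + M') (S + S' + M * M') := fun X => by
  have h3 := sk_cube_of_iso he
  rw [C.act_mul, h', h]
  simp only [add_mul, mul_add, mul_assoc, ← mul_assoc (sk e) (sk e) (sk e), h3,
    show sk e * (sk e * sk e) = 0 by rw [← mul_assoc, h3], mul_zero, add_zero]
  abel

theorem Up.coeff {g g' : O Q} {e f : V3 F} (he : e ⬝ᵥ e = 0) (hf : f ⬝ᵥ f = 0) (hef : e ⬝ᵥ f = 1)
    {M S M' S' : M3 F} (h : C.Up g e M S) (h' : C.Up g' e M' S') (hgg : g = g') : M = M' ∧ S = S' := by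
  have ev : ∀ a : V3 F, vecMulVec a f * sk e = -vecMulVec a (e ⨯₃ f) ∧
      vecMulVec a f * (sk e * sk e) = vecMulVec a e := fun a => by
    refine ⟨?_, ?_⟩
    · rw [vecMulVec_mul, ← mulVec_transpose, sk_transpose, neg_mulVec, sk_mulVec, vecMulVec_neg]
    · rw [sk_sq_of_iso he, vv_mul, dotProduct_comm, hef, one_smul]
  have hnn : e ⨯₃ f ⬝ᵥ e ⨯₃ f = -1 := by rw [cross_dot_cross, he, hf, hef, dotProduct_comm f e, hef]; ring
  subst hgg
  have key : ∀ a, -vecMulVec ((M - M') *ᵥ a) (e ⨯₃ f) + vecMulVec ((S - S') *ᵥ a) e = 0 := fun a => by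
    have e1 := h (vecMulVec a f)
    rw [h' (vecMulVec a f)] at e1
    simp only [mul_vecMulVec, fun a => (ev a).1, fun a => (ev a).2] at e1
    rw [sub_mulVec, sub_mulVec, sub_vecMulVec, sub_vecMulVec]
    linear_combination (norm := abel) -e1
  constructor
  · refine sub_eq_zero.1 (Matrix.ext_iff_mulVec.2 fun a => ?_)
    have := congrArg (· *ᵥ (e ⨯₃ f)) (key a)
    simpa [add_mulVec, neg_mulVec, vecMulVec_mulVec, hnn, dot_self_cross] using this
  · refine sub_eq_zero.1 (Matrix.ext_iff_mulVec.2 fun a => ?_)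
    have := congrArg (· *ᵥ f) (key a)
    simpa [add_mulVec, neg_mulVec, vecMulVec_mulVec, hef, dotProduct_comm (e ⨯₃ f) f, dot_cross_self] using this

theorem up_root (h2 : (2 : F) ≠ 0) {e : V3 F} {g : O Q} {c : F} (hg : C.Tn g 1 (u1 (c • e))) :
    C.Up g e ((-c) • 1) ((2⁻¹ * (c * c)) • 1) := fun X => by
  rw [hg, u1_transpose, one_mul, ← neg_smul, u1_smul]
  simp only [mul_add, mul_one, mul_smul_comm, smul_mul_assoc, one_mul, smul_smul]
  match_scalars <;> ring

theorem Cm.mul {g h : O Q} {e : V3 F} (hg : C.Cm g e) (hh : C.Cm h e) : C.Cm (g * h) e := fun X => by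
  rw [C.act_mul, C.act_mul, hh, hg]

theorem Cm.inv {g : O Q} {e : V3 F} (hg : C.Cm g e) : C.Cm g⁻¹ e := fun X => by
  apply (C.act g).injective
  rw [C.act_inv', hg, C.act_inv']

theorem cm_left {g : O Q} {P : M3 F} (hg : C.Tn g P 1) (e : V3 F) : C.Cm g e := fun X => by
  rw [hg, hg, transpose_one, mul_one, mul_one, mul_assoc]

/-- Commuting with the root element means commuting with `sk e`. -/
theorem cm_of_comm {g d : O Q} {e : V3 F} (he : e ⬝ᵥ e = 0) (hd : C.Tn d 1 (u1 e)) (h : g * d = d * g) :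
    C.Cm g e := fun X => by
  have hd' := hd.inv isOrth_one (isSO_u1 C.h2 he).orth
  have h' : g * d⁻¹ = d⁻¹ * g := ((show Commute g d from h).inv_right).eq
  have e1 : ∀ Y, C.act g (Y * u1 (-e)) = C.act g Y * u1 (-e) := fun Y => by
    have := congrArg (fun k => C.act k Y) h
    simp only [C.act_mul, hd _, one_mul, u1_transpose] at this
    exact this
  have e2 : ∀ Y, C.act g (Y * u1 e) = C.act g Y * u1 e := fun Y => by
    have := congrArg (fun k => C.act k Y) h'
    simp only [C.act_mul, hd' _, transpose_one, one_mul, transpose_transpose] at this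
    exact this
  rw [sk_eq_u1_sub C.h2, mul_smul_comm, mul_sub, map_smul, map_sub, e1, e2, mul_smul_comm, mul_sub]

/-- The shape of a linear map commuting with `sk e`. -/
theorem Cm.shape {g : O Q} {e f : V3 F} (he : e ⬝ᵥ e = 0) (hf : f ⬝ᵥ f = 0) (hef : e ⬝ᵥ f = 1) (hg : C.Cm g e) :
    ∃ P M S : M3 F, IsOrth P ∧ ∀ X, C.act g X = P * X + M * X * sk e + S * X * (sk e * sk e) := by
  set n := e ⨯₃ f with hn
  let L : (V3 F →ₗ[F] M3 F) :=
    { toFun := fun a => C.act g (vecMulVec a f)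
      map_add' := fun a b => by rw [add_vecMulVec, map_add]
      map_smul' := fun c a => by rw [smul_vecMulVec, map_smul, RingHom.id_apply] }
  let co : V3 F → M3 F := fun v => LinearMap.toMatrix' ((Matrix.mulVecBilin F F).flip v ∘ₗ L)
  have hco : ∀ v a, co v *ᵥ a = C.act g (vecMulVec a f) *ᵥ v := fun v a => by
    simp only [co, LinearMap.toMatrix'_mulVec]; rfl
  have hnk : ∀ a : V3 F, vecMulVec a f * sk e = -vecMulVec a n := fun a => by
    rw [vecMulVec_mul, ← mulVec_transpose, sk_transpose, neg_mulVec, sk_mulVec, vecMulVec_neg]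
  have hek : ∀ a : V3 F, vecMulVec a f * (sk e * sk e) = vecMulVec a e := fun a => by
    rw [sk_sq_of_iso he, vv_mul, dotProduct_comm, hef, one_smul]
  have hdec : ∀ X : M3 F, X = vecMulVec (X *ᵥ e) f + vecMulVec (X *ᵥ f) e - vecMulVec (X *ᵥ n) n := fun X => by
    refine Matrix.ext_iff_mulVec.2 fun v => ?_
    conv_lhs => rw [expand_hyp he hf hef v]
    simp only [sub_mulVec, add_mulVec, vecMulVec_mulVec, op_smul_eq_smul, mulVec_sub, mulVec_add, mulVec_smul, hn]
  have hcg : ∀ X, C.act g (X * (sk e * sk e)) = C.act g X * (sk e * sk e) := fun X => by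
    rw [← mul_assoc, hg, hg, mul_assoc]
  have hform : ∀ X, C.act g X = co e * X + co n * X * sk e + co f * X * (sk e * sk e) := by
    have gen : ∀ a, C.act g (vecMulVec a f) = co e * vecMulVec a f + co n * vecMulVec a f * sk e +
        co f * vecMulVec a f * (sk e * sk e) := fun a => by
      simp only [mul_assoc, hnk, hek, mul_neg, mul_vecMulVec, hco]
      exact (hdec _).trans (by rw [sub_eq_add_neg]; abel)
    intro X
    conv_lhs => rw [hdec X]
    conv_rhs => rw [hdec X]
    rw [map_sub, map_add, show vecMulVec (X *ᵥ f) e = vecMulVec (X *ᵥ f) f * (sk e * sk e) from (hek _).symm,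
      show vecMulVec (X *ᵥ n) n = -(vecMulVec (X *ᵥ n) f * sk e) by rw [hnk, neg_neg], map_neg, hcg, hg, gen, gen, gen]
    have h3 := sk_cube_of_iso he
    simp only [mul_sub, sub_mul, mul_add, add_mul, mul_neg, neg_mul, mul_assoc, ← mul_assoc (sk e) (sk e) (sk e), h3,
      show sk e * (sk e * sk e) = 0 by rw [← mul_assoc, h3], mul_zero, add_zero]
    abel
  refine ⟨co e, co n, co f, mul_eq_one_comm.1 (Matrix.ext_iff_mulVec.2 fun b => ?_), hform⟩
  rw [one_mulVec]
  refine dotProduct_eq _ _ fun a => ?_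
  have e1 := C.act_ip g (vecMulVec a f) (vecMulVec b e)
  rw [trace_vv, dotProduct_comm f e, hef, mul_one, show vecMulVec b e = vecMulVec b f * (sk e * sk e) from (hek _).symm,
    hcg, sk_sq_of_iso he, mul_vecMulVec, ← hco, trace_mul_comm] at e1
  have : ((vecMulVec (co e *ᵥ b) e)ᵀ * C.act g (vecMulVec a f)).trace = (co e *ᵥ b) ⬝ᵥ (co e *ᵥ a) := by
    rw [transpose_vecMulVec, trace_mul_comm, mul_vecMulVec, trace_vecMulVec, ← hco, dotProduct_comm]
  rw [this] at e1
  rw [← mulVec_mulVec, mulVec_transpose, ← dotProduct_mulVec, e1, dotProduct_comm]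

theorem Up.symm {g : O Q} {e f : V3 F} (he : e ⬝ᵥ e = 0) (hf : f ⬝ᵥ f = 0) (hef : e ⬝ᵥ f = 1) {M S : M3 F}
    (h : C.Up g e M S) : Mᵀ = M ∧ S + Sᵀ = M * M := by
  set n := e ⨯₃ f with hn
  have hnn : n ⬝ᵥ n = -1 := by rw [hn, cross_dot_cross, he, hf, hef, dotProduct_comm f e, hef]; ring
  have hne : n ⬝ᵥ e = 0 := by rw [dotProduct_comm, hn, dot_self_cross]
  have hnf : n ⬝ᵥ f = 0 := by rw [dotProduct_comm, hn, dot_cross_self]
  have hnk : ∀ a : V3 F, vecMulVec a f * sk e = -vecMulVec a n := fun a => by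
    rw [vecMulVec_mul, ← mulVec_transpose, sk_transpose, neg_mulVec, sk_mulVec, vecMulVec_neg]
  have hek : ∀ a : V3 F, vecMulVec a f * (sk e * sk e) = vecMulVec a e := fun a => by
    rw [sk_sq_of_iso he, vv_mul, dotProduct_comm, hef, one_smul]
  have hnk' : ∀ a : V3 F, vecMulVec a n * sk e = -vecMulVec a e := fun a => by
    rw [vecMulVec_mul, ← mulVec_transpose, sk_transpose, neg_mulVec, sk_mulVec, vecMulVec_neg, hn,
      cross_cross_eq_smul_sub_smul', hef, he, one_smul, zero_smul, sub_zero]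
  have hne' : ∀ a : V3 F, vecMulVec a n * (sk e * sk e) = 0 := fun a => by
    rw [sk_sq_of_iso he, vv_mul, hne, zero_smul]
  have gf : ∀ a, C.act g (vecMulVec a f) = vecMulVec a f - vecMulVec (M *ᵥ a) n + vecMulVec (S *ᵥ a) e := fun a => by
    rw [h, mul_assoc, mul_assoc, hnk, hek, mul_neg, mul_vecMulVec, mul_vecMulVec]; abel
  have gn : ∀ a, C.act g (vecMulVec a n) = vecMulVec a n - vecMulVec (M *ᵥ a) e := fun a => by
    rw [h, mul_assoc, mul_assoc, hnk', hne', mul_neg, mul_vecMulVec, mul_zero]; abel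
  constructor
  · refine Matrix.ext_iff_mulVec.2 fun b => dotProduct_eq _ _ fun a => ?_
    have e1 := C.act_ip g (vecMulVec a f) (vecMulVec b n)
    rw [gf, gn] at e1
    simp only [transpose_sub, transpose_add, sub_mul, mul_sub, add_mul, mul_add, trace_sub, trace_add, trace_vv,
      hnn, hne, hnf, he, hf, hef, dotProduct_comm f n, dotProduct_comm e n, dotProduct_comm f e] at e1
    rw [mulVec_transpose, ← dotProduct_mulVec, dotProduct_comm _ a, dotProduct_comm b]
    linear_combination e1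
  · refine Matrix.ext_iff_mulVec.2 fun b => dotProduct_eq _ _ fun a => ?_
    have e1 := C.act_ip g (vecMulVec a f) (vecMulVec b f)
    rw [gf, gf] at e1
    simp only [transpose_sub, transpose_add, sub_mul, mul_sub, add_mul, mul_add, trace_sub, trace_add, trace_vv,
      hnn, hne, hnf, he, hf, hef, dotProduct_comm f n, dotProduct_comm e n, dotProduct_comm f e] at e1
    have hs : Mᵀ = M := by
      refine Matrix.ext_iff_mulVec.2 fun b' => dotProduct_eq _ _ fun a' => ?_
      have e2 := C.act_ip g (vecMulVec a' f) (vecMulVec b' n)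
      rw [gf, gn] at e2
      simp only [transpose_sub, transpose_add, sub_mul, mul_sub, add_mul, mul_add, trace_sub, trace_add, trace_vv,
        hnn, hne, hnf, he, hf, hef, dotProduct_comm f n, dotProduct_comm e n, dotProduct_comm f e] at e2
      rw [mulVec_transpose, ← dotProduct_mulVec, dotProduct_comm _ a', dotProduct_comm b']
      linear_combination e2
    rw [add_mulVec, add_dotProduct, mulVec_transpose, ← dotProduct_mulVec, dotProduct_comm _ a, dotProduct_comm b,
      ← mulVec_mulVec, dotProduct_comm (M *ᵥ M *ᵥ b) a, dotProduct_mulVec a M, ← mulVec_transpose, hs]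
    linear_combination e1

variable [Finite F]

theorem xi_rn {n : V3 F} (hn : n ⬝ᵥ n ≠ 0) {g : O Q} (hg : C.Tn g (rn n) 1) :
    C.xi g = (1, sqSign (n ⬝ᵥ n)) := by
  obtain ⟨m, hnm, hm⟩ := exists_value_perp C.h2 hn 1
  obtain ⟨-, -, h4⟩ := frame_cross n m hnm
  rw [rn_eq_prod C.h2 hn (by rw [hm]; exact one_ne_zero) hnm] at hg
  rw [xi_rfl3_mul (by rw [hm]; exact one_ne_zero) (by rw [h4, hm, mul_one]; exact hn) hg, h4, hm, one_mul, mul_one]

variable (C) in
/-- An element of the group scaling the line `e` on the right and turning about `n` on the left. -/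
theorem exists_twist (hH : Above (N := N) H) {e f : V3 F} (he : e ⬝ᵥ e = 0) (hf : f ⬝ᵥ f = 0) (hef : e ⬝ᵥ f = 1)
    {n : V3 F} (hn : n ⬝ᵥ n ≠ 0) :
    ∃ g ∈ H, ∃ B : M3 F, IsSO B ∧ C.Tn g (rn n) B ∧ B *ᵥ e = (n ⬝ᵥ n) • e := by
  have h2 := C.h2
  have hval : ∀ c : F, (e + c • f) ⬝ᵥ (e + c • f) = 2 * c := fun c => by
    simp [add_dotProduct, dotProduct_add, he, hf, hef, dotProduct_comm f e]; ring
  have h1 : (e + (1 : F) • f) ⬝ᵥ (e + (1 : F) • f) ≠ 0 := by rw [hval, mul_one]; exact h2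
  have hd : (e + (n ⬝ᵥ n) • f) ⬝ᵥ (e + (n ⬝ᵥ n) • f) ≠ 0 := by rw [hval]; exact mul_ne_zero h2 hn
  set B := rn (e + (1 : F) • f) * rn (e + (n ⬝ᵥ n) • f) with hB
  have hBs : IsSO B := (isSO_rn h1).mul (isSO_rn hd)
  obtain ⟨g, hg⟩ := C.exists_tn (isSO_rn hn).orth hBs.orth
  obtain ⟨a, ha⟩ := C.exists_tn (isSO_rn hn).orth (isOrth_one (F := F))
  obtain ⟨b, hb⟩ := C.exists_tn hBs.orth (isOrth_one (F := F))
  have hb' := hb
  rw [hB, rn_eq, rn_eq, neg_mul_neg] at hb'
  have hx : C.xi g = 1 := by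
    rw [hg.xi_eq ha hb (isSO_rn hn).orth hBs.orth, xi_rn hn ha, xi_rfl3_mul h1 hd hb', hval, hval, Prod.mk_mul_mk,
      show 2 * 1 * (2 * (n ⬝ᵥ n)) = 2 * 2 * (n ⬝ᵥ n) by ring, sqSign_mul h2 (mul_ne_zero h2 h2) hn,
      sqSign_of_isSquare ⟨2, rfl⟩, one_mul, one_mul, Int.units_mul_self]
    rfl
  refine ⟨g, hH.2 _ ((C.mem_Om g).2 hx) hg.inN, B, hBs, hg, ?_⟩
  have hre : rn (e + (n ⬝ᵥ n) • f) *ᵥ e = (n ⬝ᵥ n) • f := by
    rw [rn_mulVec, hval, add_dotProduct, smul_dotProduct, he, dotProduct_comm f e, hef]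
    simp only [smul_eq_mul, mul_one, zero_add, smul_add, smul_smul]
    match_scalars <;> field_simp <;> ring
  have hrf : rn (e + (1 : F) • f) *ᵥ f = e := by
    rw [rn_mulVec, hval, add_dotProduct, smul_dotProduct, hf, hef]
    simp only [smul_eq_mul, mul_zero, add_zero, smul_add, smul_smul]
    match_scalars <;> field_simp <;> ring
  rw [hB, ← mulVec_mulVec, hre, mulVec_smul, hrf]

variable (C) in
/-- A right root element in the group. -/
theorem exists_right_root (hH : Above (N := N) H) {e : V3 F} (he : e ⬝ᵥ e = 0) :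
    ∃ g ∈ H, C.Tn g 1 (u1 e) := by
  have h2 := C.h2
  have he' : ((2 : F)⁻¹ • e) ⬝ᵥ ((2 : F)⁻¹ • e) = 0 := by simp [he]
  obtain ⟨g, hg⟩ := C.exists_tn (isOrth_one (F := F)) (isSO_u1 h2 he').orth
  have h := hg.mul hg
  rw [one_mul, u1_add h2 he, show (2 : F)⁻¹ + 2⁻¹ = 1 by field_simp; ring, one_smul] at h
  exact ⟨g * g, hH.2 _ (C.sq_mem_Om g) h.inN, h⟩

/-- The radical step. -/
theorem exists_of_cm (hH : Above (N := N) H) (hnf : C.NoEl H) {g : O Q} (hg : g ∈ H) {e : V3 F} (he0 : e ≠ 0)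
    (he : e ⬝ᵥ e = 0) (hc : C.Cm g e) : ∃ P : M3 F, ∃ μ : F, IsSO P ∧ C.Tn g P (u1 (μ • e)) := by
  have h2 := C.h2
  obtain ⟨f, hf, hef⟩ := exists_partner h2 he0 he
  obtain ⟨P, M₀, S₀, hP, hform⟩ := hc.shape he hf hef
  obtain ⟨a, ha⟩ := C.exists_tn hP (isOrth_one (F := F))
  set h := a⁻¹ * g with hh
  have hup : C.Up h e (Pᵀ * M₀) (Pᵀ * S₀) := fun X => by
    rw [hh, C.act_mul, ha.inv hP isOrth_one, hform, transpose_transpose, mul_one]
    simp only [mul_add, ← mul_assoc, hP.tmul, one_mul]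
  obtain ⟨hMs, hMS⟩ := hup.symm he hf hef
  set M := Pᵀ * M₀
  set S := Pᵀ * S₀
  have hpow : ∀ k : ℕ, C.Up (h ^ k) e ((k : F) • M) ((k : F) • S + (k.choose 2 : F) • (M * M)) := by
    intro k
    induction k with
    | zero => intro X; simp [C.act_one]
    | succ k ih =>
      rw [pow_succ]
      convert ih.mul he hup using 1
      · push_cast; rw [add_smul, one_smul]
      · rw [Nat.choose_succ_succ', Nat.choose_one_right, smul_mul_assoc]
        push_cast
        module
  have hhΩ : h ∈ commutator (O Q) := by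
    obtain ⟨p, hp⟩ := CharP.exists F
    have hpp : p.Prime := CharP.char_is_prime F p
    have hp2 : p ≠ 2 := fun e2 => h2 (by subst e2; exact_mod_cast CharP.cast_eq_zero F 2)
    have h1 : h ^ p = 1 := C.ext_act fun X => by
      rw [hpow p, CharP.cast_eq_zero, show (p.choose 2 : F) = 0 from by
        rw [CharP.cast_eq_zero_iff F p]
        exact hpp.dvd_choose_self (by norm_num) (lt_of_le_of_ne hpp.two_le (Ne.symm hp2)), C.act_one]
      simp
    rw [C.mem_Om]
    obtain ⟨r, hr⟩ := hpp.odd_of_ne_two hp2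
    have e2 : C.xi h ^ p = 1 := by rw [← map_pow, h1, map_one]
    rwa [hr, pow_succ, pow_mul, pow_two, sign_mul_self, one_pow, one_mul] at e2
  have haΩ : a ∈ commutator (O Q) := by
    have : a = g * h⁻¹ := by rw [hh]; group
    rw [this]; exact mul_mem (hH.1 hg) (inv_mem hhΩ)
  have haH : a ∈ H := hH.2 a haΩ ha.inN
  have hP' : IsSO P := by
    rcases xi_fst_of_det hP ha with hd | hd
    · exact ⟨hP, hd.1⟩
    · have := congrArg Prod.fst ((C.mem_Om a).1 haΩ)
      rw [hd.2] at this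
      exact absurd this (by decide)
  have hhH : h ∈ H := H.mul_mem (H.inv_mem haH) hg
  have el : ∀ (k : O Q), k ∈ H → ∀ S' : M3 F, C.Up k e 0 S' → S' = 0 := by
    intro k hk S' hk'
    obtain ⟨-, hs⟩ := hk'.symm he hf hef
    rw [mul_zero] at hs
    obtain ⟨s, rfl⟩ := exists_sk h2 (eq_neg_of_add_eq_zero_right hs)
    have := hnf e s he0 he ⟨k, hk, fun X => by rw [hk', zero_mul, zero_mul, add_zero, sk_sq_of_iso he]⟩
    rw [this, sk_zero]
  obtain ⟨μ, hμ⟩ : ∃ μ : F, M = μ • 1 := by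
    refine scalar_of_comm h2 C.hq hMs fun n hn => ?_
    obtain ⟨r, hr, B, hB, hrT, hBe⟩ := C.exists_twist hH he hf hef hn
    set R := rn n
    set d := n ⬝ᵥ n
    have hK : B * sk e * Bᵀ = d • sk e := by rw [hB.orth.sk_conj, hB.det, one_smul, hBe, sk_smul]
    have hK2 : B * (sk e * sk e) * Bᵀ = (d * d) • (sk e * sk e) := by
      rw [show B * (sk e * sk e) * Bᵀ = B * sk e * (Bᵀ * B) * sk e * Bᵀ by
          rw [hB.orth.tmul]; simp only [mul_one, mul_assoc],
        show B * sk e * (Bᵀ * B) * sk e * Bᵀ = (B * sk e * Bᵀ) * (B * sk e * Bᵀ) by simp only [mul_assoc], hK,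
        smul_mul_smul_comm]
    have hhr : C.Up (r * h * r⁻¹) e (d • (R * M * R)) ((d * d) • (R * S * R)) := fun X => by
      have hRT : Rᵀ = R := rn_transpose n
      rw [C.act_mul, C.act_mul, hrT.inv (isSO_rn hn).orth hB.orth, hup, hrT, hRT, transpose_transpose]
      simp only [mul_add, add_mul]
      rw [show R * (R * X * B) * Bᵀ = R * R * X * (B * Bᵀ) by simp only [mul_assoc], rn_mul_self,
        show B * Bᵀ = 1 from hB.orth, one_mul, mul_one,
        show R * (M * (R * X * B) * sk e) * Bᵀ = R * M * R * X * (B * sk e * Bᵀ) by simp only [mul_assoc],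
        show R * (S * (R * X * B) * (sk e * sk e)) * Bᵀ = R * S * R * X * (B * (sk e * sk e) * Bᵀ) by
          simp only [mul_assoc], hK, hK2]
      simp only [smul_mul_assoc, mul_smul_comm]
    set h' := r * h * r⁻¹
    have hh' : h' ∈ H := H.mul_mem (H.mul_mem hr hhH) (H.inv_mem hr)
    set M' := d • (R * M * R)
    set D := M * M' - M' * M
    have hD : C.Up (h * h' * (h' * h)⁻¹) e 0 D := by
      have u1' := hup.mul he hhr
      have u2' := hhr.mul he hup
      intro X
      obtain ⟨Y, rfl⟩ := (C.act (h' * h)).surjective X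
      rw [← C.act_mul, inv_mul_cancel_right, u1', u2', zero_mul, zero_mul, add_zero]
      have h3 := sk_cube_of_iso he
      simp only [D, add_mul, mul_add, sub_mul, mul_assoc, ← mul_assoc (sk e) (sk e) (sk e), h3,
        show sk e * (sk e * sk e) = 0 by rw [← mul_assoc, h3], mul_zero, add_zero, sub_zero, zero_add]
      abel
    have hD0 := el _ (H.mul_mem (H.mul_mem hhH hh') (H.inv_mem (H.mul_mem hh' hhH))) D hD
    simp only [D, M', mul_smul_comm, smul_mul_assoc, ← smul_sub, smul_eq_zero] at hD0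
    exact sub_eq_zero.1 (hD0.resolve_left hn)
  have heμ : ∀ c : F, (c • e) ⬝ᵥ (c • e) = 0 := fun c => by simp [he]
  obtain ⟨d, hd, hdT⟩ := C.exists_right_root hH (heμ μ)
  have hd' := up_root h2 hdT
  have hu := hup.mul he hd'
  rw [hμ, neg_smul, add_neg_cancel, smul_mul_assoc, one_mul, smul_neg, smul_smul] at hu
  have hS := el _ (H.mul_mem hhH hd) _ hu
  have h1 : h * d = 1 := C.ext_act fun X => by rw [hu, hS, C.act_one]; simp
  have hh1 : h = d⁻¹ := eq_inv_of_mul_eq_one_left h1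
  refine ⟨P, -μ, hP', ?_⟩
  have hdi := hdT.inv isOrth_one (isSO_u1 h2 (heμ μ)).orth
  rw [transpose_one, u1_transpose, ← neg_smul] at hdi
  have := ha.mul hdi
  rw [mul_one, one_mul, ← hh1, hh] at this
  rwa [mul_inv_cancel_left] at this

variable (C) in
/-- An element commuting with every right root element is a left factor. -/
theorem exists_left_of_cm {g : O Q} (hc : ∀ e : V3 F, e ⬝ᵥ e = 0 → C.Cm g e) :
    ∃ P : M3 F, IsOrth P ∧ C.Tn g P 1 := by
  have h2 := C.h2
  set G := C.act g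
  let W : Submodule F (V3 F) :=
    { carrier := {v | ∀ X, G (X * sk v) = G X * sk v}
      add_mem' := fun {a b} ha hb X => by rw [sk_add, mul_add, mul_add, map_add, ha X, hb X]
      zero_mem' := fun X => by rw [sk_zero, mul_zero, mul_zero, map_zero]
      smul_mem' := fun c a ha X => by rw [sk_smul, mul_smul_comm, mul_smul_comm, map_smul, ha X] }
  have hW : W = ⊤ := iso_span h2 W hc
  have hsk : ∀ v X, G (X * sk v) = G X * sk v := fun v => (hW ▸ Submodule.mem_top : v ∈ W)
  have hoff : ∀ i j, i ≠ j → ∀ X, G (X * Matrix.single i j 1) = G X * Matrix.single i j 1 := fun i j hij X => by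
    have hp : sk (Pi.single j 1 : V3 F) * sk (Pi.single i 1) = Matrix.single i j 1 := by
      rw [sk_mul_sk, single_dotProduct, Pi.single_eq_of_ne hij.symm, mul_zero, zero_smul, sub_zero]
      exact (Matrix.single_eq_single_vecMulVec_single i j).symm
    rw [← hp, ← mul_assoc, hsk, hsk, mul_assoc]
  have hall : ∀ i j, ∀ X, G (X * Matrix.single i j 1) = G X * Matrix.single i j 1 := fun i j X => by
    rcases ne_or_eq i j with h | rfl
    · exact hoff i j h X
    · obtain ⟨k, hk⟩ : ∃ k, k ≠ i := exists_ne i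
      rw [show (Matrix.single i i 1 : M3 F) = Matrix.single i k 1 * Matrix.single k i 1 by simp, ← mul_assoc,
        hoff k i hk, hoff i k hk.symm, mul_assoc]
  have hX : ∀ X, G X = G 1 * X := fun X => by
    conv_lhs => rw [← one_mul X, Matrix.matrix_eq_sum_single X, Finset.mul_sum]
    simp only [Finset.mul_sum, map_sum]
    conv_rhs => rw [Matrix.matrix_eq_sum_single X]
    simp only [Finset.mul_sum]
    refine Finset.sum_congr rfl fun i _ => Finset.sum_congr rfl fun j _ => ?_
    rw [show Matrix.single i j (X i j) = X i j • (Matrix.single i j 1 : M3 F) by simp, mul_smul_comm, mul_smul_comm,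
      map_smul, hall]
  refine ⟨G 1, ?_, fun X => by rw [transpose_one, mul_one]; exact hX X⟩
  refine mul_eq_one_comm.1 (Matrix.ext fun i j => ?_)
  have e1 := C.act_ip g (vecMulVec (Pi.single i 1) (Pi.single 0 1)) (vecMulVec (Pi.single j 1) (Pi.single 0 1))
  rw [hX (vecMulVec (Pi.single i 1) _), hX (vecMulVec (Pi.single j 1) _), mul_vecMulVec, mul_vecMulVec, trace_vv,
    trace_vv] at e1
  simpa [mulVec_single_one, Matrix.mul_apply, dotProduct, Matrix.one_apply, Pi.single_apply, eq_comm] using e1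

end Coord

end Cfsg.Agent.H55.OmegaNine
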