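import Cfsg.Agent.H55.OmegaNine.Coord
import Cfsg.Agent.H98.OrthMax.Roots

/-!
One element `X ↦ X + S X e eᵀ` above the stabiliser of the tensor square gives all Eichler transformations.
-/

set_option autoImplicit false

namespace Cfsg.Agent.H55.OmegaNine

open Matrix QuadraticMap Cfsg.Agent.Orthogonal

section Vectors

variable {F : Type*} [Field F]

theorem cross_of_perp {s w : V3 F} (hs : s ≠ 0) (h : w ⬝ᵥ s = 0) : ∃ v, v ⨯₃ s = w := by
  obtain ⟨i, hi⟩ := Function.ne_iff.1 hs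
  refine ⟨(Pi.single i (s i)⁻¹ : V3 F) ⨯₃ w, ?_⟩
  rw [cross_cross_eq_smul_sub_smul, h, zero_smul, sub_zero, single_dotProduct, inv_mul_cancel₀ hi, one_smul]

theorem sk_cross (x y : V3 F) : sk (x ⨯₃ y) = vecMulVec y x - vecMulVec x y := by
  refine Matrix.ext_iff_mulVec.2 fun v => ?_
  rw [sk_mulVec, cross_cross_eq_smul_sub_smul, sub_mulVec, vecMulVec_mulVec, vecMulVec_mulVec, op_smul_eq_smul,
    op_smul_eq_smul]

/-- Coordinates in a hyperbolic triple. -/
theorem expand_hyp {e f : V3 F} (he : e ⬝ᵥ e = 0) (hf : f ⬝ᵥ f = 0) (hef : e ⬝ᵥ f = 1) (v : V3 F) :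
    v = (f ⬝ᵥ v) • e + (e ⬝ᵥ v) • f - (e ⨯₃ f ⬝ᵥ v) • e ⨯₃ f := by
  set n := e ⨯₃ f with hn
  have hnn : n ⬝ᵥ n = -1 := by rw [hn, cross_dot_cross, he, hf, hef, dotProduct_comm f e, hef]; ring
  have hnf : n ⨯₃ f = f := by rw [hn, cross_cross_eq_smul_sub_smul, hef, hf, one_smul, zero_smul, sub_zero]
  have hne : n ⨯₃ e = -e := by
    rw [hn, cross_cross_eq_smul_sub_smul, he, dotProduct_comm f e, hef, zero_smul, one_smul, zero_sub]
  have hnv : n ⨯₃ v = (e ⬝ᵥ v) • f - (f ⬝ᵥ v) • e := by rw [hn, cross_cross_eq_smul_sub_smul]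
  have e1 := cross_cross_eq_smul_sub_smul' n n v
  rw [hnv, map_sub, map_smul, map_smul, hnf, hne, hnn] at e1
  linear_combination (norm := module) -e1

end Vectors

namespace Coord

variable {F : Type*} [Field F] {ι : Type} [Fintype ι] [DecidableEq ι]
  {Q : QuadraticForm F (ι → F)} {N : Subgroup (GL ι F)} (C : Coord Q N) (H : Subgroup (O Q))

/-- `H` lies above the stabiliser. -/
def Above : Prop := H ≤ commutator (O Q) ∧ ∀ g ∈ commutator (O Q), InN (N := N) g → g ∈ H

/-- `H` has the element `X ↦ X + S X e eᵀ`. -/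
def El (e s : V3 F) : Prop := ∃ g ∈ H, ∀ X, C.act g X = X + sk s * X * vecMulVec e e

/-- `H` has the element `X ↦ X + e eᵀ X Sᵀ`. -/
def El' (e s : V3 F) : Prop := ∃ g ∈ H, ∀ X, C.act g X = X + vecMulVec e e * X * (sk s)ᵀ

/-- `H` has the Eichler transformation of centre `u` and axis `w`. -/
def Ax (u w : M3 F) : Prop :=
  (u * wᵀ).trace = 0 ∧ ∀ hu hw, sie (Q := Q) (C.φ u) (C.φ w) hu hw ∈ H

variable {C H}

theorem act_sie {u w : M3 F} (hu : Q (C.φ u) = 0) (hw : polar Q (C.φ u) (C.φ w) = 0) (X : M3 F) :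
    C.act (sie (C.φ u) (C.φ w) hu hw) X = X + (2 * C.κ * (w * Xᵀ).trace -
      C.κ * (w * wᵀ).trace * (2 * C.κ * (u * Xᵀ).trace)) • u - (2 * C.κ * (u * Xᵀ).trace) • w := by
  apply C.φ.injective
  rw [C.phi_act, sie_app, map_sub, map_add, map_smul, map_smul, C.polar_phi, C.polar_phi, C.form]

theorem El.add {e s t : V3 F} (he : e ⬝ᵥ e = 0) (h : C.El H e s) (h' : C.El H e t) : C.El H e (s + t) := by
  obtain ⟨g, hg, hga⟩ := h
  obtain ⟨g', hg', hga'⟩ := h'
  refine ⟨g * g', H.mul_mem hg hg', fun X => ?_⟩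
  rw [C.act_mul, hga', hga, sk_add, mul_add, add_mul,
    show sk s * (sk t * X * vecMulVec e e) * vecMulVec e e = sk s * (sk t * X * (vecMulVec e e * vecMulVec e e)) by
      simp only [mul_assoc], vv_mul, he, zero_smul]
  simp only [mul_zero, add_zero, add_mul]
  abel

theorem El.zero {e : V3 F} : C.El H e 0 := ⟨1, H.one_mem, fun X => by simp [C.act_one, sk_zero]⟩

theorem El.neg {e s : V3 F} (he : e ⬝ᵥ e = 0) (h : C.El H e s) : C.El H e (-s) := by
  obtain ⟨g, hg, hga⟩ := h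
  refine ⟨g⁻¹, H.inv_mem hg, fun X => (C.act g).injective ?_⟩
  rw [C.act_inv', hga, sk_neg, mul_add, add_mul,
    show sk s * (-sk s * X * vecMulVec e e) * vecMulVec e e = -(sk s * (sk s * X * (vecMulVec e e * vecMulVec e e))) by
      simp only [mul_assoc, neg_mul, mul_neg], vv_mul, he, zero_smul]
  simp only [mul_zero, neg_zero, add_zero, neg_mul]
  abel

theorem El.conj {e s : V3 F} (h : C.El H e s) {g : O Q} (hg : g ∈ H) {A B : M3 F} (hgT : C.Tn g A B)
    (hA : IsSO A) (hB : IsOrth B) : C.El H (B *ᵥ e) (A *ᵥ s) := by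
  obtain ⟨k, hk, hka⟩ := h
  refine ⟨g * k * g⁻¹, H.mul_mem (H.mul_mem hg hk) (H.inv_mem hg), fun X => ?_⟩
  rw [C.act_mul, C.act_mul, hka, (hgT.inv hA.orth hB), hgT, transpose_transpose,
    show sk (A *ᵥ s) = A * sk s * Aᵀ by rw [hA.orth.sk_conj, hA.det, one_smul],
    show vecMulVec (B *ᵥ e) (B *ᵥ e) = B * vecMulVec e e * Bᵀ by
      rw [mul_vecMulVec, vecMulVec_mul, ← mulVec_transpose, transpose_transpose],
    mul_add, add_mul, show A * (Aᵀ * X * B) * Bᵀ = A * Aᵀ * X * (B * Bᵀ) by simp only [mul_assoc],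
    show A * Aᵀ = 1 from hA.orth, show B * Bᵀ = 1 from hB, one_mul, mul_one]
  simp only [mul_assoc]

theorem Ax.add {u w w' : M3 F} (hu0 : (u * uᵀ).trace = 0) (h : C.Ax H u w) (h' : C.Ax H u w') :
    C.Ax H u (w + w') := by
  refine ⟨by rw [transpose_add, mul_add, trace_add, h.1, h'.1, add_zero], fun hu hw => ?_⟩
  have p : ∀ {z}, C.Ax H u z → polar Q (C.φ u) (C.φ z) = 0 := fun hz => by rw [C.polar_phi, hz.1, mul_zero]
  have := H.mul_mem (h.2 hu (p h)) (h'.2 hu (p h'))
  rw [sie_mul] at this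
  convert this using 1
  exact sie_congr _ _ _ _ rfl (map_add _ _ _)

theorem Ax.self {u : M3 F} (hu0 : (u * uᵀ).trace = 0) (c : F) : C.Ax H u (c • u) := by
  refine ⟨by rw [transpose_smul, mul_smul_comm, trace_smul, hu0, smul_zero], fun hu hw => ?_⟩
  convert H.one_mem
  refine C.ext_act fun X => ?_
  rw [act_sie, C.act_one, transpose_smul, smul_mul_smul_comm, trace_smul, hu0, smul_zero, smul_mul_assoc, trace_smul]
  simp only [mul_zero, zero_mul, sub_zero, smul_eq_mul]
  module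

/-- Conjugation of an axis. -/
theorem Ax.move {u w : M3 F} (h : C.Ax H u w) {g : O Q} (hg : g ∈ H) : C.Ax H (C.act g u) (C.act g w) := by
  refine ⟨by rw [C.act_ip, h.1], fun hu hw => ?_⟩
  have hu' : Q (C.φ u) = 0 := by rwa [C.phi_act, O.map_app] at hu
  have hw' : polar Q (C.φ u) (C.φ w) = 0 := by rwa [C.phi_act, C.phi_act, O.polar_app] at hw
  have := H.mul_mem (H.mul_mem hg (h.2 hu' hw')) (H.inv_mem hg)
  rw [sie_conj] at this
  convert this using 1
  exact sie_congr _ _ _ _ (C.phi_act g u) (C.phi_act g w)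

theorem trace_vv (a b c d : V3 F) : (vecMulVec a b * (vecMulVec c d)ᵀ).trace = (a ⬝ᵥ c) * (b ⬝ᵥ d) := by
  rw [transpose_vecMulVec, vv_mul, trace_smul, trace_vecMulVec, smul_eq_mul, mul_comm]

theorem trace_vv_mul (a b : V3 F) (X : M3 F) : (vecMulVec a b * Xᵀ).trace = a ⬝ᵥ X *ᵥ b := by
  rw [vecMulVec_mul, trace_vecMulVec, ← mulVec_transpose, transpose_transpose]

/-- The axes `a eᵀ` of the centre `e eᵀ`. -/
theorem ax_right {e : V3 F} (he : e ⬝ᵥ e = 0) (hall : ∀ s, C.El H e s) (a : V3 F) (c : F) :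
    C.Ax H (vecMulVec e e) (c • vecMulVec a e) := by
  refine ⟨by rw [transpose_smul, mul_smul_comm, trace_smul, trace_vv, he, mul_zero, smul_zero], fun hu hw => ?_⟩
  obtain ⟨g, hg, hga⟩ := hall ((-(2 * C.κ * c)) • e ⨯₃ a)
  convert hg using 1
  refine C.ext_act fun X => ?_
  have e1 : ((c • vecMulVec a e) * Xᵀ).trace = c * (a ⬝ᵥ X *ᵥ e) := by
    rw [smul_mul_assoc, trace_smul, trace_vv_mul, smul_eq_mul]
  have e2 : ((c • vecMulVec a e) * (c • vecMulVec a e)ᵀ).trace = 0 := by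
    rw [transpose_smul, smul_mul_smul_comm, trace_smul, trace_vv, he, mul_zero, smul_zero]
  rw [act_sie, hga, e1, e2, trace_vv_mul, mul_zero, zero_mul, sub_zero, sk_smul, sk_cross,
    mul_vecMulVec, ← mulVec_mulVec, smul_mulVec, sub_mulVec, vecMulVec_mulVec, vecMulVec_mulVec, op_smul_eq_smul,
    op_smul_eq_smul, smul_vecMulVec, sub_vecMulVec, smul_vecMulVec, smul_vecMulVec]
  module

/-- The axes `e aᵀ` of the centre `e eᵀ`. -/
theorem ax_left {e : V3 F} (he : e ⬝ᵥ e = 0) (hall : ∀ s, C.El' H e s) (a : V3 F) (c : F) :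
    C.Ax H (vecMulVec e e) (c • vecMulVec e a) := by
  refine ⟨by rw [transpose_smul, mul_smul_comm, trace_smul, trace_vv, he, zero_mul, smul_zero], fun hu hw => ?_⟩
  obtain ⟨g, hg, hga⟩ := hall ((-(2 * C.κ * c)) • e ⨯₃ a)
  convert hg using 1
  refine C.ext_act fun X => ?_
  have e1 : ((c • vecMulVec e a) * Xᵀ).trace = c * (e ⬝ᵥ X *ᵥ a) := by
    rw [smul_mul_assoc, trace_smul, trace_vv_mul, smul_eq_mul]
  have e2 : ((c • vecMulVec e a) * (c • vecMulVec e a)ᵀ).trace = 0 := by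
    rw [transpose_smul, smul_mul_smul_comm, trace_smul, trace_vv, he, zero_mul, smul_zero]
  rw [act_sie, hga, e1, e2, trace_vv_mul, mul_zero, zero_mul, sub_zero, sk_smul, sk_cross, vecMulVec_mul,
    vecMulVec_mul, vecMul_transpose, smul_mulVec, sub_mulVec, vecMulVec_mulVec, vecMulVec_mulVec, op_smul_eq_smul,
    op_smul_eq_smul, dotProduct_comm e (e ᵥ* X), dotProduct_comm a (e ᵥ* X), ← dotProduct_mulVec,
    ← dotProduct_mulVec, vecMulVec_smul, vecMulVec_sub, vecMulVec_smul, vecMulVec_smul]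
  module

variable [Finite F]

variable (C) in
/-- A left factor in the group: the square of a root element. -/
theorem exists_left_root (hH : Above (N := N) H) {e : V3 F} (he : e ⬝ᵥ e = 0) :
    ∃ g ∈ H, C.Tn g (u1 e) 1 := by
  have h2 := C.h2
  have he' : ((2 : F)⁻¹ • e) ⬝ᵥ ((2 : F)⁻¹ • e) = 0 := by simp [he]
  obtain ⟨g, hg⟩ := C.exists_tn (isSO_u1 h2 he').orth (isOrth_one (F := F))
  have h := hg.mul hg
  rw [one_mul, u1_add h2 he, show (2 : F)⁻¹ + 2⁻¹ = 1 by field_simp; ring, one_smul] at h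
  exact ⟨g * g, hH.2 _ (C.sq_mem_Om g) h.inN, h⟩

variable (C) in
/-- A diagonal element in the group. -/
theorem exists_diag (hH : Above (N := N) H) {A : M3 F} (hA : IsOrth A) : ∃ g ∈ H, C.Tn g A A := by
  obtain ⟨g, hg⟩ := C.exists_tn hA hA
  exact ⟨g, hH.2 _ (hg.diag_mem hA) hg.inN, hg⟩

theorem El.all (hH : Above (N := N) H) {e s : V3 F} (he : e ⬝ᵥ e = 0) (hs : s ≠ 0) (h : C.El H e s) (w : V3 F) :
    C.El H e w := by
  have h2 := C.h2
  have step : ∀ t, C.El H e t → ∀ v, C.El H e (v ⨯₃ t) := by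
    intro t ht
    let W : Submodule F (V3 F) :=
      { carrier := {v | ∀ c : F, C.El H e (c • v ⨯₃ t)}
        add_mem' := fun {a b} ha hb c => by
          rw [map_add, LinearMap.add_apply, smul_add]; exact (ha c).add he (hb c)
        zero_mem' := fun c => by simpa using (El.zero : C.El H e 0)
        smul_mem' := fun r a ha c => by
          rw [map_smul, LinearMap.smul_apply, smul_smul]; exact ha _ }
    have hW : W = ⊤ := iso_span h2 W fun e' he' c => by
      have mv : ∀ r : F, C.El H e (u1 (r • e') *ᵥ t) := fun r => by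
        have hr : (r • e') ⬝ᵥ (r • e') = 0 := by simp [he']
        obtain ⟨g, hg, hgT⟩ := C.exists_left_root hH hr
        simpa using ht.conj hg hgT (isSO_u1 h2 hr) isOrth_one
      have key := (mv (c / 2)).add he ((mv (-(c / 2))).neg he)
      convert key using 1
      have hr : ∀ r : F, (r • e') ⬝ᵥ (r • e') = 0 := fun r => by simp [he']
      rw [u1_mulVec (hr _), u1_mulVec (hr _)]
      simp only [map_smul, LinearMap.smul_apply, smul_dotProduct, smul_eq_mul]
      match_scalars <;> field_simp <;> ring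
    intro v
    simpa using (hW ▸ Submodule.mem_top : v ∈ W) 1
  obtain ⟨s', hs', hs's, hws'⟩ : ∃ s', s' ≠ 0 ∧ s' ⬝ᵥ s = 0 ∧ w ⬝ᵥ s' = 0 := by
    rcases ne_or_eq (s ⨯₃ w) 0 with hc | hc
    · exact ⟨_, hc, by rw [dotProduct_comm, dot_self_cross], dot_cross_self _ _⟩
    · obtain ⟨v, hv⟩ : ∃ v, s ⨯₃ v ≠ 0 := by
        by_contra hcon
        push Not at hcon
        exact hs (sk_eq_zero (Matrix.ext_iff_mulVec.2 fun v => by rw [sk_mulVec, hcon, zero_mulVec]))
      refine ⟨_, hv, by rw [dotProduct_comm, dot_self_cross], ?_⟩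
      rw [triple_product_permutation, triple_product_permutation, ← cross_anticomm s w, hc, neg_zero,
        dotProduct_zero]
  obtain ⟨v, rfl⟩ := cross_of_perp hs hs's
  obtain ⟨v', rfl⟩ := cross_of_perp hs' hws'
  exact step _ (step _ h v) v'

/-- A swap in the group keeping an isotropic pair of lines. -/
theorem exists_swap_diag (hH : Above (N := N) H) {e f : V3 F} (he : e ⬝ᵥ e = 0) (hf : f ⬝ᵥ f = 0)
    (hef : e ⬝ᵥ f = 1) : ∃ g ∈ H, ∃ A : M3 F, ∃ l : F, IsSO A ∧ C.Sw g A 1 ∧ l ≠ 0 ∧ A *ᵥ e = l • e := by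
  have h2 := C.h2
  have hval : ∀ c : F, (e + c • f) ⬝ᵥ (e + c • f) = 2 * c := fun c => by
    simp [add_dotProduct, dotProduct_add, he, hf, hef, dotProduct_comm f e]; ring
  have hne : ∀ c : F, c ≠ 0 → (e + c • f) ⬝ᵥ (e + c • f) ≠ 0 := fun c hc => by
    rw [hval]; exact mul_ne_zero h2 hc
  obtain ⟨t, ht⟩ := C.exists_sw (isOrth_one (F := F)) isOrth_one
  obtain ⟨δ, hδ⟩ := FiniteField.exists_nonsquare (F := F) (by
    intro hc; exact h2 (by have := ringChar.Nat.cast_ringChar (R := F); rw [hc] at this; exact_mod_cast this))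
  have hδ0 : δ ≠ 0 := fun e0 => hδ (e0 ▸ IsSquare.zero)
  obtain ⟨d, hd, hd'⟩ : ∃ d : F, d ≠ 0 ∧ (C.xi t).2 * sqSign d = 1 := by
    rcases Int.units_eq_one_or (C.xi t).2 with h | h
    · exact ⟨1, one_ne_zero, by rw [h, one_mul, sqSign_of_isSquare IsSquare.one]⟩
    · exact ⟨δ, hδ0, by rw [h, sqSign_of_not_isSquare hδ]; decide⟩
  obtain ⟨a, ha⟩ := C.exists_tn (isSO_rn (hne 1 one_ne_zero)).orth.neg.neg (isOrth_one (F := F))
  obtain ⟨b, hb⟩ := C.exists_tn (isSO_rn (hne d hd)).orth (isOrth_one (F := F))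
  rw [neg_neg] at ha
  have hab := ha.mul hb
  rw [one_mul] at hab
  have hx : C.xi (a * b) = (1, sqSign d) := by
    have hab' := hab
    rw [rn_eq, rn_eq, neg_mul_neg] at hab'
    rw [xi_rfl3_mul (hne 1 one_ne_zero) (hne d hd) hab', hval, hval,
      show 2 * 1 * (2 * d) = 2 * 2 * d by ring, sqSign_mul h2 (mul_ne_zero h2 h2) hd,
      sqSign_of_isSquare ⟨2, rfl⟩, one_mul]
  have hsw := hab.mul_sw ht
  simp only [mul_one] at hsw
  refine ⟨a * b * t, hH.2 _ ((C.mem_Om _).2 ?_) hsw.inN, _, d, (isSO_rn (hne 1 one_ne_zero)).mul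
    (isSO_rn (hne d hd)), hsw, hd, ?_⟩
  · rw [map_mul, hx]
    refine Prod.ext ?_ ?_
    · rw [Prod.fst_mul, C.xi_fst_sw_one ht, one_mul]; rfl
    · rw [Prod.snd_mul, mul_comm, hd']; rfl
  · have hre : ∀ c : F, c ≠ 0 → rn (e + c • f) *ᵥ e = c • f := fun c hc => by
      rw [rn_mulVec, hval, add_dotProduct, smul_dotProduct, he, dotProduct_comm f e, hef]
      simp only [smul_eq_mul, mul_one, zero_add, smul_add, smul_smul]
      match_scalars <;> field_simp <;> ring
    have hrf : rn (e + (1 : F) • f) *ᵥ f = e := by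
      rw [rn_mulVec, hval, add_dotProduct, smul_dotProduct, hf, hef]
      simp only [smul_eq_mul, mul_zero, add_zero, smul_add, smul_smul]
      match_scalars <;> field_simp <;> ring
    rw [← mulVec_mulVec, hre d hd, mulVec_smul, hrf]

/-- One such element gives all Eichler transformations. -/
theorem sieGroup_le (hH : Above (N := N) H) {e s : V3 F} (he0 : e ≠ 0) (he : e ⬝ᵥ e = 0) (hs : s ≠ 0)
    (h : C.El H e s) : sieGroup Q ≤ H := by
  have h2 := C.h2
  obtain ⟨f, hf, hef⟩ := exists_partner h2 he0 he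
  have hne : (e + f) ⬝ᵥ (e + f) = 2 := by
    simp [add_dotProduct, dotProduct_add, he, hf, hef, dotProduct_comm f e]; norm_num
  have hR : IsSO (rn (e + f)) := isSO_rn (by rw [hne]; exact h2)
  have hRe : rn (e + f) *ᵥ e = f := by
    rw [rn_mulVec, hne, add_dotProduct, he, dotProduct_comm f e, hef]
    match_scalars <;> field_simp <;> ring
  obtain ⟨r, hr, hrT⟩ := C.exists_diag hH hR.orth
  have hEe := h.all hH he hs
  have hEf : ∀ w, C.El H f w := fun w => by
    have := (hEe ((rn (e + f))ᵀ *ᵥ w)).conj hr hrT hR hR.orth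
    rwa [hRe, mulVec_mulVec, show rn (e + f) * (rn (e + f))ᵀ = 1 from hR.orth, one_mulVec] at this
  have flip : ∀ {e f : V3 F}, e ⬝ᵥ e = 0 → f ⬝ᵥ f = 0 → e ⬝ᵥ f = 1 → (∀ w, C.El H e w) → ∀ w, C.El' H e w := by
    intro e f he hf hef hE w
    obtain ⟨t, ht, A, l, hA, htS, hl, hAe⟩ := C.exists_swap_diag hH he hf hef
    obtain ⟨g, hg, hga⟩ := hE ((l * l)⁻¹ • w)
    refine ⟨t * g * t⁻¹, H.mul_mem (H.mul_mem ht hg) (H.inv_mem ht), fun X => ?_⟩
    rw [C.act_mul, C.act_mul, hga, htS.inv hA.orth isOrth_one, htS]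
    simp only [transpose_add, transpose_neg, transpose_mul, transpose_transpose, transpose_one, one_mul, mul_one,
      sk_smul, transpose_smul, transpose_vecMulVec, mul_add, add_mul, mul_neg, neg_mul, neg_add, neg_neg,
      mul_smul_comm, smul_mul_assoc]
    rw [show A * (Aᵀ * X) = A * Aᵀ * X by rw [mul_assoc], show A * Aᵀ = 1 from hA.orth, one_mul]
    congr 1
    rw [show A * (vecMulVec e e * (Aᵀ * X * (sk w)ᵀ)) = A * vecMulVec e e * Aᵀ * X * (sk w)ᵀ by
      simp only [mul_assoc]]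
    rw [mul_vecMulVec, vecMulVec_mul, ← mulVec_transpose, transpose_transpose, hAe, smul_vecMulVec, vecMulVec_smul]
    simp only [smul_mul_assoc, smul_smul]
    rw [show (l * l)⁻¹ * (l * l) = 1 from inv_mul_cancel₀ (mul_ne_zero hl hl), one_smul]
  set u := vecMulVec e e with hu
  set n := e ⨯₃ f with hn
  have hu0 : (u * uᵀ).trace = 0 := by rw [hu, trace_vv, he, mul_zero]
  have hEe' := flip he hf hef hEe
  have hEf' := flip hf he (by rw [dotProduct_comm]; exact hef) hEf
  have ax_nf : ∀ c : F, C.Ax H u (c • vecMulVec n f) := fun c => by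
    obtain ⟨g, hg, hga⟩ := hEf (c • e)
    have key := (ax_right he hEe f 1).move hg
    have hgu : C.act g u = u := by
      rw [hga, hu, mul_vecMulVec, ← mulVec_mulVec, vecMulVec_mulVec, op_smul_eq_smul, hef, one_smul, sk_mulVec,
        map_smul, LinearMap.smul_apply, cross_self, smul_zero, zero_vecMulVec, add_zero]
    have hgw : C.act g (vecMulVec f e) = vecMulVec f e + c • vecMulVec n f := by
      rw [hga, mul_vecMulVec, ← mulVec_mulVec, vecMulVec_mulVec, op_smul_eq_smul, hef, one_smul, sk_mulVec,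
        map_smul, LinearMap.smul_apply, smul_vecMulVec, hn]
    rw [one_smul, hgu, hgw] at key
    have := key.add hu0 (ax_right he hEe f (-1))
    rwa [neg_one_smul, add_neg_eq_iff_eq_add.2 (add_comm _ _)] at this
  have ax_fn : ∀ c : F, C.Ax H u (c • vecMulVec f n) := fun c => by
    obtain ⟨g, hg, hga⟩ := hEf' (c • e)
    have key := (ax_left he hEe' f 1).move hg
    have hgu : C.act g u = u := by
      rw [hga, hu, vv_mul, dotProduct_comm f e, hef, one_smul, vecMulVec_mul, vecMul_transpose, sk_mulVec, map_smul,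
        LinearMap.smul_apply, cross_self, smul_zero, vecMulVec_zero, add_zero]
    have hgw : C.act g (vecMulVec e f) = vecMulVec e f + c • vecMulVec f n := by
      rw [hga, vv_mul, dotProduct_comm f e, hef, one_smul, vecMulVec_mul, vecMul_transpose, sk_mulVec, map_smul,
        LinearMap.smul_apply, vecMulVec_smul, hn]
    rw [one_smul, hgu, hgw] at key
    have := key.add hu0 (ax_left he hEe' f (-1))
    rwa [neg_one_smul, add_neg_eq_iff_eq_add.2 (add_comm _ _)] at this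
  have ax_nn : ∀ c : F, C.Ax H u (c • vecMulVec n n) := fun c => by
    have hce : (c • e) ⬝ᵥ (c • e) = 0 := by simp [he]
    obtain ⟨g, hg, hgT⟩ := C.exists_left_root hH hce
    have key := (ax_fn 1).move hg
    have hgu : C.act g u = u := by
      rw [hgT, transpose_one, mul_one, hu, mul_vecMulVec, u1_mulVec hce]
      simp [cross_self, he]
    have hgw : C.act g (vecMulVec f n) =
        vecMulVec f n + c • vecMulVec n n + (2⁻¹ * c * c) • vecMulVec e n := by
      rw [hgT, transpose_one, mul_one, mul_vecMulVec, u1_mulVec hce, add_vecMulVec, add_vecMulVec, smul_vecMulVec,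
        map_smul, LinearMap.smul_apply, smul_vecMulVec, smul_dotProduct, hef, smul_vecMulVec, smul_smul, hn]
      simp [smul_eq_mul]
    rw [one_smul, hgu, hgw] at key
    have := (key.add hu0 (ax_fn (-1))).add hu0 (ax_left he hEe' n (-(2⁻¹ * c * c)))
    convert this using 1
    module
  have hFull : H98.OrthMax.Full H (C.φ u) := by
    intro w' hu' hw'
    obtain ⟨W, rfl⟩ := C.φ.surjective w'
    suffices C.Ax H u W from this.2 hu' hw'
    have hW : e ⬝ᵥ W *ᵥ e = 0 := by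
      rw [C.polar_phi, hu, trace_vv_mul] at hw'
      exact (mul_eq_zero.1 hw').resolve_left (mul_ne_zero h2 C.hκ)
    have hexp : W =
        (f ⬝ᵥ W *ᵥ f) • vecMulVec e e + (f ⬝ᵥ W *ᵥ e) • vecMulVec e f + (-(f ⬝ᵥ W *ᵥ n)) • vecMulVec e n
        + (e ⬝ᵥ W *ᵥ f) • vecMulVec f e + (-(e ⬝ᵥ W *ᵥ n)) • vecMulVec f n
        + (-(n ⬝ᵥ W *ᵥ f)) • vecMulVec n e + (-(n ⬝ᵥ W *ᵥ e)) • vecMulVec n f
        + (n ⬝ᵥ W *ᵥ n) • vecMulVec n n := by
      refine Matrix.ext_iff_mulVec.2 fun v => ?_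
      conv_lhs => rw [expand_hyp he hf hef v, mulVec_sub, mulVec_add, mulVec_smul, mulVec_smul, mulVec_smul,
        expand_hyp he hf hef (W *ᵥ e), expand_hyp he hf hef (W *ᵥ f), expand_hyp he hf hef (W *ᵥ (e ⨯₃ f))]
      simp only [add_mulVec, smul_mulVec, vecMulVec_mulVec, op_smul_eq_smul, ← hn, hW]
      module
    rw [hexp]
    exact ((((((((Ax.self hu0 _).add hu0 (ax_left he hEe' f _)).add hu0 (ax_left he hEe' n _)).add hu0
      (ax_right he hEe f _)).add hu0 (ax_fn _)).add hu0 (ax_right he hEe n _)).add hu0 (ax_nf _)).add hu0 (ax_nn _))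
  have hFull' := hFull.map hr
  rw [← C.phi_act] at hFull'
  have hru : C.act r u = vecMulVec f f := by
    rw [hrT, hu, mul_vecMulVec, vecMulVec_mul, ← mulVec_transpose, transpose_transpose, hRe]
  rw [hru] at hFull'
  refine H98.OrthMax.sieGroup_le_of_pair C.nQ ?_ hFull hFull' ?_ ?_ ?_
  · rw [← C.φ.finrank_eq, Module.finrank_matrix, Module.finrank_self]; simp
  · rw [C.form, hu, trace_vv, he, mul_zero, mul_zero]
  · rw [C.form, trace_vv, hf, mul_zero, mul_zero]
  · rw [C.polar_phi, hu, trace_vv, hef, mul_one]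
    exact mul_ne_zero (mul_ne_zero h2 C.hκ) one_ne_zero

end Coord

end Cfsg.Agent.H55.OmegaNine
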