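import Cfsg.Agent.H55.OmegaNine.Centre

/-!
A group above the stabiliser of the tensor square without all Eichler transformations lies in the stabiliser.
-/

set_option autoImplicit false

namespace Cfsg.Agent.H55.OmegaNine

open Matrix QuadraticMap Cfsg.Agent.Orthogonal

namespace Coord

variable {F : Type*} [Field F] {ι : Type} [Fintype ι] [DecidableEq ι]
  {Q : QuadraticForm F (ι → F)} {N : Subgroup (GL ι F)} {C : Coord Q N} {H : Subgroup (O Q)}

/-- The vector of a skew matrix. -/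
def vee (X : M3 F) : V3 F := ![X 2 1, X 0 2, X 1 0]

theorem vee_sk (v : V3 F) : vee (sk v) = v := by
  funext i
  fin_cases i <;> simp [vee, sk]

theorem sk_inj {u v : V3 F} (h : sk u = sk v) : u = v := by rw [← vee_sk u, h, vee_sk]

theorem trace_sk_sk (x y : V3 F) : (sk x * (sk y)ᵀ).trace = 2 * (x ⬝ᵥ y) := by
  rw [sk_transpose, mul_neg, sk_mul_sk, trace_neg, trace_sub, trace_smul, trace_vecMulVec, trace_one,
    Fintype.card_fin, dotProduct_comm y x, smul_eq_mul]
  push_cast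
  ring

theorem Tn.act_sk {g : O Q} {A : M3 F} (h : C.Tn g A A) (hA : IsOrth A) (v : V3 F) :
    C.act g (sk v) = sk (A.det • A *ᵥ v) := by
  rw [h, hA.sk_conj, sk_smul]

/-- Swaps commute with diagonal elements. -/
theorem Sw.comm_diag {t g : O Q} {A : M3 F} (ht : C.Sw t 1 1) (h : C.Tn g A A) : t * g = g * t := by
  have e1 := ht.mul_tn h
  have e2 := h.mul_sw ht
  rw [one_mul] at e1
  rw [mul_one] at e2
  exact C.ext_act fun X => by rw [e1, e2]

variable [Finite F]

/-- The centraliser of the standard swap. -/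
theorem inN_of_comm_sw (hH : Above (N := N) H) (hS : ¬ sieGroup Q ≤ H) {t : O Q} (ht : C.Sw t 1 1) (htH : t ∈ H)
    {c : O Q} (hc : c ∈ H) (hct : c * t = t * c) : InN (N := N) c := by
  have h2 := C.h2
  have := finite_GO (Q := Q)
  have ht2 : t * t = 1 := by
    have := ht.mul ht
    rw [one_mul] at this
    exact this.ext tn_one
  have htN : InN (N := N) t := ht.inN
  have ht1 : t ≠ 1 := fun e => (tn_one (C := C)).ne_sw (e ▸ ht) isSO_one isSO_one isSO_one isSO_one
  have hskt : ∀ v, C.act t (sk v) = sk v := fun v => by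
    rw [ht, transpose_one, one_mul, mul_one, sk_transpose, neg_neg]
  let K : Subgroup (O Q) :=
    { carrier := {k | k ∈ H ∧ k * t = t * k ∧ ∀ v, C.act k (sk v) = sk v}
      one_mem' := ⟨H.one_mem, by rw [one_mul, mul_one], fun _ => C.act_one _⟩
      mul_mem' := fun {a b} ⟨ha, hat, haf⟩ ⟨hb, hbt, hbf⟩ => ⟨H.mul_mem ha hb,
        by rw [mul_assoc, hbt, ← mul_assoc, hat, mul_assoc], fun v => by rw [C.act_mul, hbf, haf]⟩
      inv_mem' := fun {a} ⟨ha, hat, haf⟩ => ⟨H.inv_mem ha, by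
          rw [inv_mul_eq_iff_eq_mul, ← mul_assoc, hat, mul_inv_cancel_right], fun v => by
          conv_lhs => rw [← haf v]
          exact C.act_inv a _⟩ }
  have htK : t ∈ K := ⟨htH, rfl, hskt⟩
  -- the elements of the stabiliser fixing the skew matrices
  have hKTn : ∀ k ∈ K, ∀ A B, IsSO A → IsSO B → C.Tn k A B → k = 1 := by
    rintro k ⟨-, hkt, hkf⟩ A B hA hB hT
    have e := hT.conj_sw ht isOrth_one isOrth_one
    rw [show t * k * t⁻¹ = k by rw [← hkt, mul_inv_cancel_right]] at e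
    simp only [transpose_one, one_mul, mul_one] at e
    obtain ⟨rfl, -⟩ := hT.inj e hA hB hB hA
    have hA1 : A = 1 := Matrix.ext_iff_mulVec.2 fun v => by
      have := hkf v
      rw [hT.act_sk hA.orth, hA.det, one_smul] at this
      rw [sk_inj this, one_mulVec]
    rw [hA1] at hT
    exact hT.ext tn_one
  have hKN : ∀ k ∈ K, InN (N := N) k → k = 1 ∨ k = t := by
    intro k hk hkN
    obtain ⟨A, B, hA, hB, hT | hT⟩ := InN.normal_form (C := C) hkN (hH.1 hk.1)
    · exact Or.inl (hKTn k hk A B hA hB hT)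
    · have := hT.mul ht
      rw [mul_one, mul_one] at this
      have e := hKTn _ (K.mul_mem hk htK) A B hA hB this
      exact Or.inr (by rw [eq_inv_of_mul_eq_one_left e, inv_eq_of_mul_eq_one_right ht2])
  obtain ⟨k1, hk1⟩ : ∃ k : V3 F, k ⬝ᵥ k = 1 := ⟨![1, 0, 0], by simp [dotProduct, Fin.sum_univ_three]⟩
  obtain ⟨k2, k3, hk2, hk3, hk12, hprod, hprodc⟩ := exists_frame_unit h2 hk1
  have hk10 : k1 ⬝ᵥ k1 ≠ 0 := by rw [hk1]; exact one_ne_zero
  have hk20 : k2 ⬝ᵥ k2 ≠ 0 := by rw [hk2]; exact one_ne_zero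
  have hk30 : k3 ⬝ᵥ k3 ≠ 0 := by rw [hk3]; exact one_ne_zero
  -- K is trivial modulo the swap
  have hKall : ∀ k ∈ K, k = 1 ∨ k = t := by
    set G : Subgroup (O Q) := H ⊓ Subgroup.centralizer {t}
    have memG : ∀ {g : O Q}, g ∈ H → g * t = t * g → g ∈ G := fun h1 h2 =>
      ⟨h1, Subgroup.mem_centralizer_singleton_iff.2 h2⟩
    set tG : G := ⟨t, memG htH rfl⟩
    have hcen : ∀ g : G, g * tG = tG * g := fun g => Subtype.ext (Subgroup.mem_centralizer_singleton_iff.1 g.2.2)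
    set W := Subgroup.zpowers tG
    have : W.Normal := ⟨fun x hx g => by
      obtain ⟨i, rfl⟩ := hx
      have : Commute g (tG ^ i) := Commute.zpow_right (hcen g) i
      rw [this.eq, mul_inv_cancel_right]
      exact ⟨i, rfl⟩⟩
    have hWmem : ∀ x : G, x ∈ W → (x : O Q) = 1 ∨ (x : O Q) = t := by
      rintro x ⟨i, rfl⟩
      have e : tG * tG = 1 := Subtype.ext ht2
      rcases Int.even_or_odd i with ⟨r, rfl⟩ | ⟨r, rfl⟩
      · left; dsimp only; rw [← two_mul, _root_.zpow_mul, zpow_two, e, _root_.one_zpow]; rfl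
      · right; dsimp only; rw [_root_.zpow_add, zpow_one, _root_.zpow_mul, zpow_two, e, _root_.one_zpow, one_mul]
    let π := QuotientGroup.mk' W
    have hlift : ∀ {x y : G}, π x = π y → (x : O Q) = y ∨ (x : O Q) = y * t := by
      intro x y h
      rcases hWmem _ (QuotientGroup.eq.1 h.symm : y⁻¹ * x ∈ W) with e | e
      · left; simp only [Subgroup.coe_mul, Subgroup.coe_inv] at e; exact (inv_mul_eq_one.1 e).symm
      · right; simp only [Subgroup.coe_mul, Subgroup.coe_inv] at e; rw [← e, mul_inv_cancel_left]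
    have hdiag : ∀ n : V3 F, n ⬝ᵥ n = 1 → ∃ y : G, C.Tn (y : O Q) (rn n) (rn n) := fun n hn => by
      have hn0 : n ⬝ᵥ n ≠ 0 := by rw [hn]; exact one_ne_zero
      obtain ⟨y, hy, hyT⟩ := C.exists_diag hH (isSO_rn hn0).orth
      exact ⟨⟨y, memG hy (ht.comm_diag hyT).symm⟩, hyT⟩
    set Kb := (K.subgroupOf G).map π
    have hconj : ∀ (y : G) (n : V3 F), n ⬝ᵥ n = 1 → C.Tn (y : O Q) (rn n) (rn n) →
        (π y * π y = 1) ∧ (∀ x ∈ Kb, π y * x * π y ∈ Kb) ∧ (∀ x ∈ Kb, π y * x * π y = x → x = 1) := by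
      intro y n hn hy
      have hn0 : n ⬝ᵥ n ≠ 0 := by rw [hn]; exact one_ne_zero
      have hy2 : y * y = 1 := Subtype.ext (hy.sq_one (rn_mul_self n) (rn_mul_self n))
      have hyt : (y : O Q) * t = t * y := (ht.comm_diag hy).symm
      refine ⟨by rw [← map_mul, hy2, map_one], ?_, ?_⟩
      · rintro _ ⟨k, hk, rfl⟩
        obtain ⟨hkH, hkt, hkf'⟩ := hk
        have hkf : ∀ v, C.act (k : O Q) (sk v) = sk v := hkf'
        refine ⟨y * k * y, ⟨(y * k * y).2.1, Subgroup.mem_centralizer_singleton_iff.1 (y * k * y).2.2, fun v => ?_⟩, by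
          rw [map_mul, map_mul]⟩
        simp only [Subgroup.coe_subtype, Subgroup.coe_mul, C.act_mul]
        rw [hy.act_sk (isSO_rn hn0).orth, hkf, hy.act_sk (isSO_rn hn0).orth, (isSO_rn hn0).det, one_smul, one_smul,
          mulVec_mulVec, rn_mul_self, one_mulVec]
      · rintro _ ⟨k, hk, rfl⟩ e
        rw [← map_mul, ← map_mul] at e
        have hy' : (y : O Q)⁻¹ = y := inv_eq_of_mul_eq_one_right (congrArg Subtype.val hy2)
        rcases hlift e with e' | e'
        · simp only [Subgroup.coe_mul] at e'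
          have hky : (k : O Q) * y = y * k := by
            calc (k : O Q) * y = y * k * y * y := by rw [e']
              _ = y * k * (y * y) := mul_assoc _ _ _
              _ = _ := by rw [show (y : O Q) * y = 1 from congrArg Subtype.val hy2, mul_one]
          have hkN := inN_of_comm_ys hH hS hn hn y.2.1 hy hk.1 hky
          refine (QuotientGroup.eq_one_iff _).2 ?_
          rcases hKN _ hk hkN with h | h
          · rw [show k = 1 from Subtype.ext h]; exact W.one_mem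
          · rw [show k = tG from Subtype.ext h]; exact Subgroup.mem_zpowers tG
        · exfalso
          simp only [Subgroup.coe_mul] at e'
          have hky : (k : O Q)⁻¹ * y * k = t * y := by
            calc (k : O Q)⁻¹ * y * k = (k : O Q)⁻¹ * (y * k * y) * (y : O Q)⁻¹ := by group
              _ = t * (y : O Q)⁻¹ := by rw [e', ← mul_assoc, inv_mul_cancel, one_mul]
              _ = _ := by rw [hy']
          have e1 := congrArg C.trc hky
          rw [show (k : O Q)⁻¹ * y * k = (k : O Q)⁻¹ * y * ((k : O Q)⁻¹)⁻¹ by rw [inv_inv], C.trc_conj,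
            trc_both hn0 hn0 hy, (ht.mul_tn hy).trc] at e1
          simp only [one_mul, rn_mul_self, trace_one, Fintype.card_fin] at e1
          exact C.one_ne_neg_three (by push_cast at e1; exact e1)
    obtain ⟨y1, hy1⟩ := hdiag k1 hk1
    obtain ⟨y2, hy2⟩ := hdiag k2 hk2
    obtain ⟨a2, aK, af⟩ := hconj y1 k1 hk1 hy1
    obtain ⟨b2, bK, bf⟩ := hconj y2 k2 hk2 hy2
    have hy12 : C.Tn ((y1 * y2 : G) : O Q) (rn k3) (rn k3) := by
      have := hy1.mul hy2
      rwa [hprod] at this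
    obtain ⟨-, -, cf⟩ := hconj (y1 * y2) k3 hk3 hy12
    rw [map_mul] at cf
    have hbot : Kb = ⊥ := eq_bot_of_free a2 b2 (by
      rw [← map_mul, ← map_mul, show y1 * y2 = y2 * y1 from Subtype.ext (hy1.comm hy2 hprodc hprodc)]) aK bK af bf cf
    intro k hk
    have hkm : π ⟨k, memG hk.1 hk.2.1⟩ ∈ Kb := ⟨_, hk, rfl⟩
    rw [hbot, Subgroup.mem_bot] at hkm
    exact hWmem _ ((QuotientGroup.eq_one_iff _).1 hkm)
  -- the action on skew matrices
  obtain ⟨p, hp⟩ := CharP.exists F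
  have hpp : p.Prime := CharP.char_is_prime F p
  have := Fact.mk hpp
  let L : V3 F →ₗ[F] V3 F :=
    { toFun := fun x => vee (C.act c (sk x))
      map_add' := fun x y => by rw [sk_add, map_add]; funext i; fin_cases i <;> simp [vee]
      map_smul' := fun r x => by rw [sk_smul, map_smul]; funext i; fin_cases i <;> simp [vee] }
  set B := LinearMap.toMatrix' L
  have hB : ∀ x, C.act c (sk x) = sk (B *ᵥ x) := fun x => by
    have e : C.act t (C.act c (sk x)) = C.act c (sk x) := by rw [← C.act_mul, ← hct, C.act_mul, hskt]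
    rw [ht, transpose_one, one_mul, mul_one] at e
    obtain ⟨s, hs⟩ := exists_sk h2 (neg_eq_iff_eq_neg.1 e)
    rw [LinearMap.toMatrix'_mulVec, show L x = vee (C.act c (sk x)) from rfl, hs, vee_sk]
  have hBo : IsOrth B := mul_eq_one_comm.1 (Matrix.ext_iff_mulVec.2 fun x => dotProduct_eq _ _ fun y => by
    have e1 := C.act_ip c (sk x) (sk y)
    rw [hB, hB, trace_sk_sk, trace_sk_sk] at e1
    rw [one_mulVec, ← mul_left_cancel₀ h2 e1, ← mulVec_mulVec, mulVec_transpose, ← dotProduct_mulVec])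
  obtain ⟨a, haH, ha⟩ := C.exists_diag hH hBo
  have hat : a * t = t * a := (ht.comm_diag ha).symm
  have hroots : ∀ e : V3 F, e ⬝ᵥ e = 0 → ∀ d, C.Tn d (u1 e) (u1 e) → a⁻¹ * c * d = d * (a⁻¹ * c) := by
    intro e he d hd
    have hu := isSO_u1 h2 he
    have hdH : d ∈ H := by
      obtain ⟨d0, hd0, hd0T⟩ := C.exists_diag hH hu.orth
      rwa [hd.ext hd0T]
    have hdt : d * t = t * d := (ht.comm_diag hd).symm
    set d' := a * d * a⁻¹
    have hd' : C.Tn d' (u1 (B.det • B *ᵥ e)) (u1 (B.det • B *ᵥ e)) := by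
      have := hd.conj ha hBo hBo
      rwa [hBo.u1_conj] at this
    have he' : (B.det • B *ᵥ e) ⬝ᵥ (B.det • B *ᵥ e) = 0 := by simp [hBo.dot, he]
    have hu' := isSO_u1 h2 he'
    have hd'H : d' ∈ H := H.mul_mem (H.mul_mem haH hdH) (H.inv_mem haH)
    have hd't : d' * t = t * d' := (ht.comm_diag hd').symm
    have comm3 : ∀ {x y : O Q}, x * t = t * x → y * t = t * y → x * y * t = t * (x * y) := fun h h' => by
      rw [mul_assoc, h', ← mul_assoc, h, mul_assoc]
    have commi : ∀ {x : O Q}, x * t = t * x → x⁻¹ * t = t * x⁻¹ := fun h => by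
      rw [inv_mul_eq_iff_eq_mul, ← mul_assoc, h, mul_inv_cancel_right]
    set k := c * d * c⁻¹ * d'⁻¹
    have hkK : k ∈ K := by
      refine ⟨H.mul_mem (H.mul_mem (H.mul_mem hc hdH) (H.inv_mem hc)) (H.inv_mem hd'H),
        comm3 (comm3 (comm3 hct hdt) (commi hct)) (commi hd't), fun v => ?_⟩
      obtain ⟨z, rfl⟩ : ∃ z, v = B *ᵥ u1 e *ᵥ z := ⟨(u1 e)ᵀ *ᵥ Bᵀ *ᵥ v, by
        rw [mulVec_mulVec _ (u1 e), show u1 e * (u1 e)ᵀ = 1 from hu.orth, one_mulVec, mulVec_mulVec,
          show B * Bᵀ = 1 from hBo, one_mulVec]⟩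
      have e1 : C.act d' (sk (B *ᵥ z)) = sk (B *ᵥ u1 e *ᵥ z) := by
        rw [hd'.act_sk hu'.orth, hu'.det, one_smul, ← hBo.u1_conj, mulVec_mulVec, mul_assoc, hBo.tmul, mul_one,
          mulVec_mulVec]
      have e2 : C.act d (sk z) = sk (u1 e *ᵥ z) := by rw [hd.act_sk hu.orth, hu.det, one_smul]
      rw [C.act_mul, ← e1, C.act_inv, C.act_mul, C.act_mul, ← hB, C.act_inv, e2, hB, hB, e1]
    have hdp : ∀ {g : O Q} {w : V3 F}, w ⬝ᵥ w = 0 → C.Tn g (u1 w) (u1 w) → g ^ p = 1 := fun {g w} hw hg => by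
      have hup : u1 w ^ p = 1 := by
        have := u1_smul_add h2 hw p (1 : F)
        rwa [one_smul, CharP.cast_eq_zero, zero_mul, zero_smul, u1_zero] at this
      have := tn_pow hg p
      rw [hup] at this
      exact this.ext tn_one
    have hk1 : k = 1 := (hKall k hkK).resolve_right fun hkt => ht1 ?_
    · refine mul_left_cancel (a := a) ?_
      have e1 : c * d * c⁻¹ = a * d * a⁻¹ := mul_inv_eq_one.1 hk1
      calc a * (a⁻¹ * c * d) = c * d * c⁻¹ * c := by group
        _ = a * d * a⁻¹ * c := by rw [e1]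
        _ = a * (d * (a⁻¹ * c)) := by group
    · have e1 : (t * d') ^ p = 1 := by
        rw [← hkt, inv_mul_cancel_right, conj_pow, hdp he hd, mul_one, mul_inv_cancel]
      rw [(show Commute t d' from hd't.symm).mul_pow, hdp he' hd', mul_one] at e1
      obtain ⟨r, hr⟩ := hpp.odd_of_ne_two (fun e2 => h2 (by subst e2; exact_mod_cast CharP.cast_eq_zero F 2))
      rwa [hr, pow_succ, pow_mul, pow_two, ht2, one_pow, one_mul] at e1
  obtain ⟨e, he, hne⟩ := exists_iso_dot_one h2 hk1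
  have he' : ((2 : F) • k1 - e) ⬝ᵥ ((2 : F) • k1 - e) = 0 := by
    simp [sub_dotProduct, dotProduct_sub, smul_dotProduct, dotProduct_smul, hk1, he, hne, dotProduct_comm e k1]
    ring
  obtain ⟨d1, hd1H, hd1⟩ := C.exists_diag hH (isSO_u1 h2 he).orth
  obtain ⟨d2, hd2H, hd2⟩ := C.exists_diag hH (isSO_u1 h2 he').orth
  have hy := (hd1.mul hd2).mul hd1
  rw [rn_eq_roots h2 hk1 he hne] at hy
  have c1 : Commute (a⁻¹ * c) d1 := hroots e he d1 hd1
  have c2 : Commute (a⁻¹ * c) d2 := hroots _ he' d2 hd2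
  have := inN_of_comm_ys hH hS hk1 hk1 (H.mul_mem (H.mul_mem hd1H hd2H) hd1H) hy
    (H.mul_mem (H.inv_mem haH) hc) ((c1.mul_right c2).mul_right c1)
  have := (Tn.inN ha).mul this
  rwa [mul_inv_cancel_left] at this

/-- The centraliser of any involution of the stabiliser. -/
theorem inN_of_comm (C : Coord Q N) (hH : Above (N := N) H) (hS : ¬ sieGroup Q ≤ H) {w : O Q} (hwH : w ∈ H) (hwN : InN (N := N) w)
    (hw2 : w * w = 1) (hw1 : w ≠ 1) {x : O Q} (hx : x ∈ H) (hxw : x * w = w * x) : InN (N := N) x := by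
  rcases invol_cases (C := C) hH hwH hwN hw2 hw1 with ⟨n, hn, hT⟩ | ⟨n, hn, hT⟩ | ⟨n, m, hn, hm, hnm, hT⟩ |
    ⟨A, hA, hT⟩
  · exact inN_of_comm_left hH (C.noEl_of_not_le hH hS) (by rw [hn]; exact one_ne_zero) hT hx hxw
  · exact inN_of_comm_right hH (C.flip.noEl_of_not_le hH hS) (by rw [hn]; exact one_ne_zero) hT hx hxw
  · by_cases hsq : IsSquare (n ⬝ᵥ n)
    · have hsm : IsSquare (m ⬝ᵥ m) := sqSign_eq_one_iff.1 (hnm ▸ sqSign_eq_one_iff.2 hsq)
      obtain ⟨n', hn', e1⟩ := exists_unit_axis hn hsq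
      obtain ⟨m', hm', e2⟩ := exists_unit_axis hm hsm
      rw [← e1, ← e2] at hT
      exact inN_of_comm_ys hH hS hn' hm' hwH hT hx hxw
    · exact inN_of_comm_ns hH hS hn hm hsq
        (fun h => hsq (sqSign_eq_one_iff.1 (hnm.trans (sqSign_eq_one_iff.2 h)))) hwH hT hx hxw
  · exact inN_of_comm_sw (C := C.leftCoord hA.orth) hH hS (hT.leftCoord hA.orth) hwH hx hxw

/-- A group above the stabiliser without all Eichler transformations lies in the stabiliser. -/
theorem inN_all (C : Coord Q N) (hH : Above (N := N) H) (hS : ¬ sieGroup Q ≤ H) {x : O Q} (hx : x ∈ H) :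
    InN (N := N) x := by
  have h2 := C.h2
  have := finite_GO (Q := Q)
  have hnf := C.noEl_of_not_le hH hS
  obtain ⟨n, hn⟩ : ∃ k : V3 F, k ⬝ᵥ k = 1 := ⟨![1, 0, 0], by simp [dotProduct, Fin.sum_univ_three]⟩
  have hn0 : n ⬝ᵥ n ≠ 0 := by rw [hn]; exact one_ne_zero
  obtain ⟨z, hzH, hz⟩ := C.exists_left_unit hH hn
  obtain ⟨y, hyH, hy⟩ := C.exists_diag hH (isSO_rn hn0).orth
  set z' := x * z * x⁻¹ with hz'
  have hz'H : z' ∈ H := H.mul_mem (H.mul_mem hx hzH) (H.inv_mem hx)
  have hz'2 : z' * z' = 1 := sq_eq_one_of_conj (hz.sq_one (rn_mul_self n) (one_mul 1))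
  have hy2 : y * y = 1 := hy.sq_one (rn_mul_self n) (rn_mul_self n)
  have ht' : C.trc z' = -3 := by rw [hz', C.trc_conj, trc_left hn0 hz]
  obtain ⟨⟨w, hwH⟩, hw2, hw1, hwy, hwz⟩ := exists_common_of_not_conj (G := H) (a := ⟨y, hyH⟩) (b := ⟨z', hz'H⟩)
    (Subtype.ext hy2) (Subtype.ext hz'2) fun g e => C.one_ne_neg_three (by
      have e1 := congrArg C.trc (congrArg Subtype.val e)
      simp only [Subgroup.coe_mul, Subgroup.coe_inv, C.trc_conj, trc_both hn0 hn0 hy, ht'] at e1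
      exact e1)
  have hwy' : w * y = y * w := congrArg Subtype.val hwy
  have hwz' : w * z' = z' * w := congrArg Subtype.val hwz
  have hw1' : w ≠ 1 := fun e => hw1 (Subtype.ext e)
  have hwN := inN_of_comm_ys hH hS hn hn hyH hy hwH hwy'
  have hz'N := inN_of_comm C hH hS hwH hwN (congrArg Subtype.val hw2) hw1' hz'H hwz'.symm
  have hz'1 : z' ≠ 1 := fun e => rn_ne_one h2 hn0 ((hz.one_iff (isSO_rn hn0) isSO_one).1 (conj_eq_one_iff.1 e)).1
  rcases invol_cases (C := C) hH hz'H hz'N hz'2 hz'1 with ⟨k, hk, hT⟩ | ⟨k, hk, hT⟩ | ⟨k, l, hk, hl, -, hT⟩ |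
    ⟨A, hA, hT⟩
  · exact inN_of_left hH hnf hn hk hz hx hT
  · exact inN_of_swap hH hnf hn hk hz hx hT
  · exact absurd ((trc_both hk hl hT).symm.trans ht') C.one_ne_neg_three
  · refine absurd ?_ (sw_not_conj hH hS hA hT hz'H hn0 hz (x := x⁻¹) (H.inv_mem hx))
    rw [hz']; group

end Coord

end Cfsg.Agent.H55.OmegaNine
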